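import Cfsg.Agent.Lib.Homogeneous.OddCore
import Cfsg.Agent.Lib.MetacyclicTwoAut
import Cfsg.Agent.S0071

/-!
A perfect homogeneous group all of whose involutions are central has only one involution.
-/

set_option autoImplicit false
set_option linter.unusedSectionVars false
set_option maxSynthPendingDepth 3
set_option maxHeartbeats 400000

namespace CfsgLib.Homogeneous

open Subgroup Module
open scoped IsMulCommutative

universe u

variable {G : Type u} [Group G] [Finite G]

local instance : Fact (Nat.Prime 2) := ⟨Nat.prime_two⟩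

theorem zmod_two : ∀ c : ZMod 2, c = 0 ∨ c = 1 := by decide

/-- A normal 2-subgroup of the automizer of a largest 2-subgroup with a non-2-automizer is inner. -/
theorem inner_of_normal_two {P : Subgroup G} (hP : IsPGroup 2 P) (hnon : ¬ IsPGroup 2 (autz P))
    (hmax : ∀ Q : Subgroup G, IsPGroup 2 Q → P < Q → IsPGroup 2 (autz Q))
    {B : Subgroup (↥P ≃* ↥P)} (hle : B ≤ autz P) (hB : IsPGroup 2 B)
    (hnorm : ∀ α ∈ autz P, ∀ β ∈ B, α * β * α⁻¹ ∈ B) {β : ↥P ≃* ↥P} (hβ : β ∈ B) :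
    ∃ t : ↥P, ∀ x : ↥P, β x = t * x * t⁻¹ := by
  set φ := P.normalizerMonoidHom with hφdef
  have hrange : autz P = φ.range := autz_eq_range P
  set I := (MulAut.conj : ↥P →* (↥P ≃* ↥P)).range with hI
  haveI : I.Normal := ⟨fun γ ⟨t, ht⟩ α => ⟨α t, by
    rw [← ht]
    ext x
    simp [MulAut.conj_apply, MulAut.mul_apply]⟩⟩
  have hIp : IsPGroup 2 I := IsPGroup.of_surjective hP _ (MonoidHom.rangeRestrict_surjective _)
  set M := B ⊔ I with hM
  have hMp : IsPGroup 2 M := IsPGroup.to_sup_of_normal_right hB hIp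
  have hPN : P ≤ normalizer (P : Set G) := Subgroup.le_normalizer
  have hIle : I ≤ autz P := by
    rintro _ ⟨t, rfl⟩
    exact ⟨t, fun a => rfl⟩
  have hMle : M ≤ autz P := sup_le hle hIle
  have hMnorm : ∀ α ∈ autz P, ∀ γ ∈ M, α * γ * α⁻¹ ∈ M := by
    intro α hα γ hγ
    obtain ⟨b, hb, i, hi, rfl⟩ := mem_sup_of_normal_right.1 hγ
    rw [show α * (b * i) * α⁻¹ = (α * b * α⁻¹) * (α * i * α⁻¹) by group]
    exact mul_mem (mem_sup_left (hnorm α hα b hb)) (mem_sup_right (‹I.Normal›.conj_mem i hi α))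
  haveI : (M.comap φ).Normal := ⟨fun n hn m => by
    rw [mem_comap, map_mul, map_mul, map_inv]
    exact hMnorm _ (hrange ▸ ⟨m, rfl⟩) _ hn⟩
  set N₀ := M.comap φ with hN₀
  by_cases hall : ∀ n : ↥(normalizer (P : Set G)), n ∈ N₀ → (∃ k, n ^ 2 ^ k = 1) → (n : G) ∈ P
  · obtain ⟨n, hn⟩ := MonoidHom.mem_range.1 (hrange ▸ hle hβ : β ∈ φ.range)
    obtain ⟨a, w, hw2, hw⟩ := Nat.exists_eq_pow_mul_and_not_dvd (orderOf_pos n).ne' 2 (by norm_num)
    obtain ⟨j, hj⟩ := IsPGroup.iff_orderOf.1 hMp ⟨β, mem_sup_left hβ⟩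
    have hnN : n ∈ N₀ := by
      rw [hN₀, mem_comap, hn]
      exact mem_sup_left hβ
    have hw' : (n ^ w : ↥(normalizer (P : Set G))) ^ 2 ^ a = 1 := by
      rw [← pow_mul, mul_comm, ← hw, pow_orderOf_eq_one]
    have hnP := hall (n ^ w) (pow_mem hnN w) ⟨a, hw'⟩
    have hcop : (orderOf β).Coprime w := by
      have : orderOf β = 2 ^ j := (Subgroup.orderOf_coe (⟨β, mem_sup_left hβ⟩ : ↥M)).trans hj
      rw [this]
      exact Nat.Coprime.pow_left _ ((Nat.prime_two.coprime_iff_not_dvd).2 hw2)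
    obtain ⟨i, hi⟩ := exists_pow_eq_self_of_coprime hcop.symm
    refine ⟨(⟨_, hnP⟩ : ↥P) ^ i, fun x => ?_⟩
    have e : φ ((n ^ w) ^ i) = β := by rw [map_pow, map_pow, hn, hi]
    rw [← e]
    refine Subtype.ext ?_
    show (((n ^ w) ^ i : ↥(normalizer (P : Set G))) : G) * x * (((n ^ w) ^ i : ↥(normalizer (P : Set G))) : G)⁻¹ = _
    simp
  · exfalso
    push Not at hall
    obtain ⟨n₀, hn₀, ⟨k₀, hk₀⟩, hn₀P⟩ := hall
    refine hnon ?_
    set P₁ := P.subgroupOf (normalizer (P : Set G)) with hP₁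
    haveI : P₁.Normal := normal_in_normalizer
    have hP₁N : P₁ ≤ N₀ := fun x hx => by
      rw [hN₀, mem_comap]
      exact mem_sup_right ⟨⟨x, mem_subgroupOf.1 hx⟩, MulEquiv.ext fun a => Subtype.ext rfl⟩
    have hz : IsPGroup 2 (zpowers n₀) := IsPGroup.iff_orderOf.2 fun x => by
      obtain ⟨i, hi⟩ := (Nat.dvd_prime_pow Nat.prime_two).1 ((orderOf_dvd_natCard x).trans
        ((Nat.card_zpowers _).dvd.trans (orderOf_dvd_of_pow_eq_one hk₀)))
      exact ⟨i, hi.2⟩
    have hP₁p : IsPGroup 2 P₁ := IsPGroup.comap_subtype hP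
    have hU : IsPGroup 2 ((zpowers n₀ ⊔ P₁).subgroupOf N₀) := IsPGroup.comap_subtype
      (IsPGroup.to_sup_of_normal_right hz hP₁p)
    obtain ⟨R, hR⟩ := hU.exists_le_sylow
    set R' := ((R : Subgroup ↥N₀).map N₀.subtype).map (normalizer (P : Set G)).subtype with hR'
    have hPR : P < R' := by
      have key : ∀ x ∈ zpowers n₀ ⊔ P₁, (x : G) ∈ R' := fun x hx => by
        have hxN : x ∈ N₀ := (sup_le (zpowers_le.2 hn₀) hP₁N) hx
        exact mem_map_of_mem _ (show x ∈ (R : Subgroup ↥N₀).map N₀.subtype from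
          ⟨⟨x, hxN⟩, hR (mem_subgroupOf.2 hx), rfl⟩)
      refine lt_of_le_of_ne (fun x hx => key ⟨x, hPN hx⟩ (mem_sup_right (mem_subgroupOf.2 hx))) fun e => hn₀P ?_
      have := key n₀ (mem_sup_left (mem_zpowers n₀))
      rwa [← e] at this
    have hRp : IsPGroup 2 R' := (R.2.map _).map _
    have hR2 := hmax R' hRp hPR
    intro α
    obtain ⟨α, hα⟩ := α
    obtain ⟨n, hn⟩ := MonoidHom.mem_range.1 (hrange ▸ hα : α ∈ φ.range)
    have hsup : n ∈ N₀ ⊔ normalizer (((R : Subgroup ↥N₀).map N₀.subtype : Subgroup _) : Set _) := by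
      rw [sup_comm]
      rw [Sylow.normalizer_sup_eq_top R]
      exact mem_top n
    obtain ⟨c, hc, m, hm, hcm⟩ := mem_sup_of_normal_left.1 hsup
    have hmR : (m : G) ∈ normalizer (R' : Set G) := by
      refine mem_normalizer_iff.2 fun x => ?_
      constructor
      · rintro ⟨y, hy, rfl⟩
        exact ⟨m * y * m⁻¹, (mem_normalizer_iff.1 hm y).1 hy, rfl⟩
      · rintro ⟨y, hy, hxy⟩
        refine ⟨m⁻¹ * y * m, (mem_normalizer_iff'' (g := m)).1 hm y |>.1 hy, ?_⟩
        simp only [Subgroup.coe_subtype, Subgroup.coe_mul, Subgroup.coe_inv] at hxy ⊢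
        rw [hxy]; group
    obtain ⟨k, hk⟩ := hR2 ⟨R'.normalizerMonoidHom ⟨m, hmR⟩, (autz_eq_range R').symm ▸ ⟨_, rfl⟩⟩
    have hφm : φ m ^ 2 ^ k = 1 := by
      rw [← map_pow]
      refine MulEquiv.ext fun x => Subtype.ext ?_
      have h1 : R'.normalizerMonoidHom (⟨m, hmR⟩ ^ 2 ^ k) = 1 := by
        rw [map_pow]; exact congrArg Subtype.val hk
      have h2 := congrArg (fun f : ↥R' ≃* ↥R' => ((f ⟨x, hPR.le x.2⟩ : ↥R') : G)) h1
      show ((m ^ 2 ^ k : ↥(normalizer (P : Set G))) : G) * x * ((m ^ 2 ^ k : ↥(normalizer (P : Set G))) : G)⁻¹ = x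
      simpa using h2
    have hb : φ c ∈ M := hc
    have hmem : ∀ j : ℕ, (φ c * φ m) ^ j * (φ m ^ j)⁻¹ ∈ M := fun j => by
      induction j with
      | zero => simp
      | succ j ih =>
        rw [pow_succ', pow_succ', show φ c * φ m * (φ c * φ m) ^ j * (φ m * φ m ^ j)⁻¹ =
          φ c * (φ m * ((φ c * φ m) ^ j * (φ m ^ j)⁻¹) * (φ m)⁻¹) by group]
        exact mul_mem hb (hMnorm _ (hrange ▸ ⟨m, rfl⟩) _ ih)
    have h3 : α ^ 2 ^ k ∈ M := by
      have := hmem (2 ^ k)
      rw [hφm, inv_one, mul_one, ← map_mul, hcm, hn] at this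
      exact this
    obtain ⟨i, hi⟩ := hMp ⟨_, h3⟩
    refine ⟨k + i, Subtype.ext ?_⟩
    rw [SubgroupClass.coe_pow, pow_add, pow_mul]
    exact congrArg Subtype.val hi

theorem central_pair {H : Type*} [Group H] {s t a b : H} (h1 : s * t * s⁻¹ = t * a) (h2 : t * s * t⁻¹ = s * b)
    (ha : a ∈ center H) (hb : b ∈ center H) : b * a = 1 := by
  rw [mul_inv_eq_iff_eq_mul] at h1 h2
  have e : s * t = s * t * (b * a) :=
    calc s * t = t * a * s := h1
      _ = t * s * a := by rw [mul_assoc t a s, ← mem_center_iff.1 ha s, ← mul_assoc]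
      _ = s * b * t * a := by rw [h2]
      _ = s * t * b * a := by rw [mul_assoc s b t, ← mem_center_iff.1 hb t, ← mul_assoc]
      _ = _ := mul_assoc _ _ _
  exact left_eq_mul.1 e

/-- Maps out of a plane over the field with two elements are sums of injective ones. -/
theorem forall_of_injective {R : Type*} [AddCommGroup R] [Module (ZMod 2) R] [Module.Finite (ZMod 2) R]
    {W : Type*} [AddCommGroup W] [Module (ZMod 2) W] (hR : finrank (ZMod 2) R = 2) (hW : 2 ≤ finrank (ZMod 2) W)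
    {Q : (R →ₗ[ZMod 2] W) → Prop} (h0 : Q 0) (hadd : ∀ a₁ a₂, Q a₁ → Q a₂ → Q (a₁ + a₂))
    (hinj : ∀ a : R →ₗ[ZMod 2] W, Function.Injective a → Q a) (a : R →ₗ[ZMod 2] W) : Q a := by
  let b := Module.finBasisOfFinrankEq (ZMod 2) R hR
  have hzz : ∀ z : W, z + z = 0 := fun z => by
    rw [← two_smul (ZMod 2), show (2 : ZMod 2) = 0 from rfl, zero_smul]
  have hi : ∀ u v : W, LinearIndependent (ZMod 2) ![u, v] → Q (b.constr (ZMod 2) ![u, v]) := fun u v huv =>
    hinj _ (b.injective_constr_of_linearIndependent huv)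
  have hw : ∀ c : W, c ≠ 0 → ∃ w, w ∉ Submodule.span (ZMod 2) {c} := fun c hc => by
    by_contra hall
    push Not at hall
    have htop : Submodule.span (ZMod 2) {c} = ⊤ := eq_top_iff.2 fun z _ => hall z
    have := finrank_span_singleton (K := ZMod 2) hc
    rw [htop, finrank_top] at this
    omega
  have hpair : ∀ c w : W, c ≠ 0 → w ∉ Submodule.span (ZMod 2) {c} →
      LinearIndependent (ZMod 2) ![w, c] := fun c w hc hw' =>
    linearIndependent_fin2.2 ⟨hc, fun t ht => hw' (Submodule.mem_span_singleton.2 ⟨t, ht⟩)⟩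
  have hne : ∀ c w : W, w ∉ Submodule.span (ZMod 2) {c} → w + c ∉ Submodule.span (ZMod 2) {c} :=
    fun c w hw' hmem => hw' (by
      have := sub_mem hmem (Submodule.mem_span_singleton_self c)
      rwa [add_sub_cancel_right] at this)
  have hrep : a = b.constr (ZMod 2) ![a (b 0), 0] + b.constr (ZMod 2) ![0, a (b 1)] := by
    refine b.ext fun i => ?_
    rw [LinearMap.add_apply, Basis.constr_basis, Basis.constr_basis]
    fin_cases i <;> simp
  have hz : ∀ u v : W, u = 0 → v = 0 → Q (b.constr (ZMod 2) ![u, v]) := fun u v hu hv => by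
    rw [show b.constr (ZMod 2) ![u, v] = 0 from b.ext fun i => by fin_cases i <;> simp [hu, hv]]
    exact h0
  rw [hrep]
  refine hadd _ _ ?_ ?_
  · rcases eq_or_ne (a (b 0)) 0 with e | e
    · exact hz _ _ e rfl
    · obtain ⟨w, hw'⟩ := hw _ e
      rw [show b.constr (ZMod 2) ![a (b 0), 0] =
          b.constr (ZMod 2) ![w, a (b 0)] + b.constr (ZMod 2) ![w + a (b 0), a (b 0)] from b.ext fun i => by
        fin_cases i <;> simp [← add_assoc, hzz]]
      exact hadd _ _ (hi _ _ (hpair _ _ e hw')) (hi _ _ (hpair _ _ e (hne _ _ hw')))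
  · rcases eq_or_ne (a (b 1)) 0 with e | e
    · exact hz _ _ rfl e
    · obtain ⟨w, hw'⟩ := hw _ e
      rw [show b.constr (ZMod 2) ![0, a (b 1)] =
          b.constr (ZMod 2) ![a (b 1), w] + b.constr (ZMod 2) ![a (b 1), w + a (b 1)] from b.ext fun i => by
        fin_cases i <;> simp [← add_assoc, hzz]]
      exact hadd _ _ (hi _ _ (LinearIndependent.pair_symm_iff.1 (hpair _ _ e hw')))
        (hi _ _ (LinearIndependent.pair_symm_iff.1 (hpair _ _ e (hne _ _ hw'))))

/-- If all involutions of a perfect homogeneous group are central then there is at most one. -/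
theorem Hom.involution_unique (hG : Hom G) (hperf : commutator G = ⊤)
    (hcen : ∀ x : G, x ^ 2 = 1 → x ∈ center G) {x y : G} (hx : orderOf x = 2) (hy : orderOf y = 2) : x = y := by
  by_contra hxy
  let Z : Subgroup G :=
    { carrier := {x | x ^ 2 = 1}
      one_mem' := one_pow 2
      mul_mem' := fun {a b} ha hb => by
        show (a * b) ^ 2 = 1
        rw [(show Commute a b from (mem_center_iff.1 (hcen b hb) a)).mul_pow, ha, hb, one_mul]
      inv_mem' := fun {a} ha => by show a⁻¹ ^ 2 = 1; rw [inv_pow, ha, inv_one] }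
  haveI : IsMulCommutative ↥Z := ⟨⟨fun a b => Subtype.ext (mem_center_iff.1 (hcen b b.2) a)⟩⟩
  obtain ⟨instZ⟩ : Nonempty (Module (ZMod 2) (Additive ↥Z)) := ⟨elemModule fun a ha => ha⟩
  haveI : Finite (Additive ↥Z) := inferInstanceAs (Finite ↥Z)
  haveI : Module.Finite (ZMod 2) (Additive ↥Z) := Module.Finite.of_finite
  have hxZ : x ∈ Z := (hx ▸ pow_orderOf_eq_one x :)
  have hyZ : y ∈ Z := (hy ▸ pow_orderOf_eq_one y :)
  have hr : 2 ≤ finrank (ZMod 2) (Additive ↥Z) := by
    by_contra hlt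
    push Not at hlt
    obtain ⟨z, hz⟩ := finrank_le_one_iff.1 (Nat.le_of_lt_succ hlt)
    have hz' : ∀ w : G, orderOf w = 2 → ∀ hw : w ∈ Z, Additive.ofMul (⟨w, hw⟩ : ↥Z) = z := by
      intro w hwo hw
      obtain ⟨c, hc⟩ := hz (Additive.ofMul ⟨w, hw⟩)
      have hc01 : c = 0 ∨ c = 1 := zmod_two c
      rcases hc01 with rfl | rfl
      · rw [zero_smul] at hc
        have : w = 1 := (congrArg (fun a => ((Additive.toMul a : ↥Z) : G)) hc).symm
        rw [this, orderOf_one] at hwo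
        omega
      · rw [one_smul] at hc; exact hc.symm
    exact hxy (congrArg (fun a => ((Additive.toMul a : ↥Z) : G)) ((hz' x hx hxZ).trans (hz' y hy hyZ).symm))
  -- a largest subgroup whose automizer is not a 2-group
  have hex : ∃ P : Subgroup G, IsPGroup 2 P ∧ Z ≤ P ∧ ¬ IsPGroup 2 (autz P) := by
    by_contra hno
    push Not at hno
    obtain ⟨S⟩ : Nonempty (Sylow 2 G) := inferInstance
    obtain ⟨N, hN, hc⟩ := (Cfsg.Agent.S0071.result S).2 fun Q hQS g hg hcop => by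
      have hZp : IsPGroup 2 Z := fun a => ⟨1, Subtype.ext a.2⟩
      haveI : Z.Normal := ⟨fun a ha b => by
        rw [mem_center_iff.1 (hcen a ha) b, mul_inv_cancel_right]; exact ha⟩
      have hQ' : IsPGroup 2 (Q ⊔ Z : Subgroup G) := IsPGroup.to_sup_of_normal_right (S.2.to_le hQS) hZp
      have hg' : g ∈ normalizer ((Q ⊔ Z : Subgroup G) : Set G) := by
        refine mem_normalizer_iff.2 fun a => ?_
        have key : ∀ g' ∈ normalizer (Q : Set G), ∀ a ∈ Q ⊔ Z, g' * a * g'⁻¹ ∈ Q ⊔ Z := by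
          intro g' hg' a ha
          obtain ⟨q, hq, z, hz, rfl⟩ := mem_sup_of_normal_right.1 ha
          rw [show g' * (q * z) * g'⁻¹ = (g' * q * g'⁻¹) * (g' * z * g'⁻¹) by group]
          exact mul_mem (mem_sup_left ((mem_normalizer_iff.1 hg' q).1 hq))
            (mem_sup_right (‹Z.Normal›.conj_mem z hz g'))
        refine ⟨key g hg a, fun ha => ?_⟩
        have := key g⁻¹ (inv_mem hg) _ ha
        simpa [mul_assoc] using this
      have hmemγ : (Q ⊔ Z).normalizerMonoidHom ⟨g, hg'⟩ ∈ autz (Q ⊔ Z) := by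
        rw [autz_eq_range]; exact ⟨_, rfl⟩
      set γ : ↥(autz (Q ⊔ Z)) := ⟨_, hmemγ⟩
      obtain ⟨j, hj⟩ := IsPGroup.iff_orderOf.1 (hno _ hQ' le_sup_right) γ
      have hdvd : orderOf γ ∣ orderOf g := by
        rw [← Subgroup.orderOf_coe]
        refine (orderOf_map_dvd ((Q ⊔ Z).normalizerMonoidHom) ⟨g, hg'⟩).trans ?_
        rw [← Subgroup.orderOf_coe]
      have hγ : γ = 1 := orderOf_eq_one_iff.1 (Nat.eq_one_of_dvd_coprimes (hcop.symm.pow_left j) (hj ▸ dvd_rfl)
        hdvd)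
      refine fun a ha => ?_
      have h2 := congrArg (fun f : ↥(autz (Q ⊔ Z)) => ((f.1 ⟨a, mem_sup_left ha⟩ : ↥(Q ⊔ Z)) : G)) hγ
      exact ((mul_inv_eq_iff_eq_mul.1 (h2 : g * a * g⁻¹ = a))).symm
    have hq : IsPGroup 2 (G ⧸ N) := by
      refine IsPGroup.of_card (n := (Nat.card G).factorization 2) ?_
      rw [← index_eq_card, hc.symm.index_eq_card, S.card_eq_multiplicity]
    haveI := hq.isNilpotent
    have htop : N = ⊤ := eq_top_iff.2 fun g _ =>
      (QuotientGroup.eq_one_iff g).1 (perfect_solvable hperf (QuotientGroup.mk' N) g)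
    have h1 : Nat.card (S : Subgroup G) = 1 := by rw [← hc.symm.index_eq_card, htop, index_top]
    rw [S.card_eq_multiplicity] at h1
    have := Nat.Prime.factorization_pos_of_dvd Nat.prime_two Nat.card_pos.ne' (hx ▸ orderOf_dvd_natCard x)
    exact (Nat.one_lt_pow this.ne' one_lt_two).ne' h1
  obtain ⟨P, ⟨hP, hZP, hnon⟩, hPmax⟩ := Set.Finite.exists_maximal
    (Set.toFinite {P : Subgroup G | IsPGroup 2 P ∧ Z ≤ P ∧ ¬ IsPGroup 2 (autz P)}) hex
  have hmax : ∀ Q : Subgroup G, IsPGroup 2 Q → P < Q → IsPGroup 2 (autz Q) := fun Q hQ hlt => by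
    by_contra hQn
    exact hlt.not_ge (hPmax ⟨hQ, hZP.trans hlt.le, hQn⟩ hlt.le)
  have h : Frame 2 P Z := ⟨hP, hZP, fun e he a _ => mem_center_iff.1 (hcen e he) a, fun e he => he⟩
  haveI := h.rad_normal
  haveI : IsMulCommutative (↥P ⧸ Frame.rad P Z) := ⟨⟨fun a b => by
    obtain ⟨a, rfl⟩ := QuotientGroup.mk_surjective a
    obtain ⟨b, rfl⟩ := QuotientGroup.mk_surjective b
    rw [← commutatorElement_eq_one_iff_mul_comm, ← QuotientGroup.mk'_apply, ← QuotientGroup.mk'_apply,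
      ← map_commutatorElement, QuotientGroup.mk'_apply, QuotientGroup.eq_one_iff]
    exact h.commutator_mem_rad a b⟩⟩
  obtain ⟨instD⟩ : Nonempty (Module (ZMod 2) (DSp P Z)) := ⟨dspModule h⟩
  haveI : Finite (DSp P Z) := inferInstanceAs (Finite (↥P ⧸ Frame.rad P Z))
  haveI : Module.Finite (ZMod 2) (DSp P Z) := Module.Finite.of_finite
  -- an automorphism of odd order
  obtain ⟨α, hα, hodd, hα1⟩ : ∃ α ∈ autz P, Odd (orderOf α) ∧ α ≠ 1 := by
    rw [IsPGroup.iff_orderOf] at hnon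
    push Not at hnon
    obtain ⟨⟨β, hβ⟩, hb⟩ := hnon
    obtain ⟨a, w, hw2, hw⟩ := Nat.exists_eq_pow_mul_and_not_dvd (orderOf_pos (⟨β, hβ⟩ : ↥(autz P))).ne' 2
      (by norm_num)
    have ho : orderOf (β ^ 2 ^ a) = w := by
      have hw' : orderOf β = 2 ^ a * w := (Subgroup.orderOf_coe (⟨β, hβ⟩ : ↥(autz P))).trans hw
      rw [orderOf_pow_of_dvd (pow_ne_zero _ two_ne_zero) (hw' ▸ dvd_mul_right _ _), hw',
        Nat.mul_div_cancel_left _ (Nat.two_pow_pos a)]
    refine ⟨β ^ 2 ^ a, pow_mem hβ _, ho.symm ▸ Nat.odd_iff.2 (by omega), fun e => hb a ?_⟩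
    rw [e, orderOf_one] at ho
    rw [hw, ← ho, mul_one]
  have hfixZ : ∀ γ ∈ autz P, ∀ a : ↥P, (a : G) ∈ Z → γ a = a := by
    rintro γ ⟨g, hg⟩ a ha
    refine Subtype.ext ?_
    rw [← hg, mem_center_iff.1 (hcen a ha) g, mul_inv_cancel_right]
  have hαE : ∀ γ ∈ autz P, ∀ a : ↥P, (a : G) ∈ Z → (γ a : G) ∈ Z := fun γ hγ a ha => by
    rw [hfixZ γ hγ a ha]; exact ha
  -- central automorphisms in the automizer are inner
  let B : Subgroup (↥P ≃* ↥P) :=
    { carrier := {β | β ∈ autz P ∧ ∃ f : DSp P Z →ₗ[ZMod 2] Additive ↥Z, cAut h f = β}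
      one_mem' := ⟨one_mem _, 0, cAut_zero h⟩
      mul_mem' := fun {a b} ⟨ha, f, hf⟩ ⟨hb, g, hg⟩ => ⟨mul_mem ha hb, f + g, by rw [cAut_add, hf, hg]⟩
      inv_mem' := fun {a} ⟨ha, f, hf⟩ => ⟨inv_mem ha, -f, by
        rw [← hf, eq_inv_iff_mul_eq_one, ← cAut_add, neg_add_cancel, cAut_zero]⟩ }
  have hB : IsPGroup 2 B := fun b => ⟨1, by
    obtain ⟨hb, f, hf⟩ := b.2
    refine Subtype.ext ?_
    rw [pow_one, SubgroupClass.coe_pow, ← hf, ← cAut_nsmul,
      show (2 : ℕ) • f = 0 by rw [← Nat.cast_smul_eq_nsmul (ZMod 2), ZMod.natCast_self, zero_smul], cAut_zero]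
    rfl⟩
  have hinner : ∀ γ, ∀ (hγ : γ ∈ autz P), ∀ f, Inner (conjMap (α := γ) (hαE γ hγ) h f - f) := by
    intro γ hγ f
    set g := conjMap (α := γ) (hαE γ hγ) h f - f with hg
    have e : cAut h g = γ * (cAut h f * γ⁻¹ * (cAut h f)⁻¹) := by
      have h1 : cAut h g * cAut h f = γ * cAut h f * γ⁻¹ := by
        rw [← cAut_add, hg, sub_add_cancel, cAut_conjMap]
      rw [eq_mul_inv_of_mul_eq h1]
      group
    have hmem : cAut h g ∈ B := ⟨by
      rw [e]; exact mul_mem hγ ((hG.autz_normal P).conj_mem _ (inv_mem hγ) _), g, rfl⟩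
    obtain ⟨t, ht⟩ := inner_of_normal_two hP hnon hmax (B := B) (fun b hb => hb.1) hB
      (fun γ' hγ' b ⟨hb, f', hf'⟩ => ⟨mul_mem (mul_mem hγ' hb) (inv_mem hγ'),
        conjMap (α := γ') (hαE γ' hγ') h f', by rw [cAut_conjMap, hf']⟩) hmem
    refine ⟨t, fun a => ?_⟩
    rw [← cAut_apply h g a, ht a]
    rfl
  let ρ := aD (p := 2) (hαE α hα)
  let S : DSp P Z →ₗ[ZMod 2] DSp P Z := ρ.symm.toLinearMap - LinearMap.id
  have haE : ∀ z, aE (hαE α hα) h z = z := fun z => by
    refine congrArg Additive.ofMul (Subtype.ext ?_ : (Additive.toMul (aE (hαE α hα) h z) : ↥Z) = Additive.toMul z)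
    refine (aE_apply (hαE α hα) h (Additive.toMul z)).trans ?_
    rw [hfixZ α hα _ (Additive.toMul z).2]
  have hS : ∀ f : DSp P Z →ₗ[ZMod 2] Additive ↥Z, f ∘ₗ S ∈ innerSub (p := 2) h := fun f => by
    have h1 := hinner α hα f
    have e : conjMap (hαE α hα) h f - f = f ∘ₗ S := LinearMap.ext fun z => by
      simp only [conjMap, S, LinearMap.sub_apply, LinearMap.comp_apply, LinearMap.id_apply, LinearEquiv.coe_coe,
        map_sub, haE]
      rfl
    rwa [e] at h1
  set R := LinearMap.range S with hR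
  let Ψ : (↥R →ₗ[ZMod 2] Additive ↥Z) →ₗ[ZMod 2] innerSub (p := 2) h :=
    LinearMap.codRestrict _ ((LinearMap.lcomp (ZMod 2) (Additive ↥Z) S.rangeRestrict)) fun f => by
      obtain ⟨g, hg⟩ := f.exists_extend
      have : f ∘ₗ S.rangeRestrict = g ∘ₗ S := by rw [← hg]; rfl
      show f ∘ₗ S.rangeRestrict ∈ _
      rw [this]; exact hS g
  have hΨ : ∀ f, ((Ψ f : innerSub (p := 2) h) : DSp P Z →ₗ[ZMod 2] Additive ↥Z) = f ∘ₗ S.rangeRestrict :=
    fun f => rfl
  have hΨi : Function.Injective Ψ := fun f g hfg => LinearMap.ext fun z => by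
    obtain ⟨w, rfl⟩ := S.surjective_rangeRestrict z
    exact LinearMap.congr_fun (congrArg Subtype.val hfg) w
  have hΩ : ∀ a ∈ P, a ^ 2 = 1 → a ∈ Z := fun a _ ha => ha
  haveI hfin : Finite (DSp P Z →ₗ[ZMod 2] Additive ↥Z) := DFunLike.finite _
  have hle := innerSub_finrank_le_two h hΩ rfl
  have hdim := LinearMap.finrank_le_finrank_of_injective hΨi
  rw [Module.finrank_linearMap (ZMod 2) (ZMod 2) ↥R (Additive ↥Z)] at hdim
  -- the image has dimension two
  have hk : 2 ≤ finrank (ZMod 2) ↥R := by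
    by_contra hlt
    push Not at hlt
    obtain ⟨v, hv⟩ := finrank_le_one_iff.1 (Nat.le_of_lt_succ hlt)
    have hSS : ∀ z, S (S z) = 0 := by
      intro z
      obtain ⟨c, hc⟩ := hv ⟨S z, LinearMap.mem_range_self S z⟩
      obtain ⟨d, hd⟩ := hv ⟨S v, LinearMap.mem_range_self S v⟩
      have hc' : c • (v : DSp P Z) = S z := congrArg Subtype.val hc
      have hd' : d • (v : DSp P Z) = S v := congrArg Subtype.val hd
      have hd01 : d = 0 ∨ d = 1 := zmod_two d
      rcases hd01 with rfl | rfl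
      · rw [← hc', map_smul, ← hd', zero_smul, smul_zero]
      · rw [one_smul] at hd'
        have : ρ.symm (v : DSp P Z) = 0 := by
          have e : ρ.symm (v : DSp P Z) - v = v := hd'.symm
          rw [sub_eq_iff_eq_add] at e
          rw [e, ← two_smul (ZMod 2), show (2 : ZMod 2) = 0 from rfl, zero_smul]
        rw [← hc', map_smul, ← hd', ρ.symm.map_eq_zero_iff.1 this, smul_zero]
    have hρ2 : ∀ z, ρ (ρ z) = z := fun z => by
      have h1 : ρ.symm (ρ.symm (ρ (ρ z))) = ρ (ρ z) := by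
        have h2 := hSS (ρ (ρ z))
        simp only [S, LinearMap.sub_apply, LinearMap.id_apply, LinearEquiv.coe_coe, map_sub] at h2
        generalize ρ.symm (ρ.symm (ρ (ρ z))) = a at h2 ⊢
        generalize ρ.symm (ρ (ρ z)) = b at h2
        have h3 : a - ρ (ρ z) = (2 : ZMod 2) • (b - ρ (ρ z)) := by
          rw [two_smul, ← sub_eq_zero, ← h2]; abel
        rw [show (2 : ZMod 2) = 0 from rfl, zero_smul, sub_eq_zero] at h3
        exact h3
      simp only [LinearEquiv.symm_apply_apply] at h1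
      exact h1.symm
    have hpow : ∀ (n : ℕ) (a : ↥P), (ρ ^ n) (Additive.ofMul (a : ↥P ⧸ Frame.rad P Z)) =
        Additive.ofMul (((α ^ n) a : ↥P) : ↥P ⧸ Frame.rad P Z) := fun n => by
      induction n with
      | zero => intro a; rfl
      | succ n ih =>
        intro a
        rw [pow_succ', pow_succ', LinearEquiv.mul_apply, ih, MulAut.mul_apply]
        rfl
    have hρ1 : ∀ a : ↥P, a⁻¹ * α a ∈ Frame.rad P Z := fun a => by
      obtain ⟨j, hj⟩ := hodd
      have h1 := hpow (orderOf α) a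
      rw [pow_orderOf_eq_one, hj, pow_succ', pow_mul, show ρ ^ 2 = 1 from LinearEquiv.ext fun z => by
        rw [pow_two]; exact hρ2 z, one_pow, mul_one] at h1
      exact QuotientGroup.eq.1 (congrArg Additive.toMul h1).symm
    -- so the square is trivial modulo the Frattini subgroup
    have hfr : ∀ a : ↥P, (α * α) a * a⁻¹ ∈ frattini ↥P := fun a => by
      obtain ⟨c, hc⟩ : ∃ c, α a = a * c := ⟨a⁻¹ * α a, by group⟩
      have hcr : c ∈ Frame.rad P Z := by
        have := hρ1 a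
        rwa [hc, inv_mul_cancel_left] at this
      obtain ⟨u, hu, z, hz, rfl⟩ := mem_sup_of_normal_left.1 hcr
      have hzf : α z = z := hfixZ α hα z (mem_subgroupOf.1 hz)
      have e : (α * α) a * a⁻¹ = a * (u * (z * α u * z⁻¹) * (z * z)) * a⁻¹ := by
        rw [MulAut.mul_apply, hc, map_mul, hc, map_mul, hzf]; group
      rw [e]
      refine (inferInstance : (frattini ↥P).Normal).conj_mem _ ?_ a
      have hsq : ∀ w : ↥P, w * w ∈ frattini ↥P := fun w => pow_two w ▸ CfsgLib.pow_mem_frattini_pGroup hP w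
      have hαu : α u ∈ frattini ↥P :=
        Subgroup.mem_comap.1 ((Subgroup.Characteristic.fixed inferInstance α).ge hu)
      have hn : ∀ w v : ↥P, v ∈ frattini ↥P → w * v * w⁻¹ ∈ frattini ↥P := fun w v hv =>
        (inferInstance : (frattini ↥P).Normal).conj_mem v hv w
      exact mul_mem (mul_mem hu (hn z _ hαu)) (hsq z)
    have hαα : Odd (orderOf (α * α)) := by
      rw [← pow_two, (Nat.Coprime.orderOf_pow ?_)]
      · exact hodd
      · exact Nat.coprime_two_right.2 hodd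
    have h2 := CfsgLib.MetacyclicTwo.eq_one_of_trivial_mod_frattini hP (α * α) hαα hfr
    refine hα1 (orderOf_eq_one_iff.1 (Nat.eq_one_of_dvd_coprimes (Nat.coprime_two_right.2 hodd) dvd_rfl ?_))
    exact orderOf_dvd_of_pow_eq_one ((pow_two α).trans h2)
  have hk2 : finrank (ZMod 2) ↥R = 2 := by nlinarith
  have hΨs : Function.Surjective Ψ := by
    refine (LinearMap.injective_iff_surjective_of_finrank_eq_finrank ?_).1 hΨi
    rw [Module.finrank_linearMap (ZMod 2) (ZMod 2) ↥R (Additive ↥Z), hk2]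
    rw [hk2] at hdim
    omega
  -- the commutator form vanishes
  have hsymm : ∀ f g : innerSub (p := 2) h,
      hval 2 P Z f.1 (innerElt g) = hval 2 P Z g.1 (innerElt f) := by
    intro f g
    have h1 := innerElt_spec f (innerElt g)
    have h2 := innerElt_spec g (innerElt f)
    refine Subtype.ext ?_
    have sq : ((hval 2 P Z g.1 (innerElt f) : ↥Z) : G) * (hval 2 P Z g.1 (innerElt f) : G) = 1 :=
      (pow_two _).symm.trans (hval 2 P Z g.1 (innerElt f)).2
    have e := central_pair h1 h2 (hcen _ (hval 2 P Z f.1 (innerElt g)).2) (hcen _ (hval 2 P Z g.1 (innerElt f)).2)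
    exact mul_left_cancel (e.trans sq.symm)
  have hgood : ∀ a : ↥R →ₗ[ZMod 2] Additive ↥Z, Function.Injective a → ∀ g : innerSub (p := 2) h,
      hval 2 P Z (Ψ a).1 (innerElt g) = 1 := by
    intro a ha g
    rw [hsymm]
    obtain ⟨b, rfl⟩ := hΨs g
    set t := innerElt (Ψ a)
    have h1 : hval 2 P Z (Ψ a).1 t = 1 := by
      refine Subtype.ext ?_
      have := innerElt_spec (Ψ a) t
      rw [mul_inv_cancel_right, left_eq_mul] at this
      exact this
    have h2 : S.rangeRestrict (Additive.ofMul (t : ↥P ⧸ Frame.rad P Z)) = 0 := by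
      refine ha ?_
      rw [map_zero]
      exact congrArg Additive.ofMul h1
    show Additive.toMul (b (S.rangeRestrict _)) = 1
    rw [h2, map_zero]
    rfl
  have hzero : ∀ f g : innerSub (p := 2) h, hval 2 P Z f.1 (innerElt g) = 1 := by
    intro f g
    obtain ⟨a, rfl⟩ := hΨs f
    refine forall_of_injective hk2 hr (Q := fun a => hval 2 P Z (Ψ a).1 (innerElt g) = 1) ?_ ?_ ?_ a
    · rw [map_zero]; exact hval_zero _
    · intro a₁ a₂ e1 e2
      rw [map_add, Submodule.coe_add, hval_add, e1, e2, one_mul]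
    · exact fun a ha => hgood a ha g
  have hq : ∀ f g : innerSub (p := 2) h, qmap (f + g) = qmap f * qmap g := fun f g => by
    obtain ⟨c, hc, e⟩ := qmap_add f g
    have : c = 1 := Subtype.ext (Subtype.ext (by rw [hc, hzero f g]; rfl))
    rw [e, this, inv_one, one_pow, QuotientGroup.mk_one, mul_one]
  have hcard : Nat.card (innerSub (p := 2) h) ≤ Nat.card ↥Z := by
    rw [← card_PQ h hΩ]
    refine Nat.card_le_card_of_injective qmap fun f g hfg => ?_
    have h1 := hq (f - g) g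
    rw [(sub_add_cancel f g : f - g + g = f), hfg] at h1
    exact sub_eq_zero.1 (qmap_eq_one hΩ (right_eq_mul.1 h1))
  rw [card_eq (p := 2) (E := Z), Module.natCard_eq_pow_finrank (K := ZMod 2), Nat.card_zmod,
    Nat.pow_le_pow_iff_right one_lt_two] at hcard
  rw [hk2] at hdim
  omega

end CfsgLib.Homogeneous
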