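import Mathlib

/-!
Homogeneous groups: every isomorphism between two subgroups extends to an automorphism of the whole group.
The automizer of every subgroup is then normal in the automorphism group of that subgroup.
-/

set_option autoImplicit false

namespace CfsgLib.Homogeneous

open Subgroup

universe u v

/-- Every isomorphism between two subgroups is the restriction of an automorphism. -/
def Hom (G : Type u) [Group G] : Prop :=
  ∀ (A B : Subgroup G) (e : ↥A ≃* ↥B), ∃ φ : G ≃* G, ∀ a : ↥A, φ (a : G) = (e a : G)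

variable {G : Type u} [Group G] {H : Type v} [Group H]

/-- Homogeneity is invariant under isomorphism. -/
theorem Hom.of_equiv (h : Hom G) (f : G ≃* H) : Hom H := by
  intro A B e
  obtain ⟨φ, hφ⟩ := h (A.map f.symm.toMonoidHom) (B.map f.symm.toMonoidHom)
    (((A.equivMapOfInjective f.symm.toMonoidHom f.symm.injective).symm.trans e).trans
      (B.equivMapOfInjective f.symm.toMonoidHom f.symm.injective))
  refine ⟨(f.symm.trans φ).trans f, fun a => ?_⟩
  have h1 := hφ (A.equivMapOfInjective f.symm.toMonoidHom f.symm.injective a)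
  simp only [MulEquiv.trans_apply, MulEquiv.symm_apply_apply, Subgroup.coe_equivMapOfInjective_apply] at h1
  simp only [MulEquiv.trans_apply]
  rw [show φ (f.symm (a : H)) = f.symm (e a : H) from h1, f.apply_symm_apply]

/-- An automorphism, restricted to a characteristic subgroup. -/
def restrictChar (K : Subgroup G) [hK : K.Characteristic] (φ : G ≃* G) : ↥K ≃* ↥K :=
  (φ.subgroupMap K).trans (MulEquiv.subgroupCongr (characteristic_iff_map_eq.mp hK φ))

@[simp] theorem coe_restrictChar (K : Subgroup G) [K.Characteristic] (φ : G ≃* G) (a : ↥K) :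
    (restrictChar K φ a : G) = φ (a : G) := rfl

/-- A characteristic subgroup of a homogeneous group is homogeneous. -/
theorem Hom.of_char (h : Hom G) (K : Subgroup G) [K.Characteristic] : Hom ↥K := by
  intro A B e
  obtain ⟨φ, hφ⟩ := h (A.map K.subtype) (B.map K.subtype)
    (((A.equivMapOfInjective K.subtype K.subtype_injective).symm.trans e).trans
      (B.equivMapOfInjective K.subtype K.subtype_injective))
  refine ⟨restrictChar K φ, fun a => Subtype.ext ?_⟩
  have h1 := hφ (A.equivMapOfInjective K.subtype K.subtype_injective a)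
  simp only [MulEquiv.trans_apply, MulEquiv.symm_apply_apply, Subgroup.coe_equivMapOfInjective_apply] at h1
  exact h1

/-- An automorphism of a subgroup extends. -/
theorem Hom.extend (h : Hom G) (U : Subgroup G) (α : ↥U ≃* ↥U) :
    ∃ φ : G ≃* G, ∀ a : ↥U, φ (a : G) = (α a : G) := h U U α

/-- Two elements of the same order are related by an automorphism. -/
theorem Hom.exists_map (h : Hom G) [Finite G] {x y : G} (hxy : orderOf x = orderOf y) :
    ∃ φ : G ≃* G, φ x = y := by
  let e : ↥(zpowers x) ≃* ↥(zpowers y) :=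
    mulEquivOfOrderOfEq (g := ⟨x, mem_zpowers x⟩) (g' := ⟨y, mem_zpowers y⟩)
      (fun a => by obtain ⟨n, hn⟩ := a.2; exact ⟨n, Subtype.ext (by simpa using hn)⟩)
      (fun a => by obtain ⟨n, hn⟩ := a.2; exact ⟨n, Subtype.ext (by simpa using hn)⟩)
      (by rw [Subgroup.orderOf_mk, Subgroup.orderOf_mk, hxy])
  obtain ⟨φ, hφ⟩ := h _ _ e
  refine ⟨φ, ?_⟩
  have := hφ ⟨x, mem_zpowers x⟩
  rwa [mulEquivOfOrderOfEq_apply_gen] at this

/-! ### Automizers -/

/-- The automorphisms of `U` induced by conjugation. -/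
def autz (U : Subgroup G) : Subgroup (↥U ≃* ↥U) where
  carrier := {α | ∃ g : G, ∀ a : ↥U, g * a * g⁻¹ = (α a : G)}
  mul_mem' := by
    rintro α β ⟨g, hg⟩ ⟨k, hk⟩
    refine ⟨g * k, fun a => ?_⟩
    rw [MulAut.mul_apply, ← hg (β a), ← hk a]
    group
  one_mem' := ⟨1, fun a => by simp⟩
  inv_mem' := by
    rintro α ⟨g, hg⟩
    refine ⟨g⁻¹, fun a => ?_⟩
    have := hg (α⁻¹ a)
    rw [MulAut.apply_inv_self] at this
    rw [← this]
    group

theorem mem_autz {U : Subgroup G} {α : ↥U ≃* ↥U} :
    α ∈ autz U ↔ ∃ g : G, ∀ a : ↥U, g * a * g⁻¹ = (α a : G) := Iff.rfl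

/-- An element inducing an automorphism of a finite subgroup normalizes it. -/
theorem mem_normalizer_of_autz {U : Subgroup G} {α : ↥U ≃* ↥U} {g : G}
    (hg : ∀ a : ↥U, g * a * g⁻¹ = (α a : G)) : g ∈ normalizer (U : Set G) := by
  refine mem_normalizer_iff.mpr fun a => ⟨fun ha => hg ⟨a, ha⟩ ▸ (α ⟨a, ha⟩).2, fun ha => ?_⟩
  have := hg (α.symm ⟨_, ha⟩)
  rw [α.apply_symm_apply] at this
  have e : (α.symm ⟨_, ha⟩ : G) = a := mul_left_cancel (mul_right_cancel this)
  exact e ▸ (α.symm ⟨_, ha⟩).2

/-- The automizer is the image of the normalizer. -/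
theorem autz_eq_range (U : Subgroup G) : autz U = U.normalizerMonoidHom.range := by
  ext α
  constructor
  · rintro ⟨g, hg⟩
    exact ⟨⟨g, mem_normalizer_of_autz hg⟩, MulEquiv.ext fun a => Subtype.ext (hg a)⟩
  · rintro ⟨g, rfl⟩
    exact ⟨g, fun a => rfl⟩

/-- In a homogeneous group every automizer is normal. -/
theorem Hom.autz_normal (h : Hom G) (U : Subgroup G) : (autz U).Normal := by
  refine ⟨fun α ⟨g, hg⟩ β => ?_⟩
  obtain ⟨φ, hφ⟩ := h.extend U β
  refine ⟨φ g, fun a => ?_⟩
  have h1 : (a : G) = φ ((β⁻¹ a : ↥U) : G) := by rw [hφ, MulAut.apply_inv_self]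
  rw [MulAut.mul_apply, MulAut.mul_apply, ← hφ, ← hg, map_mul, map_mul, map_inv, ← h1]

end CfsgLib.Homogeneous
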