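import Mathlib

/-!
The subspace of `Hom(D,E)` spanned by commutators with a family of operators has codimension at most the
dimension of the space of equivariant maps `E → D`.
-/

set_option autoImplicit false

namespace CfsgLib.Homogeneous

open Module

universe u v w z

variable {K : Type u} [Field K] {D : Type v} [AddCommGroup D] [Module K D] [FiniteDimensional K D]
  {E : Type w} [AddCommGroup E] [Module K E] [FiniteDimensional K E] {ι : Type z}

/-- The equivariant maps. -/
def equiv' (ρ : ι → (D ≃ₗ[K] D)) (σ : ι → (E ≃ₗ[K] E)) : Submodule K (E →ₗ[K] D) where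
  carrier := {ψ | ∀ i x, ρ i (ψ x) = ψ (σ i x)}
  add_mem' := fun {a b} ha hb i x => by simp only [LinearMap.add_apply, map_add, ha i x, hb i x]
  zero_mem' := fun i x => by simp
  smul_mem' := fun c a ha i x => by simp only [LinearMap.smul_apply, map_smul, ha i x]

theorem mem_equiv' {ρ : ι → (D ≃ₗ[K] D)} {σ : ι → (E ≃ₗ[K] E)} {ψ : E →ₗ[K] D} :
    ψ ∈ equiv' ρ σ ↔ ∀ i x, ρ i (ψ x) = ψ (σ i x) := Iff.rfl

/-- The trace pairing. -/
noncomputable def pairing : (E →ₗ[K] D) →ₗ[K] Dual K (D →ₗ[K] E) :=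
  LinearMap.mk₂ K (fun ψ f => LinearMap.trace K E (f ∘ₗ ψ))
    (fun a b f => by simp [LinearMap.comp_add]) (fun c a f => by simp [LinearMap.comp_smul])
    (fun a f g => by simp [LinearMap.add_comp]) (fun c a f => by simp [LinearMap.smul_comp])

theorem pairing_apply (ψ : E →ₗ[K] D) (f : D →ₗ[K] E) :
    pairing ψ f = LinearMap.trace K E (f ∘ₗ ψ) := rfl

theorem pairing_injective : Function.Injective (pairing (K := K) (D := D) (E := E)) := by
  refine (injective_iff_map_eq_zero _).2 fun ψ hψ => LinearMap.ext fun e => ?_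
  by_contra hne
  obtain ⟨φ, hφ⟩ := Projective.exists_dual_eq_one K hne
  have h := LinearMap.congr_fun hψ (φ.smulRight e)
  rw [pairing_apply, LinearMap.zero_apply,
    show φ.smulRight e ∘ₗ ψ = (φ ∘ₗ ψ).smulRight e from rfl, LinearMap.trace_smulRight] at h
  rw [LinearMap.comp_apply, hφ] at h
  exact one_ne_zero h

theorem hom_le (ρ : ι → (D ≃ₗ[K] D)) (σ : ι → (E ≃ₗ[K] E)) (C : Submodule K (D →ₗ[K] E))
    (hC : ∀ i f, (σ i).toLinearMap ∘ₗ f ∘ₗ (ρ i).symm.toLinearMap - f ∈ C) :
    finrank K (D →ₗ[K] E) ≤ finrank K C + finrank K (equiv' ρ σ) := by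
  have hdim : finrank K (E →ₗ[K] D) = finrank K (Dual K (D →ₗ[K] E)) := by
    rw [Subspace.dual_finrank_eq, finrank_linearMap, finrank_linearMap, mul_comm]
  let e := LinearEquiv.ofBijective (pairing (K := K) (D := D) (E := E))
    ⟨pairing_injective, (LinearMap.injective_iff_surjective_of_finrank_eq_finrank hdim).1 pairing_injective⟩
  have hle : C.dualAnnihilator.map e.symm.toLinearMap ≤ equiv' ρ σ := by
    rintro _ ⟨φ, hφ, rfl⟩
    set ψ := e.symm φ
    have hψ : pairing ψ = φ := e.apply_symm_apply φ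
    intro i x
    have key : (ρ i).symm.toLinearMap ∘ₗ ψ ∘ₗ (σ i).toLinearMap = ψ := by
      refine pairing_injective (LinearMap.ext fun f => ?_)
      have h := (Submodule.mem_dualAnnihilator φ).1 hφ _ (hC i f)
      rw [map_sub, sub_eq_zero, ← hψ] at h
      rw [← h, pairing_apply, pairing_apply]
      exact LinearMap.trace_comp_comm' (σ i).toLinearMap (f ∘ₗ (ρ i).symm.toLinearMap ∘ₗ ψ)
    have h2 := congrArg (ρ i) (LinearMap.congr_fun key x)
    simp only [LinearMap.comp_apply, LinearEquiv.coe_coe, LinearEquiv.apply_symm_apply] at h2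
    exact h2.symm
  have h1 := Submodule.finrank_mono hle
  rw [LinearEquiv.finrank_map_eq] at h1
  have h2 := Subspace.finrank_add_finrank_dualAnnihilator_eq C
  omega

/-- An equivariant map from an irreducible space is determined by one vector. -/
theorem equiv'_finrank_le (ρ : ι → (D ≃ₗ[K] D)) (σ : ι → (E ≃ₗ[K] E))
    (hirr : ∀ W : Submodule K E, (∀ i, ∀ w ∈ W, σ i w ∈ W) → W = ⊥ ∨ W = ⊤) {e : E} (he : e ≠ 0) :
    finrank K (equiv' ρ σ) ≤ finrank K D := by
  let ev : equiv' ρ σ →ₗ[K] D := (LinearMap.applyₗ e) ∘ₗ (equiv' ρ σ).subtype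
  refine LinearMap.finrank_le_finrank_of_injective (f := ev) ((injective_iff_map_eq_zero _).2 fun ψ hψ => ?_)
  have h0 : (ψ : E →ₗ[K] D) e = 0 := hψ
  refine Subtype.ext (LinearMap.ker_eq_top.1 ?_)
  refine (hirr (LinearMap.ker (ψ : E →ₗ[K] D)) fun i w hw => ?_).resolve_left fun hb => ?_
  · rw [LinearMap.mem_ker] at hw ⊢
    rw [← ψ.2 i w, hw, map_zero]
  · exact he ((Submodule.mem_bot K).1 (hb ▸ LinearMap.mem_ker.2 h0))

/-- A non-zero equivariant map from an irreducible space is injective. -/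
theorem equiv'_injective (ρ : ι → (D ≃ₗ[K] D)) (σ : ι → (E ≃ₗ[K] E))
    (hirr : ∀ W : Submodule K E, (∀ i, ∀ w ∈ W, σ i w ∈ W) → W = ⊥ ∨ W = ⊤) {ψ : E →ₗ[K] D}
    (hψ : ψ ∈ equiv' ρ σ) (h0 : ψ ≠ 0) : Function.Injective ψ := by
  rw [← LinearMap.ker_eq_bot]
  refine (hirr _ fun i w hw => ?_).resolve_right fun ht => h0 (LinearMap.ker_eq_top.1 ht)
  rw [LinearMap.mem_ker] at hw ⊢
  rw [← hψ i w, hw, map_zero]

end CfsgLib.Homogeneous
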