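import Cfsg.Agent.Lib.Homogeneous.Elem
import Cfsg.Agent.Lib.CentralizeOmega
import Cfsg.Agent.Lib.PComplement
import Cfsg.Agent.S0071

/-!
If some element of odd prime order has trivial automizer, the group has a normal complement for that prime.
-/

set_option autoImplicit false

namespace CfsgLib.Homogeneous

open Subgroup Module
open scoped IsMulCommutative

universe u

variable {G : Type u} [Group G] [Finite G] {p : ℕ} [hp : Fact p.Prime]

/-- The property of a cyclic subgroup that every element normalizing it centralizes it. -/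
def CyclicFixed (x : G) : Prop := ∀ g : G, g * x * g⁻¹ ∈ zpowers x → g * x * g⁻¹ = x

theorem CyclicFixed.map (φ : G ≃* G) {x : G} (h : CyclicFixed x) : CyclicFixed (φ x) := by
  intro g hg
  obtain ⟨a, rfl⟩ := φ.surjective g
  rw [← map_inv, ← map_mul, ← map_mul] at hg ⊢
  obtain ⟨n, hn⟩ := hg
  rw [h a ⟨n, φ.injective (by rw [map_zpow]; exact hn)⟩]

/-- All cyclic subgroups of one order behave alike. -/
theorem Hom.cyclicFixed (h : Hom G) {x y : G} (hxy : orderOf x = orderOf y) (hx : CyclicFixed x) : CyclicFixed y := by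
  obtain ⟨φ, rfl⟩ := h.exists_map hxy
  exact hx.map φ

/-- Then every elementary abelian subgroup has trivial automizer. -/
theorem Hom.normalizer_le_centralizer_of_fixed (h : Hom G) (hp2 : p ≠ 2) {x : G} (hx : orderOf x = p)
    (hfix : CyclicFixed x) (E : Subgroup G) [IsMulCommutative ↥E] (hexp : ∀ a ∈ E, a ^ p = 1) :
    normalizer (E : Set G) ≤ centralizer (E : Set G) := by
  intro g hg
  letI := elemModule (p := p) hexp
  haveI := h.autzLin_normal p E
  have h3 : (2 : ZMod p) ≠ 0 ∧ (2 : ZMod p) ≠ 1 := by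
    refine ⟨fun e => hp2 ?_, fun e => one_ne_zero (α := ZMod p) (by linear_combination e)⟩
    have h2 : ((2 : ℕ) : ZMod p) = 0 := by exact_mod_cast e
    rw [ZMod.natCast_eq_zero_iff] at h2
    exact ((Nat.prime_dvd_prime_iff_eq hp.out Nat.prime_two).1 h2)
  have hbot : autzLin p E = ⊥ := by
    refine Lin.eq_bot_of_lines ⟨2, h3.1, h3.2⟩ fun n hn v a hv hna => ?_
    obtain ⟨k, hk⟩ := mem_autzLin.1 hn
    set e : ↥E := Additive.toMul v with he
    have he1 : (e : G) ≠ 1 := fun c => hv (congrArg Additive.ofMul (Subtype.ext c : e = 1))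
    have hord : orderOf x = orderOf (e : G) := by
      rw [hx, orderOf_eq_prime (hexp _ e.2) he1]
    have hke : k * e * k⁻¹ = (e : G) ^ a.val := by
      rw [hk e, show Additive.ofMul e = v from rfl, hna]
      conv_lhs => rw [← ZMod.natCast_rightInverse a, smul_toMul]
      rw [SubmonoidClass.coe_pow, ← he]
    have h1 := h.cyclicFixed hord hfix k (hke ▸ npow_mem_zpowers _ _)
    rw [hke] at h1
    by_contra ha
    have h2 : (a.val : ZMod p) • v = v := congrArg Additive.ofMul (by
      rw [smul_toMul]; exact Subtype.ext (by rw [SubmonoidClass.coe_pow]; exact h1) :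
        Additive.toMul ((a.val : ZMod p) • v) = Additive.toMul v)
    rw [ZMod.natCast_rightInverse a] at h2
    have h3 : (a - 1) • v = 0 := by rw [sub_smul, h2, one_smul, sub_self]
    have h4 : (a - 1)⁻¹ • (a - 1) • v = v := by rw [smul_smul, inv_mul_cancel₀ (sub_ne_zero.2 ha), one_smul]
    rw [h3, smul_zero] at h4
    exact hv h4.symm
  exact (linOf_eq_one_iff (p := p) ⟨g, hg⟩).1 (by
    have h5 : linOf (p := p) (E := E) ⟨g, hg⟩ ∈ autzLin p E := linOf_mem _
    rw [hbot] at h5
    exact Subgroup.mem_bot.1 h5)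

/-- A normal complement exists. -/
theorem Hom.hasNormalPComplement_of_fixed (h : Hom G) (hp2 : p ≠ 2) {x : G} (hx : orderOf x = p)
    (hfix : CyclicFixed x) : Cfsg.HasNormalPComplement p G := by
  classical
  let P : Sylow p G := default
  -- a maximal elementary subgroup of `P`
  obtain ⟨E, ⟨hEP, hEc, hEe⟩, hmax⟩ := Set.Finite.exists_maximal
    (Set.toFinite {E : Subgroup G | E ≤ (P : Subgroup G) ∧ IsMulCommutative ↥E ∧ ∀ a ∈ E, a ^ p = 1})
    ⟨⊥, bot_le, ⟨⟨fun a b => Subsingleton.elim _ _⟩⟩, fun a ha => by rw [mem_bot.1 ha, one_pow]⟩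
  haveI := hEc
  set R := (P : Subgroup G) ⊓ centralizer (E : Set G) with hR
  have hER : ∀ y ∈ R, y ^ p = 1 → y ∈ E := by
    intro y hy hyp
    set E' := closure (insert y (E : Set G)) with hE'
    have hmem : E ≤ E' := fun a ha => subset_closure (Set.mem_insert_of_mem _ ha)
    haveI hc : IsMulCommutative ↥E' := Subgroup.isMulCommutative_closure (by
      rintro a (rfl | ha) b (rfl | hb)
      · rfl
      · exact (hy.2 b hb).symm
      · exact hy.2 a ha
      · exact congrArg Subtype.val (mul_comm' (⟨a, ha⟩ : ↥E) ⟨b, hb⟩))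
    have hE'P : E' ≤ (P : Subgroup G) := (closure_le _).2 (Set.insert_subset hy.1 hEP)
    have hE'e : ∀ a ∈ E', a ^ p = 1 := by
      intro a ha
      induction ha using closure_induction with
      | mem a ha => rcases ha with rfl | ha; exacts [hyp, hEe a ha]
      | one => exact one_pow _
      | mul a b ha hb iha ihb =>
        rw [(show Commute a b from congrArg Subtype.val (mul_comm' (⟨a, ha⟩ : ↥E') ⟨b, hb⟩)).mul_pow, iha, ihb, one_mul]
      | inv a _ iha => rw [inv_pow, iha, inv_one]
    exact hmax ⟨hE'P, hc, hE'e⟩ hmem (subset_closure (Set.mem_insert _ _))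
  have hERle : E ≤ R := le_inf hEP fun a ha b hb => congrArg Subtype.val (mul_comm' (⟨b, hb⟩ : ↥E) ⟨a, ha⟩)
  have hRP : R = (P : Subgroup G) := by
    by_contra hne
    have hlt : R < (P : Subgroup G) := lt_of_le_of_ne inf_le_left hne
    haveI := P.2.isNilpotent
    have hlt' : R.subgroupOf P < ⊤ := lt_top_iff_ne_top.2 fun e => hne
      (le_antisymm hlt.le (Subgroup.subgroupOf_eq_top.1 e))
    obtain ⟨g, hg, hgR⟩ := SetLike.exists_of_lt
      (Group.normalizerCondition_of_isNilpotent (R.subgroupOf P) hlt')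
    refine hgR (mem_subgroupOf.2 ⟨g.2, ?_⟩)
    refine h.normalizer_le_centralizer_of_fixed hp2 hx hfix E hEe ?_
    have key : ∀ a ∈ E, (g : G) * a * (g : G)⁻¹ ∈ E := by
      intro a ha
      refine hER _ ?_ (by rw [conj_pow, hEe a ha, mul_one, mul_inv_cancel])
      have := (mem_normalizer_iff.1 hg ⟨a, hEP ha⟩).1 (mem_subgroupOf.2 (hERle ha))
      exact this
    refine mem_normalizer_iff.2 fun a => ⟨key a, fun ha => ?_⟩
    have hle : E.map (MulAut.conj (g : G)).toMonoidHom ≤ E := by rintro _ ⟨b, hb, rfl⟩; exact key b hb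
    obtain ⟨b, hb, hba⟩ := (eq_of_le_of_card_ge hle
      (card_map_of_injective (MulAut.conj (g : G)).injective).ge).ge ha
    obtain rfl : b = a := (MulAut.conj (g : G)).injective hba
    exact hb
  obtain ⟨N, hN, hc⟩ := (Cfsg.Agent.S0071.result P).2 fun Q hQP g hg hcop => by
    haveI : IsMulCommutative ↥(E ⊓ Q) := ⟨⟨fun a b => Subtype.ext
      (congrArg Subtype.val (mul_comm' (⟨a.1, a.2.1⟩ : ↥E) ⟨b.1, b.2.1⟩) :)⟩⟩
    have hEQ : g ∈ normalizer ((E ⊓ Q : Subgroup G) : Set G) := by
      refine mem_normalizer_iff.2 fun a => ⟨fun ⟨ha, hq⟩ => ?_, fun ⟨ha, hq⟩ => ?_⟩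
      · have hq' := (mem_normalizer_iff.1 hg a).1 hq
        exact ⟨hER _ (hRP.symm ▸ hQP hq') (by rw [conj_pow, hEe a ha, mul_one, mul_inv_cancel]), hq'⟩
      · have hq' := (mem_normalizer_iff.1 hg a).2 hq
        refine ⟨hER _ (hRP.symm ▸ hQP hq') ?_, hq'⟩
        have h1 := hEe _ ha
        rw [conj_pow, mul_inv_eq_one] at h1
        exact mul_left_cancel (h1.trans (mul_one g).symm)
    have hC := h.normalizer_le_centralizer_of_fixed hp2 hx hfix (E ⊓ Q) (fun a ha => hEe a ha.1) hEQ
    have := CfsgLib.centralizes_of_fixes_order_p hp2 g hcop Q (P.2.to_le hQP) hg fun y hy hyp => by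
      rw [← hC y ⟨hER y (hRP.symm ▸ hQP hy) hyp, hy⟩, mul_inv_cancel_right]
    exact fun y hy => (mul_inv_eq_iff_eq_mul.1 (this y hy)).symm
  exact ⟨P, N, hN, hc⟩

end CfsgLib.Homogeneous
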