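import Cfsg.Agent.Lib.Homogeneous.CentralBound
import Cfsg.Agent.Lib.Homogeneous.Duality
import Cfsg.Agent.Lib.Homogeneous.Fixed
import Cfsg.Agent.Lib.CharTheory.Burnside
import Cfsg.Agent.Lib.Basic
import Cfsg.Agent.S2910

/-!
A perfect homogeneous group has no nontrivial normal subgroup of odd prime power order.
-/

set_option autoImplicit false
set_option linter.unusedSectionVars false
set_option maxSynthPendingDepth 3

namespace CfsgLib.Homogeneous

open Subgroup Module
open scoped IsMulCommutative commutatorElement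

universe u v

variable {G : Type u} [Group G]

section Perfect

variable {H : Type v} [Group H]

theorem perfect_comm (hperf : commutator G = ⊤) (ρ : G →* H) (hc : ∀ a b, ρ a * ρ b = ρ b * ρ a) (g : G) :
    ρ g = 1 := by
  have h : commutator G ≤ ρ.ker := by
    rw [commutator_def]
    refine commutator_le.2 fun a _ b _ => ?_
    rw [MonoidHom.mem_ker, map_commutatorElement, commutatorElement_eq_one_iff_mul_comm]
    exact hc a b
  exact h (hperf ▸ mem_top g)

theorem perfect_solvable (hperf : commutator G = ⊤) (ρ : G →* H) [Group.IsSolvable H] (g : G) : ρ g = 1 := by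
  have htop : ∀ n, derivedSeries G n = ⊤ := fun n => by
    induction n with
    | zero => rfl
    | succ n ih => rw [derivedSeries_succ, ih, ← commutator_def, hperf]
  obtain ⟨n, hn⟩ := Group.IsSolvable.solvable (G := H)
  have h := map_derivedSeries_le_derivedSeries ρ n
  rw [htop, hn] at h
  exact mem_bot.1 (h (mem_map_of_mem ρ (mem_top g)))

end Perfect

variable {p : ℕ}

/-- The linear action of the group on an elementary abelian normal subgroup. -/
def conjLin (p : ℕ) (V : Subgroup G) [V.Normal] [IsMulCommutative ↥V] [Module (ZMod p) (Additive ↥V)] :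
    G →* (Additive ↥V ≃ₗ[ZMod p] Additive ↥V) :=
  (toLin p V).toMonoidHom.comp MulAut.conjNormal

section Conj

variable {V : Subgroup G} [V.Normal] [IsMulCommutative ↥V] [Module (ZMod p) (Additive ↥V)]

theorem conjLin_apply (g : G) (a : ↥V) :
    ((Additive.toMul (conjLin p V g (Additive.ofMul a)) : ↥V) : G) = g * a * g⁻¹ :=
  MulAut.conjNormal_apply g a

theorem autzLin_eq_range : autzLin p V = (conjLin p V).range := by
  ext f
  rw [mem_autzLin, MonoidHom.mem_range]
  constructor
  · rintro ⟨g, hg⟩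
    exact ⟨g, LinearEquiv.ext fun z => congrArg Additive.ofMul (Subtype.ext ((conjLin_apply (p := p) g _).trans (hg _)))⟩
  · rintro ⟨g, rfl⟩
    exact ⟨g, fun a => (conjLin_apply g a).symm⟩

theorem conjLin_eq_one_iff (g : G) : conjLin p V g = 1 ↔ g ∈ centralizer (V : Set G) := by
  constructor
  · intro h a ha
    have := conjLin_apply (p := p) g (⟨a, ha⟩ : ↥V)
    rw [h] at this
    exact (mul_inv_eq_iff_eq_mul.1 this.symm).symm
  · intro h
    refine LinearEquiv.ext fun z => congrArg Additive.ofMul (Subtype.ext ?_)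
    refine (conjLin_apply (p := p) g (Additive.toMul z)).trans ?_
    rw [← h _ (Additive.toMul z).2, mul_inv_cancel_right]
    rfl

variable [Fact p.Prime]

/-- Lifts of a transvection whose centraliser fixes no vector have order `p`. -/
theorem lift_pow_eq_one (hp2 : p ≠ 2) {m : ℕ} (hpow : ∀ c ∈ centralizer (V : Set G), c ^ m ∈ V)
    (hmul : ∀ a ∈ centralizer (V : Set G), ∀ b ∈ centralizer (V : Set G), (a * b) ^ m = a ^ m * b ^ m)
    {g : G} {σ : Additive ↥V ≃ₗ[ZMod p] Additive ↥V} (hg : conjLin p V g = σ)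
    (hσ : ∀ z, σ (σ z - z) = σ z - z)
    (hfix : ∀ z : Additive ↥V,
      (∀ s : G, conjLin p V s * σ = σ * conjLin p V s → conjLin p V s z = z) → z = 0) :
    (g ^ m) ^ p = 1 ∧ conjLin p V (g ^ m) = σ ^ m ∧ σ ^ p = 1 := by
  set C := centralizer (V : Set G)
  have hCn : ∀ c ∈ C, ∀ s : G, s * c * s⁻¹ ∈ C := fun c hc s =>
    (conjLin_eq_one_iff (p := p) _).1 (by
      rw [map_mul, map_mul, (conjLin_eq_one_iff (p := p) c).2 hc, mul_one, ← map_mul, mul_inv_cancel, map_one])
  have hσp : σ ^ p = 1 := by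
    have h : ∀ n : ℕ, ∀ z, (σ ^ n) z = z + (n : ZMod p) • (σ z - z) := fun n => by
      induction n with
      | zero => intro z; simp
      | succ n ih =>
        intro z
        rw [pow_succ', LinearEquiv.mul_apply, ih, map_add, map_smul, hσ, Nat.cast_succ, add_smul, one_smul]
        abel
    exact LinearEquiv.ext fun z => by rw [h, ZMod.natCast_self, zero_smul, add_zero]; rfl
  have hgp : g ^ p ∈ C := (conjLin_eq_one_iff (p := p) _).1 (by rw [map_pow, hg, hσp])
  -- the class of the `p`-th power does not depend on the lift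
  have hlift : ∀ c ∈ C, ((g * c) ^ p) ^ m = (g ^ p) ^ m := by
    intro c hc
    have hP : ∀ n : ℕ, (g * c) ^ n * (g ^ n)⁻¹ ∈ C := fun n => (conjLin_eq_one_iff (p := p) _).1 (by
      rw [map_mul, map_pow, map_mul, (conjLin_eq_one_iff (p := p) c).2 hc, mul_one, map_inv, map_pow, mul_inv_cancel])
    let X : ℕ → Additive ↥V := fun n => Additive.ofMul ⟨_, hpow _ (hP n)⟩
    let w : Additive ↥V := Additive.ofMul ⟨_, hpow _ hc⟩
    have hX : ∀ n, X (n + 1) = σ (w + X n) := fun n => by
      apply Additive.toMul.injective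
      refine Subtype.ext ?_
      have e : (g * c) ^ (n + 1) * (g ^ (n + 1))⁻¹ = g * (c * ((g * c) ^ n * (g ^ n)⁻¹)) * g⁻¹ := by
        rw [pow_succ', pow_succ']; group
      show ((g * c) ^ (n + 1) * (g ^ (n + 1))⁻¹) ^ m = _
      rw [e, conj_pow, hmul _ hc _ (hP n), ← hg]
      exact (conjLin_apply (p := p) g (⟨c ^ m, hpow _ hc⟩ * ⟨((g * c) ^ n * (g ^ n)⁻¹) ^ m, hpow _ (hP n)⟩ : ↥V)).symm
    have hsum : ∀ n : ℕ, (2 : ZMod p) • X n =
        (2 * n : ZMod p) • w + ((n * (n + 1) : ℕ) : ZMod p) • (σ w - w) := fun n => by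
      induction n with
      | zero =>
        have : X 0 = 0 := by
          apply Additive.toMul.injective
          refine Subtype.ext ?_
          show ((g * c) ^ 0 * (g ^ 0)⁻¹) ^ m = 1
          simp
        simp [this]
      | succ n ih =>
        rw [hX, ← map_smul, smul_add, ih, map_add, map_add, map_smul, map_smul, map_smul, hσ,
          show σ w = w + (σ w - w) by abel]
        push_cast
        module
    have hp : X p = 0 := by
      have := hsum p
      rw [Nat.cast_mul, ZMod.natCast_self, mul_zero, zero_mul, zero_smul, zero_smul, add_zero] at this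
      refine (smul_eq_zero.1 this).resolve_left fun h2 => hp2 ?_
      exact ((Nat.prime_dvd_prime_iff_eq Fact.out Nat.prime_two).1
        ((ZMod.natCast_eq_zero_iff _ _).1 (by exact_mod_cast h2)))
    have hp' : ((g * c) ^ p * (g ^ p)⁻¹) ^ m = 1 :=
      congrArg (fun z => ((Additive.toMul z : ↥V) : G)) hp
    rw [show (g * c) ^ p = ((g * c) ^ p * (g ^ p)⁻¹) * g ^ p by group, hmul _ (hP p) _ hgp, hp', one_mul]
  let v : Additive ↥V := Additive.ofMul ⟨_, hpow _ hgp⟩
  have hv : v = 0 := by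
    refine hfix v fun s hs => ?_
    apply Additive.toMul.injective
    refine Subtype.ext ((conjLin_apply (p := p) s _).trans ?_)
    show s * (g ^ p) ^ m * s⁻¹ = (g ^ p) ^ m
    have hc : g⁻¹ * (s * g * s⁻¹) ∈ C := (conjLin_eq_one_iff (p := p) _).1 (by
      simp only [map_mul, map_inv, hg]
      rw [hs, mul_inv_cancel_right, inv_mul_cancel])
    rw [← conj_pow, ← conj_pow, show s * g * s⁻¹ = g * (g⁻¹ * (s * g * s⁻¹)) by group]
    exact hlift _ hc
  refine ⟨?_, by rw [map_pow, hg], hσp⟩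
  rw [← pow_mul, mul_comm, pow_mul]
  exact congrArg (fun z => ((Additive.toMul z : ↥V) : G)) hv

end Conj

variable [Finite G] [hp : Fact p.Prime]

theorem pow_mul_of_central_coprime {V C : Subgroup G} (hVC : V ≤ C) (hVc : C ≤ centralizer (V : Set G))
    (hindex : (V.relIndex C).Coprime p) :
    (∀ c ∈ C, c ^ V.relIndex C ∈ V) ∧
      ∀ a ∈ C, ∀ b ∈ C, (a * b) ^ V.relIndex C = a ^ V.relIndex C * b ^ V.relIndex C := by
  have hle : V.subgroupOf C ≤ center ↥C := fun x hx => mem_center_iff.2 fun y =>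
    Subtype.ext (hVc y.2 x (mem_subgroupOf.1 hx)).symm
  haveI : (V.subgroupOf C).Normal := ⟨fun x hx y => by
    rwa [mem_center_iff.1 (hle hx) y, mul_inv_cancel_right]⟩
  refine ⟨fun c hc => (V.subgroupOf C).pow_index_mem ⟨c, hc⟩, fun a ha b hb => ?_⟩
  obtain ⟨k, hk⟩ : (center ↥C).index ∣ V.relIndex C := index_dvd_of_le hle
  have h := map_mul (MonoidHom.transferCenterPow ↥C) ⟨a, ha⟩ ⟨b, hb⟩
  have h' := congrArg (fun z : ↥(center ↥C) => (((z : ↥C)) : G)) h
  simp only [Subgroup.coe_mul, MonoidHom.transferCenterPow_apply, SubgroupClass.coe_pow] at h'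
  rw [hk, pow_mul, pow_mul, pow_mul, h']
  refine Commute.mul_pow ?_ k
  exact congrArg Subtype.val
    (mem_center_iff.1 ((center ↥C).pow_index_mem ⟨a, ha⟩) ((⟨b, hb⟩ : ↥C) ^ (center ↥C).index)).symm

/-- The space of the frame is a vector space. -/
@[reducible] def dspModule {T V : Subgroup G} (h : Frame p T V) [(Frame.rad T V).Normal]
    [IsMulCommutative (↥T ⧸ Frame.rad T V)] : Module (ZMod p) (DSp T V) :=
  AddCommGroup.zmodModule fun x => by
    obtain ⟨a, ha⟩ := QuotientGroup.mk_surjective (Additive.toMul x)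
    refine congrArg Additive.ofMul (show (Additive.toMul x) ^ p = 1 from ?_)
    rw [← ha, ← QuotientGroup.mk_pow, QuotientGroup.eq_one_iff]
    exact h.pow_mem_rad a

section Sylow

variable {T V : Subgroup G} [V.Normal] [IsMulCommutative ↥V] [Module (ZMod p) (Additive ↥V)]

/-- A Sylow subgroup of the centraliser of a normal elementary subgroup containing all elements of order `p`. -/
theorem Hom.sylow_centralizer_eq (hG : Hom G) (hperf : commutator G = ⊤) (hp2 : p ≠ 2)
    (hexp : ∀ a ∈ V, a ^ p = 1) (hall : ∀ x : G, x ^ p = 1 → x ∈ V)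
    {f₀ : Additive ↥V ≃ₗ[ZMod p] Additive ↥V} (hf₀ : f₀ ∈ autzLin p V) (hns : ¬ Lin.IsScalar f₀)
    (hk : 2 ≤ finrank (ZMod p) (Additive ↥V))
    (hTp : IsPGroup p T) (hVT : V ≤ T) (hTC : T ≤ centralizer (V : Set G))
    (hmax : ∀ g : G, g ∈ normalizer (T : Set G) → g ∈ centralizer (V : Set G) → (∃ k : ℕ, g ^ p ^ k = 1) → g ∈ T)
    (hfr : ∀ g : G, ∃ n ∈ normalizer (T : Set G), conjLin p V n = conjLin p V g) : T = V := by
  by_contra hne
  haveI := hG.autzLin_normal p V
  have h : Frame p T V := ⟨hTp, hVT, fun e he x hx => (hTC hx e he).symm, hexp⟩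
  haveI := h.rad_normal
  haveI : IsMulCommutative (↥T ⧸ Frame.rad T V) := ⟨⟨fun a b => by
    obtain ⟨a, rfl⟩ := QuotientGroup.mk_surjective a
    obtain ⟨b, rfl⟩ := QuotientGroup.mk_surjective b
    rw [← commutatorElement_eq_one_iff_mul_comm, ← QuotientGroup.mk'_apply, ← QuotientGroup.mk'_apply,
      ← map_commutatorElement, QuotientGroup.mk'_apply, QuotientGroup.eq_one_iff]
    exact h.commutator_mem_rad a b⟩⟩
  obtain ⟨inst⟩ : Nonempty (Module (ZMod p) (DSp T V)) := ⟨dspModule h⟩
  haveI : Finite (DSp T V) := inferInstanceAs (Finite (↥T ⧸ Frame.rad T V))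
  haveI : Finite (Additive ↥V) := inferInstanceAs (Finite ↥V)
  haveI : Module.Finite (ZMod p) (DSp T V) := Module.Finite.of_finite
  haveI : Module.Finite (ZMod p) (Additive ↥V) := Module.Finite.of_finite
  let ι := ↥(normalizer (T : Set G))
  have hαE : ∀ n : ι, ∀ x : ↥T, (x : G) ∈ V → ((T.normalizerMonoidHom n x : ↥T) : G) ∈ V :=
    fun n x hx => (inferInstance : V.Normal).conj_mem _ hx n
  let ρ : ι → (DSp T V ≃ₗ[ZMod p] DSp T V) := fun n => aD (p := p) (hαE n)
  let σ : ι → (Additive ↥V ≃ₗ[ZMod p] Additive ↥V) := fun n => aE (hαE n) h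
  have hσ : ∀ n : ι, σ n = conjLin p V n := fun n => LinearEquiv.ext fun z =>
    congrArg Additive.ofMul (Subtype.ext
      ((aE_apply (hαE n) h (Additive.toMul z)).trans (conjLin_apply (p := p) (n : G) (Additive.toMul z)).symm))
  have hirr : ∀ W : Submodule (ZMod p) (Additive ↥V), (∀ n : ι, ∀ w ∈ W, σ n w ∈ W) → W = ⊥ ∨ W = ⊤ := by
    refine fun W hW => Lin.irreducible hf₀ hns W fun f hf w hw => ?_
    rw [autzLin_eq_range] at hf
    obtain ⟨g, rfl⟩ := hf
    obtain ⟨n, hn, e⟩ := hfr g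
    have := hW ⟨n, hn⟩ w hw
    rwa [hσ, e] at this
  haveI : Nontrivial (Additive ↥V) := Module.finrank_pos_iff (R := ZMod p).1 (by omega)
  obtain ⟨e₀, he₀⟩ := exists_ne (0 : Additive ↥V)
  have h1 : finrank (ZMod p) (DSp T V →ₗ[ZMod p] Additive ↥V) ≤
      finrank (ZMod p) (innerSub (p := p) h) + finrank (ZMod p) (equiv' ρ σ) :=
    hom_le ρ σ _ fun n f => inner_commutator hG h hmax (α := T.normalizerMonoidHom n)
      ((autz_eq_range T).symm ▸ ⟨n, rfl⟩) (hαE n) f
  have hΩ : ∀ x ∈ T, x ^ p = 1 → x ∈ V := fun x _ hx => hall x hx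
  have h2 : finrank (ZMod p) (innerSub (p := p) h) ≤ finrank (ZMod p) (Additive ↥V) := by
    have := innerSub_card_le_odd h hΩ hp2
    rw [card_eq (p := p) (E := V)] at this
    haveI hfin : Finite (DSp T V →ₗ[ZMod p] Additive ↥V) := DFunLike.finite _
    rw [Module.natCard_eq_pow_finrank (K := ZMod p), Nat.card_zmod] at this
    exact (Nat.pow_le_pow_iff_right hp.out.one_lt).1 this
  rw [Module.finrank_linearMap (ZMod p) (ZMod p) (DSp T V) (Additive ↥V)] at h1
  have h3 := equiv'_finrank_le ρ σ hirr he₀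
  -- `T` is not cyclic over `V`
  have hd : 2 ≤ finrank (ZMod p) (DSp T V) := by
    by_contra hlt
    push Not at hlt
    obtain ⟨z, hz⟩ := finrank_le_one_iff.1 (Nat.le_of_lt_succ hlt)
    obtain ⟨t, ht⟩ := QuotientGroup.mk_surjective (Additive.toMul z)
    have hgen : zpowers t ⊔ V.subgroupOf T = ⊤ := by
      refine frattini_nongenerating (eq_top_iff.2 fun x _ => ?_)
      obtain ⟨c, hc⟩ := hz (Additive.ofMul (x : ↥T ⧸ Frame.rad T V))
      rw [← ZMod.natCast_rightInverse c, Nat.cast_smul_eq_nsmul] at hc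
      have hmem : (t ^ c.val)⁻¹ * x ∈ Frame.rad T V := by
        rw [← QuotientGroup.eq, QuotientGroup.mk_pow, ht]
        exact congrArg Additive.toMul hc
      rw [Frame.rad, sup_comm (frattini _)] at hmem
      rw [sup_assoc]
      have := mul_mem (mem_sup_left (T := V.subgroupOf T ⊔ frattini ↥T) (pow_mem (mem_zpowers t) c.val))
        (mem_sup_right (S := zpowers t) hmem)
      rwa [mul_inv_cancel_left] at this
    haveI : (V.subgroupOf T).Normal := inferInstance
    have hdec : ∀ x : ↥T, ∃ i : ℤ, ∃ e : G, e ∈ V ∧ (x : G) = (t : G) ^ i * e := fun x => by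
      obtain ⟨a, ha, b, hb, rfl⟩ := mem_sup_of_normal_right.1 (hgen.symm ▸ mem_top x)
      obtain ⟨i, rfl⟩ := ha
      exact ⟨i, b, mem_subgroupOf.1 hb, by simp⟩
    have htV : (t : G) ∉ V := fun hmem => hne (le_antisymm (fun x hx => by
      obtain ⟨i, e, he, hxe⟩ := hdec ⟨x, hx⟩
      rw [show x = _ from hxe]
      exact mul_mem (zpow_mem hmem i) he) hVT)
    obtain ⟨a, ha⟩ := (IsPGroup.iff_orderOf).1 hTp t
    rw [← Subgroup.orderOf_coe] at ha
    obtain ⟨b, rfl⟩ : ∃ b, a = b + 2 := Nat.exists_eq_add_of_le' (by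
      by_contra hlt'
      push Not at hlt'
      refine htV (hall _ (orderOf_dvd_iff_pow_eq_one.1 ?_))
      rw [ha]
      exact (pow_dvd_pow p (Nat.le_of_lt_succ hlt')).trans (pow_one p).dvd)
    set w := (t : G) ^ p ^ (b + 1) with hwdef
    have hwo : orderOf w = p := by
      rw [hwdef, orderOf_pow_of_dvd (pow_ne_zero _ hp.out.ne_zero) (ha ▸ pow_dvd_pow p (by omega)), ha,
        Nat.pow_div (by omega) hp.out.pos]
      simp
    have hwV : w ∈ V := hall w (hwo ▸ pow_orderOf_eq_one w)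
    let z₁ : Additive ↥V := Additive.ofMul ⟨w, hwV⟩
    have hW : ∀ n : ι, ∀ u ∈ Submodule.span (ZMod p) {z₁}, σ n u ∈ Submodule.span (ZMod p) {z₁} := by
      intro n u hu
      obtain ⟨c, rfl⟩ := Submodule.mem_span_singleton.1 hu
      rw [map_smul]
      refine Submodule.smul_mem _ _ (Submodule.mem_span_singleton.2 ?_)
      obtain ⟨i, e, he, hxe⟩ := hdec (T.normalizerMonoidHom n t)
      refine ⟨(i : ZMod p), ?_⟩
      rw [hσ, Int.cast_smul_eq_zsmul]
      apply Additive.toMul.injective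
      refine Subtype.ext ?_
      rw [show conjLin p V (n : G) z₁ = conjLin p V (n : G) (Additive.ofMul ⟨w, hwV⟩) from rfl, conjLin_apply,
        show (((⟨w, hwV⟩ : ↥V)) : G) = (t : G) ^ p ^ (b + 1) from rfl, ← conj_pow,
        show (n : G) * t * (n : G)⁻¹ = (t : G) ^ i * e from hxe,
        (show Commute ((t : G) ^ i) e from ((hTC (zpow_mem t.2 i)) e he).symm).mul_pow,
        show e ^ p ^ (b + 1) = 1 by rw [pow_succ', pow_mul, hexp e he, one_pow], mul_one,
        ← zpow_natCast ((t : G) ^ i), ← zpow_mul, mul_comm, zpow_mul, zpow_natCast]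
      rfl
    rcases hirr _ hW with hbot | htop
    · have hz : z₁ = 0 := Submodule.span_singleton_eq_bot.1 hbot
      exact hp.out.ne_one (by
        rw [← hwo, show w = 1 from congrArg (fun z => ((Additive.toMul z : ↥V) : G)) hz, orderOf_one])
    · have := finrank_span_le_card (R := ZMod p) ({z₁} : Set (Additive ↥V))
      rw [htop, finrank_top] at this
      simp at this
      omega
  -- the numbers
  have hk2 : finrank (ZMod p) (Additive ↥V) = 2 ∧ 2 ≤ finrank (ZMod p) (equiv' ρ σ) ∧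
      finrank (ZMod p) (DSp T V) = 2 := by
    rcases Nat.lt_or_ge (finrank (ZMod p) (equiv' ρ σ)) 1 with h0 | h0
    · nlinarith
    obtain ⟨ψ, hψ, hψ0⟩ := Submodule.exists_mem_ne_zero_of_ne_bot (p := equiv' ρ σ) (fun e => by
      rw [e, finrank_bot] at h0; omega)
    have h4 := LinearMap.finrank_le_finrank_of_injective (equiv'_injective ρ σ hirr hψ hψ0)
    have h5 : finrank (ZMod p) (Additive ↥V) = 2 := by nlinarith
    rw [h5] at h1 h2 h4
    exact ⟨h5, by omega, by omega⟩
  obtain ⟨hk2, hinv, hd2⟩ := hk2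
  obtain ⟨e, he⟩ := exists_linearIndependent_of_le_finrank hinv
  set ψ₁ : Additive ↥V →ₗ[ZMod p] DSp T V := (e 0).1
  set ψ₂ : Additive ↥V →ₗ[ZMod p] DSp T V := (e 1).1
  have hψ₁ : ψ₁ ≠ 0 := fun h0 => he.ne_zero 0 (Subtype.ext h0)
  let E₁ : Additive ↥V ≃ₗ[ZMod p] DSp T V :=
    LinearEquiv.ofInjectiveOfFinrankEq ψ₁ (equiv'_injective ρ σ hirr (e 0).2 hψ₁) (hk2.trans hd2.symm)
  let φ : Additive ↥V →ₗ[ZMod p] Additive ↥V := E₁.symm.toLinearMap ∘ₗ ψ₂
  have hφ : ∀ n : ι, ∀ z, φ (σ n z) = σ n (φ z) := fun n z => by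
    apply E₁.injective
    show E₁ (E₁.symm (ψ₂ (σ n z))) = ψ₁ (σ n (E₁.symm (ψ₂ z)))
    rw [E₁.apply_symm_apply, ← mem_equiv'.1 (e 1).2, ← mem_equiv'.1 (e 0).2]
    congr 1
    exact (E₁.apply_symm_apply (ψ₂ z)).symm
  have hnsc : ¬ ∃ c : ZMod p, ∀ x, φ x = c • x := by
    rintro ⟨c, hc⟩
    refine one_ne_zero (α := ZMod p) (LinearIndependent.pair_iff.1 (show LinearIndependent (ZMod p) ![e 0, e 1] by
      convert he using 1; ext i; fin_cases i <;> rfl) (-c) 1 (Subtype.ext (LinearMap.ext fun x => ?_))).2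
    show -c • ψ₁ x + (1 : ZMod p) • ψ₂ x = 0
    have := congrArg E₁ (hc x)
    rw [map_smul] at this
    simp only [φ, LinearMap.comp_apply, LinearEquiv.coe_coe, E₁.apply_symm_apply] at this
    rw [one_smul, this, neg_smul]
    exact neg_add_cancel _
  have hab : ∀ a b : G, conjLin p V a * conjLin p V b = conjLin p V b * conjLin p V a := fun a b => by
    obtain ⟨n, hn, hn'⟩ := hfr a
    obtain ⟨m, hm, hm'⟩ := hfr b
    rw [← hn', ← hm', ← hσ ⟨n, hn⟩, ← hσ ⟨m, hm⟩]
    exact LinearEquiv.ext fun z => Lin.comm_of_two hk2 hnsc (a := (σ ⟨n, hn⟩).toLinearMap)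
      (b := (σ ⟨m, hm⟩).toLinearMap) (hφ ⟨n, hn⟩) (hφ ⟨m, hm⟩) z
  rw [autzLin_eq_range] at hf₀
  obtain ⟨g, rfl⟩ := hf₀
  exact hns ⟨1, fun z => by rw [perfect_comm hperf (conjLin p V) hab g, one_smul]; rfl⟩

end Sylow

/-- Automorphism groups of planes over the field with three elements are soluble. -/
theorem isSolvable_linearEquiv_three {W : Type v} [AddCommGroup W] [Module (ZMod 3) W]
    [FiniteDimensional (ZMod 3) W] (hd : finrank (ZMod 3) W = 2) :
    Group.IsSolvable (W ≃ₗ[ZMod 3] W) := by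
  let B := Module.finBasisOfFinrankEq (ZMod 3) W hd
  let e : (W ≃ₗ[ZMod 3] W) ≃* GL (Fin 2) (ZMod 3) :=
    (LinearMap.GeneralLinearGroup.generalLinearEquiv (ZMod 3) W).symm.trans
      (Units.mapEquiv (LinearMap.toMatrixAlgEquiv B).toRingEquiv.toMulEquiv)
  haveI : Finite (W ≃ₗ[ZMod 3] W) := Finite.of_equiv _ e.toEquiv.symm
  refine CfsgLib.CharTheory.isSolvable_of_card_two_primes (p := 2) (q := 3) (a := 4) (b := 1) Nat.prime_two
    Nat.prime_three ?_
  rw [Nat.card_congr e.toEquiv, Matrix.card_GL_field, Fin.prod_univ_two, ZMod.card]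
  rfl

/-- A perfect homogeneous group has no normal subgroup of odd prime power order except the trivial one. -/
theorem Hom.pCore_eq_bot (hG : Hom G) (hperf : commutator G = ⊤) (hp2 : p ≠ 2) : Cfsg.pCore p G = ⊥ := by
  by_contra hne
  have hWp := CfsgLib.isPGroup_pCore (G := G) p
  set W := Cfsg.pCore p G with hW
  haveI : Nontrivial ↥W := W.nontrivial_iff_ne_bot.2 hne
  haveI := hWp.center_nontrivial
  obtain ⟨n, hn, hcard⟩ := (hWp.to_subgroup (center ↥W)).nontrivial_iff_card.1 inferInstance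
  obtain ⟨z, hz⟩ := exists_prime_orderOf_dvd_card' (G := ↥(center ↥W)) p (hcard ▸ dvd_pow_self p hn.ne')
  rw [← Subgroup.orderOf_coe, ← Subgroup.orderOf_coe] at hz
  have hxW : ∀ x : G, x ^ p = 1 → x ∈ W ∧ ∀ w ∈ W, w * x = x * w := by
    intro x hx
    rcases eq_or_ne x 1 with rfl | hx1
    · exact ⟨one_mem _, by simp⟩
    obtain ⟨φ, hφ⟩ := hG.exists_map (x := (((z : ↥W)) : G)) (y := x) (hz.trans (orderOf_eq_prime hx hx1).symm)
    have hchar : W.map φ.toMonoidHom = W := characteristic_iff_map_eq.1 inferInstance φ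
    refine ⟨hchar.le ⟨_, (z : ↥W).2, hφ⟩, fun w hw => ?_⟩
    obtain ⟨w', hw', rfl⟩ := hchar.ge hw
    rw [← hφ]
    show φ w' * φ _ = φ _ * φ w'
    rw [← map_mul, ← map_mul]
    exact congrArg φ (congrArg Subtype.val (mem_center_iff.1 z.2 ⟨w', hw'⟩))
  let V : Subgroup G :=
    { carrier := {x | x ^ p = 1}
      one_mem' := one_pow p
      mul_mem' := fun {a b} ha hb => by
        show (a * b) ^ p = 1
        rw [(show Commute a b from (hxW b hb).2 a (hxW a ha).1).mul_pow, ha, hb, one_mul]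
      inv_mem' := fun {a} ha => by show a⁻¹ ^ p = 1; rw [inv_pow, ha, inv_one] }
  haveI : V.Normal := ⟨fun x hx g => by
    show (g * x * g⁻¹) ^ p = 1
    rw [conj_pow, show x ^ p = 1 from hx, mul_one, mul_inv_cancel]⟩
  haveI : IsMulCommutative ↥V := ⟨⟨fun a b => Subtype.ext ((hxW b b.2).2 a (hxW a a.2).1)⟩⟩
  obtain ⟨inst⟩ : Nonempty (Module (ZMod p) (Additive ↥V)) := ⟨elemModule fun a ha => ha⟩
  haveI : Finite (Additive ↥V) := inferInstanceAs (Finite ↥V)
  haveI : Module.Finite (ZMod p) (Additive ↥V) := Module.Finite.of_finite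
  haveI := hG.autzLin_normal p V
  have hnp : ¬ ∀ x : G, x ∈ centralizer (V : Set G) := by
    intro hall
    have hd : p ∣ Nat.card G := hz ▸ orderOf_dvd_natCard _
    obtain ⟨P⟩ : Nonempty (Sylow p G) := inferInstance
    have hnpc : Cfsg.HasNormalPComplement p G := (Cfsg.Agent.S2910.result hp2 hd P ?_).1
    · obtain ⟨Q, N, hN, hc⟩ := hnpc
      have hNI : N.index = Nat.card (Q : Subgroup G) := hc.symm.index_eq_card
      haveI : IsPGroup p (G ⧸ N) → Group.IsNilpotent (G ⧸ N) := fun h => h.isNilpotent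
      have hq : IsPGroup p (G ⧸ N) := by
        refine IsPGroup.of_card (n := (Nat.card G).factorization p) ?_
        rw [← index_eq_card, hNI, Q.card_eq_multiplicity]
      haveI := hq.isNilpotent
      have h1 : ∀ g : G, (QuotientGroup.mk' N g) = 1 := perfect_solvable hperf _
      have : N = ⊤ := eq_top_iff.2 fun g _ => (QuotientGroup.eq_one_iff g).1 (h1 g)
      rw [this, index_top, Q.card_eq_multiplicity] at hNI
      have := Nat.Prime.factorization_pos_of_dvd hp.out Nat.card_pos.ne' hd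
      exact absurd hNI.symm (Nat.one_lt_pow this.ne' hp.out.one_lt).ne'
    · refine (closure_le _).2 fun x hx => mem_center_iff.2 fun g => ?_
      refine (hall g x ?_).symm
      show x ^ p = 1
      exact hx.2
  obtain ⟨g₀, hg₀⟩ : ∃ g, ¬ Lin.IsScalar (conjLin p V g) := by
    by_contra hall
    push Not at hall
    refine hnp fun g => (conjLin_eq_one_iff (p := p) g).1 (perfect_comm hperf _ (fun a b => ?_) g)
    obtain ⟨c, hc⟩ := hall a
    refine LinearEquiv.ext fun z => ?_
    rw [LinearEquiv.mul_apply, LinearEquiv.mul_apply, hc, hc, map_smul]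
  have hg₀' : conjLin p V g₀ ∈ autzLin p V := autzLin_eq_range (p := p) (V := V) ▸ ⟨g₀, rfl⟩
  set k := finrank (ZMod p) (Additive ↥V) with hk
  have hk2 : 2 ≤ k := by
    obtain ⟨x, hx⟩ := Lin.exists_li hg₀
    simpa using hx.fintype_card_le_finrank
  -- a Sylow subgroup of the centraliser
  set C := centralizer (V : Set G) with hC
  haveI : C.Normal := by
    rw [hC, show centralizer (V : Set G) = (conjLin p V).ker from
      (by ext x; rw [MonoidHom.mem_ker, conjLin_eq_one_iff])]
    infer_instance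
  obtain ⟨P⟩ : Nonempty (Sylow p ↥C) := inferInstance
  set T := (P : Subgroup ↥C).map C.subtype with hT
  have hTC : T ≤ C := map_subtype_le _
  have hTp : IsPGroup p T := P.2.map _
  have hVT : V ≤ T := by
    have hVC : V ≤ C := fun x hx y hy => (hxW x hx).2 y (hxW y hy).1
    haveI : (V.subgroupOf C).Normal := inferInstance
    have hle : V.subgroupOf C ≤ P := by
      have hVp : IsPGroup p (V.subgroupOf C) := fun x => ⟨1, Subtype.ext (Subtype.ext (by
        rw [pow_one]; simp only [SubgroupClass.coe_pow]; exact (show ((x : ↥C) : G) ∈ V from mem_subgroupOf.1 x.2)))⟩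
      rw [← P.3 (IsPGroup.to_sup_of_normal_right P.2 hVp) le_sup_left]
      exact le_sup_right
    exact fun x hx => ⟨⟨x, hVC hx⟩, hle (mem_subgroupOf.2 hx), rfl⟩
  have hmax : ∀ g : G, g ∈ normalizer (T : Set G) → g ∈ C → (∃ j : ℕ, g ^ p ^ j = 1) → g ∈ T := by
    rintro g hg hgC ⟨j, hj⟩
    refine ⟨⟨g, hgC⟩, ?_, rfl⟩
    have hgn : (⟨g, hgC⟩ : ↥C) ∈ normalizer ((P : Subgroup ↥C) : Set ↥C) := by
      refine mem_normalizer_iff.2 fun a => ?_
      have key : ∀ b : ↥C, b ∈ (P : Subgroup ↥C) ↔ (b : G) ∈ T := fun b =>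
        (mem_map_iff_mem C.subtype_injective).symm
      rw [key, key]
      exact mem_normalizer_iff.1 hg a
    have hz : IsPGroup p (zpowers (⟨g, hgC⟩ : ↥C)) := IsPGroup.iff_orderOf.2 fun x => by
      obtain ⟨i, hi⟩ := (Nat.dvd_prime_pow hp.out).1 ((orderOf_dvd_natCard x).trans
        ((Nat.card_zpowers _).dvd.trans (orderOf_dvd_of_pow_eq_one (Subtype.ext (by simpa using hj) :
          (⟨g, hgC⟩ : ↥C) ^ p ^ j = 1))))
      exact ⟨i, hi.2⟩
    rw [← P.3 (IsPGroup.to_sup_of_normal_right' hz P.2 (zpowers_le.2 hgn)) le_sup_right]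
    exact mem_sup_left (mem_zpowers _)
  have hfr : ∀ g : G, ∃ n ∈ normalizer (T : Set G), conjLin p V n = conjLin p V g := fun g => by
    have := (Sylow.normalizer_sup_eq_top P).symm ▸ mem_top g
    obtain ⟨n, hn, c, hc, rfl⟩ := mem_sup_of_normal_right.1 this
    exact ⟨n, hn, by rw [map_mul, (conjLin_eq_one_iff (p := p) c).2 hc, mul_one]⟩
  have hTV : T = V :=
    hG.sylow_centralizer_eq hperf hp2 (fun _ ha => ha) (fun _ hx => hx) hg₀' hg₀ hk2 hTp hVT hTC hmax hfr
  -- the lift of a transvection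
  have htv : ∀ (f : Additive ↥V →ₗ[ZMod p] ZMod p) (v : Additive ↥V) (h : f v = 0),
      LinearEquiv.transvection h ∈ autzLin p V := by
    rcases Nat.lt_or_ge k 3 with h3 | h3
    · by_cases hp3 : p = 3
      · subst hp3
        haveI := isSolvable_linearEquiv_three (W := Additive ↥V) (by omega)
        exact absurd ⟨1, fun z => by rw [perfect_solvable hperf (conjLin 3 V) g₀, one_smul]; rfl⟩ hg₀
      · have hne : ∀ q : ℕ, q.Prime → p ≠ q → (q : ZMod p) ≠ 0 := fun q hq hpq h0 =>
          hpq ((Nat.prime_dvd_prime_iff_eq hp.out hq).1 ((ZMod.natCast_eq_zero_iff q p).1 h0))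
        obtain ⟨f, v, h, hf, hv, hm⟩ := Lin.exists_tv_of_two (show k = 2 by omega)
          (by exact_mod_cast hne 2 Nat.prime_two hp2) (by exact_mod_cast hne 3 Nat.prime_three hp3) hg₀' hg₀
        exact Lin.all_tv h hf hv hm
    · obtain ⟨f, v, h, hf, hv, hm⟩ := Lin.exists_tv_of_three h3 hg₀' hg₀
      exact Lin.all_tv h hf hv hm
  obtain ⟨e, he⟩ := exists_linearIndependent_of_le_finrank hk2
  obtain ⟨fx, hfx⟩ := Lin.exists_dual he ![1, 0]
  obtain ⟨fy, hfy⟩ := Lin.exists_dual he ![0, 1]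
  set x := e 0
  set y := e 1
  have hxx : fx x = 1 := hfx 0
  have hxy : fx y = 0 := hfx 1
  have hyx : fy x = 0 := hfy 0
  have hyy : fy y = 1 := hfy 1
  set u := LinearEquiv.transvection hyx with hu
  obtain ⟨g, hg⟩ : ∃ g, conjLin p V g = u := by
    have := htv fy x hyx
    rwa [autzLin_eq_range] at this
  obtain ⟨D, hD, hDz⟩ := Lin.diag_mem htv hxx hxy hyx hyy (a := (-1 : ZMod p)) (neg_ne_zero.2 one_ne_zero)
  have h2 : (2 : ZMod p) ≠ 0 := fun h0 => hp2 ((Nat.prime_dvd_prime_iff_eq hp.out Nat.prime_two).1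
    ((ZMod.natCast_eq_zero_iff 2 p).1 (by exact_mod_cast h0)))
  have hfix : ∀ z : Additive ↥V, (∀ s : G, conjLin p V s * u = u * conjLin p V s → conjLin p V s z = z) → z = 0 := by
    intro z hz
    have hcomm : ∀ τ ∈ autzLin p V, τ * u = u * τ → τ z = z := fun τ hτ hc => by
      rw [autzLin_eq_range] at hτ
      obtain ⟨s, rfl⟩ := hτ
      exact hz s hc
    have hD1 : D z = z := hcomm D hD (LinearEquiv.ext fun w => by
      simp only [LinearEquiv.mul_apply, hu, LinearEquiv.transvection.apply, hDz, map_add, map_smul, smul_eq_mul,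
        hxx, hxy, hyx, hyy, inv_neg, inv_one]
      match_scalars <;> ring)
    rw [hDz] at hD1
    have hzx : fx z = 0 := by
      have h := congrArg fx hD1
      simp only [map_add, map_smul, smul_eq_mul, hxx, hxy, inv_neg, inv_one] at h
      have h' : (2 : ZMod p) * fx z = 0 := by linear_combination -h
      exact (mul_eq_zero.1 h').resolve_left h2
    have hf : ∀ f : Dual (ZMod p) (Additive ↥V), f z = 0 := by
      intro f
      let f' := f - f x • fx
      have hf'x : f' x = 0 := by simp [f', hxx]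
      have h := hcomm _ (htv f' x hf'x) (LinearEquiv.ext fun w => by
        simp only [LinearEquiv.mul_apply, hu, LinearEquiv.transvection.apply, map_add, map_smul, smul_eq_mul, hyx, hf'x]
        module)
      rw [LinearEquiv.transvection.apply, add_eq_left] at h
      rcases smul_eq_zero.1 h with h | h
      · simpa [f', hzx] using h
      · exact absurd h (he.ne_zero 0)
    exact (Module.forall_dual_apply_eq_zero_iff (ZMod p) z).1 hf
  have hm : (V.relIndex C).Coprime p := by
    have hP : ¬ p ∣ (P : Subgroup ↥C).index := P.not_dvd_index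
    have : V.subgroupOf C = P := by
      ext a
      rw [mem_subgroupOf, ← hTV, hT]
      exact mem_map_iff_mem C.subtype_injective
    rw [relIndex, this]
    exact (Nat.coprime_comm.1 ((hp.out.coprime_iff_not_dvd).2 hP))
  obtain ⟨hpow, hmul⟩ := pow_mul_of_central_coprime (p := p) (fun x hx => hTC (hTV.symm ▸ hx)) le_rfl hm
  obtain ⟨h1, h2', h3⟩ := lift_pow_eq_one hp2 hpow hmul hg
    (fun z => by simp only [hu, LinearEquiv.transvection.apply, map_add, map_sub, map_smul, smul_eq_mul, hyx]; module)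
    hfix
  set m := V.relIndex C
  have hgV : g ^ m ∈ C := fun a ha => (hxW (g ^ m) h1).2 a (hxW a ha).1
  rw [(conjLin_eq_one_iff (p := p) _).2 hgV] at h2'
  have hu1 : u = 1 := by
    have h := pow_gcd_eq_one.2 ⟨h2'.symm, h3⟩
    rwa [hm.gcd_eq_one, pow_one] at h
  have h := LinearEquiv.congr_fun hu1 y
  rw [hu, LinearEquiv.transvection.apply, hyy, one_smul] at h
  exact he.ne_zero 0 (add_eq_left.1 h)

end CfsgLib.Homogeneous
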