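import Cfsg.Agent.Lib.Homogeneous.Elem

/-!
A non-scalar automizer of an elementary subgroup of odd exponent contains a quaternion group, which lifts to a
2-group of the normalizer.
-/

set_option autoImplicit false

namespace CfsgLib.Homogeneous

open Subgroup Module
open scoped IsMulCommutative

universe u v

/-- An element conjugating a generator into a cyclic subgroup of finite order normalizes it. -/
theorem mem_normalizer_zpowers {H : Type*} [Group H] {a b : H} (ha : IsOfFinOrder a)
    (h : b * a * b⁻¹ ∈ zpowers a) : b ∈ normalizer ((zpowers a : Subgroup H) : Set H) := by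
  haveI : Finite (zpowers a) := (finite_zpowers.2 ha).to_subtype
  have key : ∀ x ∈ zpowers a, b * x * b⁻¹ ∈ zpowers a := by
    rintro _ ⟨n, rfl⟩
    rw [show b * a ^ n * b⁻¹ = (b * a * b⁻¹) ^ n from (map_zpow (MulAut.conj b) a n)]
    exact zpow_mem h n
  have hle : (zpowers a).map (MulAut.conj b).toMonoidHom ≤ zpowers a := by
    rintro _ ⟨x, hx, rfl⟩; exact key x hx
  have heq := eq_of_le_of_card_ge hle (card_map_of_injective (MulAut.conj b).injective).ge
  refine mem_normalizer_iff.2 fun x => ⟨key x, fun hx => ?_⟩
  obtain ⟨y, hy, hyx⟩ := heq.ge hx
  obtain rfl : y = x := (MulAut.conj b).injective hyx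
  exact hy

namespace Lin

variable {F : Type u} [Field F] {V : Type v} [AddCommGroup V] [Module F V]

local notation "GL'" => (V ≃ₗ[F] V)
local notation "tv" => LinearEquiv.transvection

/-- Two elements generating a quaternion group of order eight. -/
def QPair (a b : GL') : Prop := a * a ≠ 1 ∧ (a * a) * (a * a) = 1 ∧ b * b = a * a ∧ a * b * a⁻¹ = b⁻¹

theorem one_app (z : V) : (1 : GL') z = z := rfl

theorem exists_sum_sq [Fintype F] : ∃ a b : F, b ≠ 0 ∧ a ^ 2 + b ^ 2 = -1 := by
  classical
  obtain ⟨p, hp⟩ := CharP.exists F
  haveI : NeZero p := ⟨(CharP.char_is_prime F p).ne_zero⟩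
  obtain ⟨a', b', hab'⟩ := CharP.sq_add_sq F p (-1)
  obtain ⟨a, b, hab⟩ : ∃ a b : F, a ^ 2 + b ^ 2 = -1 := ⟨a', b', by rw [hab']; norm_num⟩
  by_cases hb : b = 0
  · subst hb
    refine ⟨0, a, ?_, by linear_combination hab⟩
    rintro rfl
    simp at hab
  · exact ⟨a, b, hb, hab⟩

/-- All transvections give a quaternion pair. -/
theorem qpair_of_tv [Fintype F] [FiniteDimensional F V] (hd : 2 ≤ finrank F V) (h2 : (2 : F) ≠ 0)
    {N : Subgroup GL'} (hall : ∀ (f : Dual F V) (v : V) (h : f v = 0), tv h ∈ N) :
    ∃ a ∈ N, ∃ b ∈ N, QPair a b := by
  obtain ⟨e, he⟩ := exists_linearIndependent_of_le_finrank hd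
  obtain ⟨fx, hfx⟩ := exists_dual he ![1, 0]
  obtain ⟨fy, hfy⟩ := exists_dual he ![0, 1]
  set x := e 0
  set y := e 1
  have hxx : fx x = 1 := hfx 0
  have hxy : fx y = 0 := hfx 1
  have hyx : fy x = 0 := hfy 0
  have hyy : fy y = 1 := hfy 1
  have hX : ∀ t : F, (t • fy) x = 0 := fun t => by simp [hyx]
  have hY : ∀ t : F, (t • fx) y = 0 := fun t => by simp [hxy]
  let X : F → GL' := fun t => tv (hX t)
  let Y : F → GL' := fun t => tv (hY t)
  obtain ⟨a, b, hb, hab⟩ := exists_sum_sq (F := F)
  -- `[[0,-1],[1,0]]` and `[[a,b],[b,-a]]`
  set w : GL' := X (-1) * Y 1 * X (-1) with hwdef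
  set u : GL' := X ((a - 1) / b) * Y b * X ((-a - 1) / b) with hudef
  have hw : ∀ z, w z = z + (-fx z - fy z) • x + (fx z - fy z) • y := fun z => by
    simp only [hwdef, X, Y, LinearEquiv.mul_apply, LinearEquiv.transvection.apply, LinearMap.smul_apply, smul_eq_mul,
      map_add, map_smul, hxx, hxy, hyx, hyy]
    match_scalars <;> ring
  have hu : ∀ z, u z = z + ((a - 1) * fx z + b * fy z) • x + (b * fx z + (-a - 1) * fy z) • y := fun z => by
    simp only [hudef, X, Y, LinearEquiv.mul_apply, LinearEquiv.transvection.apply, LinearMap.smul_apply, smul_eq_mul,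
      map_add, map_smul, hxx, hxy, hyx, hyy]
    match_scalars
    · ring
    · field_simp; linear_combination (-(b * fy z)) * hab
    · field_simp
  have hsq : ∀ z, (w * w) z = z + (-2 * fx z) • x + (-2 * fy z) • y := fun z => by
    simp only [LinearEquiv.mul_apply, hw, map_add, map_smul, hxx, hxy, hyx, hyy, smul_eq_mul]
    match_scalars <;> ring
  refine ⟨w, ?_, u, ?_, fun e1 => ?_, LinearEquiv.ext fun z => ?_, LinearEquiv.ext fun z => ?_, ?_⟩
  · exact mul_mem (mul_mem (hall _ _ _) (hall _ _ _)) (hall _ _ _)
  · exact mul_mem (mul_mem (hall _ _ _) (hall _ _ _)) (hall _ _ _)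
  · have h1 : x + (-2 * fx x) • x + (-2 * fy x) • y = x := by
      rw [← hsq x, e1]; rfl
    have h3 := congrArg fx h1
    simp only [map_add, map_smul, hxx, hxy, hyx, smul_eq_mul] at h3
    exact h2 (by linear_combination -h3)
  · rw [LinearEquiv.mul_apply, hsq, hsq]
    simp only [map_add, map_smul, hxx, hxy, hyx, hyy, smul_eq_mul, one_app]
    match_scalars <;> ring
  · rw [hsq, LinearEquiv.mul_apply]
    simp only [hu, map_add, map_smul, hxx, hxy, hyx, hyy, smul_eq_mul]
    match_scalars
    · ring
    · linear_combination (fx z) * hab
    · linear_combination (fy z) * hab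
  · refine eq_inv_of_mul_eq_one_left (a := w * u * w⁻¹) (b := u) ?_
    rw [show w * u * w⁻¹ * u = (w * u) * (w⁻¹ * u) by group]
    have hinv : w⁻¹ = w * (w * w) := by
      refine inv_eq_of_mul_eq_one_right (LinearEquiv.ext fun z => ?_)
      rw [show w * (w * (w * w)) = (w * w) * (w * w) by group, LinearEquiv.mul_apply, hsq, hsq]
      simp only [map_add, map_smul, hxx, hxy, hyx, hyy, smul_eq_mul, one_app]
      match_scalars <;> ring
    rw [hinv]
    refine LinearEquiv.ext fun z => ?_
    simp only [LinearEquiv.mul_apply, hw, hu, map_add, map_smul, hxx, hxy, hyx, hyy, smul_eq_mul,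
      one_app]
    match_scalars
    · ring
    · linear_combination -(fx z) * hab
    · linear_combination -(fy z) * hab

/-- In dimension two over the field of three elements a non-scalar normal subgroup yields the pair. -/
theorem qpair_of_three [Fintype F] [FiniteDimensional F V] (hd : finrank F V = 2) (h3 : (3 : F) = 0)
    (hpm : ∀ a : F, a ≠ 0 → a = 1 ∨ a = -1) {N : Subgroup GL'} [hN : N.Normal] {g : GL'} (hgN : g ∈ N)
    (hg : ¬ IsScalar g) : ∃ a ∈ N, ∃ b ∈ N, QPair a b := by
  haveI : CharP F 3 := CharP.charP_iff_prime_eq_zero Nat.prime_three |>.2 h3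
  have h2 : (2 : F) ≠ 0 := fun e => one_ne_zero (α := F) (by linear_combination h3 - e)
  obtain ⟨x, hx⟩ := exists_li hg
  set y := g x with hy
  let B := basisOfLinearIndependentOfCardEqFinrank hx (by simp [hd])
  have B0 : B 0 = x := by simp [B]
  have B1 : B 1 = y := by simp [B, hy]
  have ext2 : ∀ {A C : GL'}, A x = C x → A y = C y → A = C := fun {A C} e0 e1 =>
    B.ext' fun i => by fin_cases i <;> simp [B0, B1, e0, e1]
  let φ : Dual F V := B.coord 1
  have φx : φ x = 0 := by rw [← B0]; simp [φ, Basis.coord_apply]
  have φy : φ y = 1 := by rw [← B1]; simp [φ, Basis.coord_apply]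
  set τ : GL' := tv φx with hτ
  set P : GL' := g * τ * g⁻¹ * τ⁻¹ with hP
  have hPN : P ∈ N := by
    rw [hP, show g * τ * g⁻¹ * τ⁻¹ = g * (τ * g⁻¹ * τ⁻¹) by group]
    exact mul_mem hgN (hN.conj_mem _ (inv_mem hgN) τ)
  set β := φ ((g⁻¹ : GL') x) with hβ
  have hgy : φ ((g⁻¹ : GL') y) = 0 := by
    rw [show (g⁻¹ : GL') y = x from g.symm_apply_apply x, φx]
  have Px : P x = x + β • y := by
    rw [hP, show g * τ * g⁻¹ * τ⁻¹ = (g * τ * g⁻¹) * τ⁻¹ from rfl, hτ, conj_tv, LinearEquiv.mul_apply, tv_inv_apply,
      LinearEquiv.transvection.apply, φx, zero_smul, sub_zero]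
    rfl
  have Py : P y = -x + (1 - β) • y := by
    rw [hP, show g * τ * g⁻¹ * τ⁻¹ = (g * τ * g⁻¹) * τ⁻¹ from rfl, hτ, conj_tv, LinearEquiv.mul_apply, tv_inv_apply,
      LinearEquiv.transvection.apply, φy, one_smul, LinearMap.comp_apply, LinearEquiv.coe_coe, map_sub, map_sub,
      hgy, ← hβ, zero_sub, ← hy]
    module
  have hβ0 : β ≠ 0 := by
    intro e
    set z := (g⁻¹ : GL') x
    have hz : z = B.repr z 0 • x + B.repr z 1 • y := by
      conv_lhs => rw [← B.sum_repr z]
      rw [Fin.sum_univ_two, B0, B1]
    rw [show B.repr z 1 = φ z from rfl, ← hβ, e, zero_smul, add_zero] at hz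
    have h4 := congrArg g hz
    rw [map_smul, show g z = x from g.apply_symm_apply x, ← hy] at h4
    have := LinearIndependent.eq_zero_of_pair hx (s := 1) (t := -(B.repr z 0)) (by rw [one_smul]; nth_rewrite 1 [h4]; module)
    exact one_ne_zero this.1
  rcases hpm β hβ0 with e | e
  · -- `P * P` is a transvection
    have hne : (P * P) ≠ 1 := by
      intro e1
      have h4 := congrArg φ (LinearEquiv.congr_fun e1 x)
      simp only [LinearEquiv.mul_apply, one_app, Px, Py, map_add, map_smul, map_neg, φx, φy, e,
        smul_eq_mul] at h4
      exact one_ne_zero (α := F) (by linear_combination h4)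
    let ψ : Dual F V := B.coord 0 + B.coord 1
    have ψx : ψ x = 1 := by
      simp only [ψ, LinearMap.add_apply, Basis.coord_apply]; rw [← B0]; simp
    have ψy : ψ y = 1 := by
      simp only [ψ, LinearMap.add_apply, Basis.coord_apply]; rw [← B1]; simp
    have hv : ψ (y - x) = 0 := by rw [map_sub, ψx, ψy, sub_self]
    have e2 : tv hv = P * P := by
      refine ext2 ?_ ?_ <;>
        simp only [LinearEquiv.mul_apply, LinearEquiv.transvection.apply, Px, Py, map_add, map_smul, map_neg, ψx, ψy,
          e]
      · match_scalars <;> (first
     | ring1
     | linear_combination (1 : F) * h3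
     | linear_combination (-1 : F) * h3
     | linear_combination (2 : F) * h3
     | linear_combination (-2 : F) * h3
     | linear_combination (3 : F) * h3
     | linear_combination (-3 : F) * h3
     | linear_combination (4 : F) * h3
     | linear_combination (-4 : F) * h3
     | linear_combination (5 : F) * h3
     | linear_combination (-5 : F) * h3
     | linear_combination (6 : F) * h3
     | linear_combination (-6 : F) * h3)
      · match_scalars
        · (first
            | ring1
            | linear_combination (1 : F) * h3
            | linear_combination (-1 : F) * h3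
            | linear_combination (2 : F) * h3
            | linear_combination (-2 : F) * h3
            | linear_combination (3 : F) * h3
            | linear_combination (-3 : F) * h3
            | linear_combination (4 : F) * h3
            | linear_combination (-4 : F) * h3
            | linear_combination (5 : F) * h3
            | linear_combination (-5 : F) * h3
            | linear_combination (6 : F) * h3
            | linear_combination (-6 : F) * h3)
        · (first
            | ring1
            | linear_combination (1 : F) * h3
            | linear_combination (-1 : F) * h3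
            | linear_combination (2 : F) * h3
            | linear_combination (-2 : F) * h3
            | linear_combination (3 : F) * h3
            | linear_combination (-3 : F) * h3
            | linear_combination (4 : F) * h3
            | linear_combination (-4 : F) * h3
            | linear_combination (5 : F) * h3
            | linear_combination (-5 : F) * h3
            | linear_combination (6 : F) * h3
            | linear_combination (-6 : F) * h3)
    refine qpair_of_tv (by omega) h2 (all_tv hv ?_ ?_ (e2 ▸ mul_mem hPN hPN))
    · exact fun e => one_ne_zero (by rw [← ψx, e]; rfl)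
    · intro e4
      exact hne (by rw [← e2]; refine LinearEquiv.ext fun z => ?_; rw [LinearEquiv.transvection.apply, e4, smul_zero, add_zero]; rfl)
  · -- `P` has order four
    have Px' : P x = (1 : F) • x + (-1 : F) • y := by rw [Px, e, one_smul]
    have Py' : P y = (-1 : F) • x + (-1 : F) • y := by
      rw [Py, e, show (1 : F) - -1 = -1 by linear_combination h3]; module
    have hv : φ x = 0 := φx
    set σ := tv φx
    refine ⟨P, hPN, σ * P * σ⁻¹, hN.conj_mem P hPN σ, fun e1 => ?_, ext2 ?_ ?_, ext2 ?_ ?_, ?_⟩
    · have h4 := congrArg φ (LinearEquiv.congr_fun e1 y)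
      simp only [LinearEquiv.mul_apply, one_app, Px', Py', map_add, map_sub, map_smul, map_neg, φx,
        φy, smul_eq_mul] at h4
      exact one_ne_zero (α := F) (by linear_combination h4)
    · simp only [LinearEquiv.mul_apply, one_app, Px', Py', map_add, map_sub, map_smul, map_neg]
      match_scalars
      · (first
          | ring1
          | linear_combination (1 : F) * h3
          | linear_combination (-1 : F) * h3
          | linear_combination (2 : F) * h3
          | linear_combination (-2 : F) * h3
          | linear_combination (3 : F) * h3
          | linear_combination (-3 : F) * h3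
          | linear_combination (4 : F) * h3
          | linear_combination (-4 : F) * h3
          | linear_combination (5 : F) * h3
          | linear_combination (-5 : F) * h3
          | linear_combination (6 : F) * h3
          | linear_combination (-6 : F) * h3)
      · (first
          | ring1
          | linear_combination (1 : F) * h3
          | linear_combination (-1 : F) * h3
          | linear_combination (2 : F) * h3
          | linear_combination (-2 : F) * h3
          | linear_combination (3 : F) * h3
          | linear_combination (-3 : F) * h3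
          | linear_combination (4 : F) * h3
          | linear_combination (-4 : F) * h3
          | linear_combination (5 : F) * h3
          | linear_combination (-5 : F) * h3
          | linear_combination (6 : F) * h3
          | linear_combination (-6 : F) * h3)
    · simp only [LinearEquiv.mul_apply, one_app, Px', Py', map_add, map_sub, map_smul, map_neg]
      match_scalars
      · (first
          | ring1
          | linear_combination (1 : F) * h3
          | linear_combination (-1 : F) * h3
          | linear_combination (2 : F) * h3
          | linear_combination (-2 : F) * h3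
          | linear_combination (3 : F) * h3
          | linear_combination (-3 : F) * h3
          | linear_combination (4 : F) * h3
          | linear_combination (-4 : F) * h3
          | linear_combination (5 : F) * h3
          | linear_combination (-5 : F) * h3
          | linear_combination (6 : F) * h3
          | linear_combination (-6 : F) * h3)
      · (first
          | ring1
          | linear_combination (1 : F) * h3
          | linear_combination (-1 : F) * h3
          | linear_combination (2 : F) * h3
          | linear_combination (-2 : F) * h3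
          | linear_combination (3 : F) * h3
          | linear_combination (-3 : F) * h3
          | linear_combination (4 : F) * h3
          | linear_combination (-4 : F) * h3
          | linear_combination (5 : F) * h3
          | linear_combination (-5 : F) * h3
          | linear_combination (6 : F) * h3
          | linear_combination (-6 : F) * h3)
    · simp only [σ, LinearEquiv.mul_apply, LinearEquiv.transvection.apply, tv_inv_apply, Px', Py', map_add, map_sub,
        map_smul, map_neg, φx, φy, smul_eq_mul]
      match_scalars
      · (first
          | ring1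
          | linear_combination (1 : F) * h3
          | linear_combination (-1 : F) * h3
          | linear_combination (2 : F) * h3
          | linear_combination (-2 : F) * h3
          | linear_combination (3 : F) * h3
          | linear_combination (-3 : F) * h3
          | linear_combination (4 : F) * h3
          | linear_combination (-4 : F) * h3
          | linear_combination (5 : F) * h3
          | linear_combination (-5 : F) * h3
          | linear_combination (6 : F) * h3
          | linear_combination (-6 : F) * h3)
      · (first
          | ring1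
          | linear_combination (1 : F) * h3
          | linear_combination (-1 : F) * h3
          | linear_combination (2 : F) * h3
          | linear_combination (-2 : F) * h3
          | linear_combination (3 : F) * h3
          | linear_combination (-3 : F) * h3
          | linear_combination (4 : F) * h3
          | linear_combination (-4 : F) * h3
          | linear_combination (5 : F) * h3
          | linear_combination (-5 : F) * h3
          | linear_combination (6 : F) * h3
          | linear_combination (-6 : F) * h3)
    · simp only [σ, LinearEquiv.mul_apply, LinearEquiv.transvection.apply, tv_inv_apply, Px', Py', map_add, map_sub,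
        map_smul, map_neg, φx, φy, smul_eq_mul]
      match_scalars
      · (first
          | ring1
          | linear_combination (1 : F) * h3
          | linear_combination (-1 : F) * h3
          | linear_combination (2 : F) * h3
          | linear_combination (-2 : F) * h3
          | linear_combination (3 : F) * h3
          | linear_combination (-3 : F) * h3
          | linear_combination (4 : F) * h3
          | linear_combination (-4 : F) * h3
          | linear_combination (5 : F) * h3
          | linear_combination (-5 : F) * h3
          | linear_combination (6 : F) * h3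
          | linear_combination (-6 : F) * h3)
      · (first
          | ring1
          | linear_combination (1 : F) * h3
          | linear_combination (-1 : F) * h3
          | linear_combination (2 : F) * h3
          | linear_combination (-2 : F) * h3
          | linear_combination (3 : F) * h3
          | linear_combination (-3 : F) * h3
          | linear_combination (4 : F) * h3
          | linear_combination (-4 : F) * h3
          | linear_combination (5 : F) * h3
          | linear_combination (-5 : F) * h3
          | linear_combination (6 : F) * h3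
          | linear_combination (-6 : F) * h3)
    · refine eq_inv_of_mul_eq_one_left ?_
      rw [show P * (σ * P * σ⁻¹) * P⁻¹ * (σ * P * σ⁻¹) = P * σ * P * σ⁻¹ * P⁻¹ * σ * P * σ⁻¹ by group]
      have hinv : P⁻¹ = P * (P * P) := by
        refine inv_eq_of_mul_eq_one_right (ext2 ?_ ?_) <;>
          simp only [LinearEquiv.mul_apply, one_app, Px', Py', map_add, map_sub, map_smul, map_neg] <;>
          match_scalars
        · (first
            | ring1
            | linear_combination (1 : F) * h3
            | linear_combination (-1 : F) * h3
            | linear_combination (2 : F) * h3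
            | linear_combination (-2 : F) * h3
            | linear_combination (3 : F) * h3
            | linear_combination (-3 : F) * h3
            | linear_combination (4 : F) * h3
            | linear_combination (-4 : F) * h3
            | linear_combination (5 : F) * h3
            | linear_combination (-5 : F) * h3
            | linear_combination (6 : F) * h3
            | linear_combination (-6 : F) * h3)
        · (first
            | ring1
            | linear_combination (1 : F) * h3
            | linear_combination (-1 : F) * h3
            | linear_combination (2 : F) * h3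
            | linear_combination (-2 : F) * h3
            | linear_combination (3 : F) * h3
            | linear_combination (-3 : F) * h3
            | linear_combination (4 : F) * h3
            | linear_combination (-4 : F) * h3
            | linear_combination (5 : F) * h3
            | linear_combination (-5 : F) * h3
            | linear_combination (6 : F) * h3
            | linear_combination (-6 : F) * h3)
        · (first
            | ring1
            | linear_combination (1 : F) * h3
            | linear_combination (-1 : F) * h3
            | linear_combination (2 : F) * h3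
            | linear_combination (-2 : F) * h3
            | linear_combination (3 : F) * h3
            | linear_combination (-3 : F) * h3
            | linear_combination (4 : F) * h3
            | linear_combination (-4 : F) * h3
            | linear_combination (5 : F) * h3
            | linear_combination (-5 : F) * h3
            | linear_combination (6 : F) * h3
            | linear_combination (-6 : F) * h3)
        · (first
            | ring1
            | linear_combination (1 : F) * h3
            | linear_combination (-1 : F) * h3
            | linear_combination (2 : F) * h3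
            | linear_combination (-2 : F) * h3
            | linear_combination (3 : F) * h3
            | linear_combination (-3 : F) * h3
            | linear_combination (4 : F) * h3
            | linear_combination (-4 : F) * h3
            | linear_combination (5 : F) * h3
            | linear_combination (-5 : F) * h3
            | linear_combination (6 : F) * h3
            | linear_combination (-6 : F) * h3)
      rw [hinv]
      refine ext2 ?_ ?_ <;>
        simp only [σ, LinearEquiv.mul_apply, one_app, LinearEquiv.transvection.apply, tv_inv_apply,
          Px', Py', map_add, map_sub, map_smul, map_neg, φx, φy, smul_eq_mul] <;>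
        match_scalars <;> (first
     | ring1
     | linear_combination (1 : F) * h3
     | linear_combination (-1 : F) * h3
     | linear_combination (2 : F) * h3
     | linear_combination (-2 : F) * h3
     | linear_combination (3 : F) * h3
     | linear_combination (-3 : F) * h3
     | linear_combination (4 : F) * h3
     | linear_combination (-4 : F) * h3
     | linear_combination (5 : F) * h3
     | linear_combination (-5 : F) * h3
     | linear_combination (6 : F) * h3
     | linear_combination (-6 : F) * h3)

theorem three_units : ∀ a : ZMod 3, a ≠ 0 → a = 1 ∨ a = -1 := by decide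

/-- A non-scalar element of a normal subgroup over a field of odd prime order yields a pair. -/
theorem qpair {p : ℕ} [Fact p.Prime] (hp2 : p ≠ 2) {V : Type v} [AddCommGroup V] [Module (ZMod p) V]
    [FiniteDimensional (ZMod p) V] (hd : 2 ≤ finrank (ZMod p) V) {N : Subgroup (V ≃ₗ[ZMod p] V)} [N.Normal]
    {g : V ≃ₗ[ZMod p] V} (hgN : g ∈ N) (hg : ¬ IsScalar g) : ∃ a ∈ N, ∃ b ∈ N, QPair a b := by
  have h2 : (2 : ZMod p) ≠ 0 := by
    intro e
    have h2 : ((2 : ℕ) : ZMod p) = 0 := by exact_mod_cast e
    rw [ZMod.natCast_eq_zero_iff] at h2
    exact hp2 ((Nat.prime_dvd_prime_iff_eq Fact.out Nat.prime_two).1 h2)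
  rcases eq_or_lt_of_le hd with hd2 | hd3
  · by_cases h3 : p = 3
    · subst h3
      exact qpair_of_three hd2.symm (ZMod.natCast_self 3) three_units hgN hg
    · have h3' : (3 : ZMod p) ≠ 0 := by
        intro e
        have h2 : ((3 : ℕ) : ZMod p) = 0 := by exact_mod_cast e
        rw [ZMod.natCast_eq_zero_iff] at h2
        exact h3 ((Nat.prime_dvd_prime_iff_eq Fact.out Nat.prime_three).1 h2)
      obtain ⟨f, v, h, hf, hv, hm⟩ := exists_tv_of_two hd2.symm h2 h3' hgN hg
      exact qpair_of_tv hd h2 (all_tv h hf hv hm)
  · obtain ⟨f, v, h, hf, hv, hm⟩ := exists_tv_of_three hd3 hgN hg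
    exact qpair_of_tv hd h2 (all_tv h hf hv hm)

end Lin

variable {G : Type u} [Group G] [Finite G] {p : ℕ} [Fact p.Prime]

/-- Either the automizer is scalar, or a 2-subgroup of the normalizer induces a quaternion group. -/
theorem Hom.scalar_or_quaternion (h : Hom G) (hp2 : p ≠ 2) (E : Subgroup G) [IsMulCommutative ↥E]
    [Module (ZMod p) (Additive ↥E)] (hrank : p ^ 2 ∣ Nat.card ↥E) :
    (∀ f ∈ autzLin p E, Lin.IsScalar f) ∨ ∃ T : Subgroup G, IsPGroup 2 T ∧ T ≤ normalizer (E : Set G) ∧
      ∃ a ∈ T, ∃ b ∈ T, a * a ∉ centralizer (E : Set G) ∧ (a * a) * (a * a) ∈ centralizer (E : Set G) ∧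
        b * b * (a * a)⁻¹ ∈ centralizer (E : Set G) ∧ a * b * a⁻¹ * b ∈ centralizer (E : Set G) := by
  haveI : Fact (Nat.Prime 2) := ⟨Nat.prime_two⟩
  haveI : Finite (Additive ↥E) := inferInstanceAs (Finite ↥E)
  haveI : FiniteDimensional (ZMod p) (Additive ↥E) := Module.Finite.of_finite
  by_cases hs : ∀ f ∈ autzLin p E, Lin.IsScalar f
  · exact Or.inl hs
  right
  push Not at hs
  obtain ⟨f, hf, hns⟩ := hs
  haveI := h.autzLin_normal p E
  have hd : 2 ≤ finrank (ZMod p) (Additive ↥E) := by
    rw [card_eq (p := p) (E := E), Nat.pow_dvd_pow_iff_le_right (Fact.out : p.Prime).one_lt] at hrank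
    exact hrank
  obtain ⟨a, ha, b, hb, h1, h4, hbb, hab⟩ := Lin.qpair hp2 hd hf hns
  let π : normalizer (E : Set G) →* (Additive ↥E ≃ₗ[ZMod p] Additive ↥E) :=
    (toLin p E).toMonoidHom.comp E.normalizerMonoidHom
  have hπ : ∀ x ∈ autzLin p E, x ∈ π.range := fun x hx => by
    obtain ⟨α, hα, rfl⟩ := hx
    rw [autz_eq_range] at hα
    obtain ⟨g, rfl⟩ := hα
    exact ⟨g, rfl⟩
  have hker : ∀ g, π g = 1 ↔ (g : G) ∈ centralizer (E : Set G) := fun g => linOf_eq_one_iff g
  set Q := zpowers a ⊔ zpowers b with hQ
  have ha4 : a ^ 2 ^ 2 = 1 := by rw [show (2 : ℕ) ^ 2 = 2 + 2 by norm_num, pow_add, sq]; exact h4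
  have hb4 : b ^ 2 ^ 2 = 1 := by rw [show (2 : ℕ) ^ 2 = 2 + 2 by norm_num, pow_add, sq, hbb]; exact h4
  have pz : ∀ {x : Additive ↥E ≃ₗ[ZMod p] Additive ↥E}, x ^ 2 ^ 2 = 1 → IsPGroup 2 (zpowers x) := by
    intro x hx
    obtain ⟨i, -, hi⟩ := (Nat.dvd_prime_pow Nat.prime_two).1 (orderOf_dvd_of_pow_eq_one hx)
    exact IsPGroup.of_card (n := i) (by rw [Nat.card_zpowers, hi])
  have hba : b * a * b⁻¹ = a⁻¹ := by
    have e1 : b⁻¹ * a * b⁻¹ = a := by
      nth_rewrite 1 [← hab]
      group
    calc b * a * b⁻¹ = b * (b⁻¹ * a * b⁻¹) * b⁻¹ := by rw [e1]
      _ = a * (b * b)⁻¹ := by group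
      _ = a⁻¹ := by rw [hbb]; group
  have hQp : IsPGroup 2 Q := by
    refine IsPGroup.to_sup_of_normal_left' (pz ha4) (pz hb4) ((zpowers_le).2 ?_)
    refine CfsgLib.Homogeneous.mem_normalizer_zpowers (isOfFinOrder_iff_pow_eq_one.2 ⟨_, by norm_num, ha4⟩) ?_
    rw [hba]; exact inv_mem (mem_zpowers a)
  have hQr : Q ≤ π.range := sup_le (zpowers_le.2 (hπ a ha)) (zpowers_le.2 (hπ b hb))
  let π' : ↥(Q.comap π) →* ↥Q := π.subgroupComap Q
  have hsur : Function.Surjective π' := fun x => by
    obtain ⟨g, hg⟩ := hQr x.2
    exact ⟨⟨g, by rw [mem_comap, hg]; exact x.2⟩, Subtype.ext hg⟩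
  let S : Sylow 2 ↥(Q.comap π) := default
  let S' : Sylow 2 ↥Q := S.mapSurjective hsur
  have htop : (S' : Subgroup ↥Q) = ⊤ :=
    S'.3 (hQp.of_equiv (Subgroup.topEquiv (G := ↥Q)).symm) le_top |>.symm
  have hsurS : ∀ x : ↥Q, ∃ s ∈ (S : Subgroup ↥(Q.comap π)), π' s = x := fun x => by
    have hx : x ∈ (S' : Subgroup ↥Q) := htop ▸ mem_top x
    rw [Sylow.coe_mapSurjective, mem_map] at hx
    exact hx
  obtain ⟨a', ha', hae⟩ := hsurS ⟨a, mem_sup_left (mem_zpowers a)⟩
  obtain ⟨b', hb', hbe⟩ := hsurS ⟨b, mem_sup_right (mem_zpowers b)⟩
  let T : Subgroup G := ((S : Subgroup ↥(Q.comap π)).map (Subgroup.subtype _)).map (Subgroup.subtype _)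
  have ea : π a'.1 = a := congrArg Subtype.val hae
  have eb : π b'.1 = b := congrArg Subtype.val hbe
  refine ⟨T, (S.2.map _).map _, ?_, _, ⟨_, ⟨a', ha', rfl⟩, rfl⟩, _, ⟨_, ⟨b', hb', rfl⟩, rfl⟩, ?_, ?_, ?_, ?_⟩
  · rintro _ ⟨x, -, rfl⟩; exact x.2
  · intro hc
    exact h1 (by rw [← ea, ← map_mul]; exact (hker (a'.1 * a'.1)).2 hc)
  · exact (hker (a'.1 * a'.1 * (a'.1 * a'.1))).1 (by simp only [map_mul, ea]; exact h4)
  · exact (hker (b'.1 * b'.1 * (a'.1 * a'.1)⁻¹)).1 (by simp only [map_mul, map_inv, ea, eb, hbb, mul_inv_cancel])
  · exact (hker (a'.1 * b'.1 * a'.1⁻¹ * b'.1)).1 (by simp only [map_mul, map_inv, ea, eb, hab, inv_mul_cancel])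

end CfsgLib.Homogeneous
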