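import Cfsg.Agent.Lib.Homogeneous.Elem
import Cfsg.Agent.Lib.Homogeneous.Scalar
import Cfsg.Agent.Lib.Homogeneous.OddCore
import Cfsg.Agent.Lib.PSL2.Out
import Cfsg.Prelude.Def_SporadicB

/-!
Which of the groups `SL(2,q)`, `PSL(2,q)`, the alternating group of degree seven and its double cover are homogeneous.
-/

set_option autoImplicit false
set_option linter.unusedSectionVars false
set_option maxSynthPendingDepth 3
set_option maxHeartbeats 400000

namespace CfsgLib.Homogeneous

open Subgroup Module Matrix CfsgLib.PSL2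
open scoped IsMulCommutative MatrixGroups

universe u

/-! ### The field has prime order -/

/-- A root group on which the normalizer acts by multiplications forces a prime field. -/
theorem prime_of_root {G : Type u} [Group G] [Finite G] (hG : Hom G) {F : Type} [Field F] [Fintype F]
    (hodd : Odd (Fintype.card F)) (ι : Multiplicative F →* G) (hι : Function.Injective ι)
    (hN : ∀ g ∈ normalizer (ι.range : Set G), ∃ c : F, ∀ t : F,
      g * ι (Multiplicative.ofAdd t) * g⁻¹ = ι (Multiplicative.ofAdd (c * t)))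
    (hd : ∀ a : F, a ≠ 0 → ∃ g : G, ∀ t : F,
      g * ι (Multiplicative.ofAdd t) * g⁻¹ = ι (Multiplicative.ofAdd (a ^ 2 * t))) :
    (Fintype.card F).Prime := by
  obtain ⟨p, hchar⟩ := CharP.exists F
  obtain ⟨f, hp, hcard⟩ := FiniteField.card F p
  haveI : Fact p.Prime := ⟨hp⟩
  have hp2 : p ≠ 2 := by
    rintro rfl
    rw [hcard] at hodd
    exact Nat.not_even_iff_odd.2 hodd (Nat.even_pow.2 ⟨even_two, f.pos.ne'⟩)
  by_contra hnp
  have hf : 2 ≤ (f : ℕ) := by
    by_contra hlt
    have h1 : (f : ℕ) = 1 := by have := f.pos; omega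
    rw [hcard, h1, pow_one] at hnp
    exact hnp hp
  set U := ι.range with hU
  have hmem : ∀ a ∈ U, ∃ t : F, ι (Multiplicative.ofAdd t) = a := fun a ⟨t, ht⟩ => ⟨Multiplicative.toAdd t, ht⟩
  haveI : IsMulCommutative ↥U := ⟨⟨fun a b => by
    obtain ⟨s, hs⟩ := hmem a a.2
    obtain ⟨t, ht⟩ := hmem b b.2
    exact Subtype.ext (by rw [Subgroup.coe_mul, Subgroup.coe_mul, ← hs, ← ht, ← map_mul ι, mul_comm, map_mul ι])⟩⟩
  obtain ⟨instU⟩ : Nonempty (Module (ZMod p) (Additive ↥U)) := ⟨elemModule fun a ha => by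
    obtain ⟨t, rfl⟩ := hmem a ha
    rw [← map_pow, ← ofAdd_nsmul, nsmul_eq_mul, CharP.cast_eq_zero, zero_mul, ofAdd_zero, map_one]⟩
  haveI : Finite (Additive ↥U) := inferInstanceAs (Finite ↥U)
  haveI : Module.Finite (ZMod p) (Additive ↥U) := Module.Finite.of_finite
  haveI := hG.autzLin_normal p U
  have hdim : finrank (ZMod p) (Additive ↥U) = f := by
    refine Nat.pow_right_injective hp.two_le ?_
    show p ^ _ = p ^ _
    rw [← card_eq (p := p) (E := U), ← Nat.card_congr (MonoidHom.ofInjective hι).toEquiv, ← hcard,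
      Nat.card_congr (Multiplicative.toAdd : Multiplicative F ≃ F), Nat.card_eq_fintype_card]
  -- a non-scalar element
  obtain ⟨a, ha, hns⟩ : ∃ a : F, a ≠ 0 ∧ ∀ n : ℕ, a ^ 2 ≠ n := by
    by_contra hall
    push Not at hall
    let S : AddSubgroup F := (ZMod.castHom dvd_rfl F : ZMod p →+* F).toAddMonoidHom.range
    have hS : ∀ y : F, y ^ 2 ∈ S := fun y => by
      rcases eq_or_ne y 0 with rfl | hy
      · rw [zero_pow two_ne_zero]; exact zero_mem _
      · obtain ⟨n, hn⟩ := hall y hy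
        exact ⟨n, by rw [hn]; exact map_natCast (ZMod.castHom dvd_rfl F) n⟩
    have hsurj : Function.Surjective (ZMod.castHom dvd_rfl F : ZMod p →+* F) := fun x =>
      squares_generate (p := p) S hS x
    have := Nat.card_le_card_of_surjective _ hsurj
    rw [Nat.card_eq_fintype_card, Nat.card_zmod, hcard] at this
    have h2 : p ^ 2 ≤ p ^ (f : ℕ) := Nat.pow_le_pow_right hp.pos hf
    nlinarith [hp.two_le]
  obtain ⟨g, hg⟩ := hd a ha
  have hgN : g ∈ normalizer (U : Set G) := by
    have hmap : U.map (MulAut.conj g).toMonoidHom ≤ U := by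
      rintro _ ⟨x, hx, rfl⟩
      obtain ⟨t, rfl⟩ := hmem x hx
      exact ⟨Multiplicative.ofAdd (a ^ 2 * t), (hg t).symm⟩
    have heq := eq_of_le_of_card_ge hmap (card_map_of_injective (MulAut.conj g).injective).ge
    refine mem_normalizer_iff.2 fun x => ⟨fun hx => hmap ⟨x, hx, rfl⟩, fun hx => ?_⟩
    obtain ⟨y, hy, hyx⟩ := heq.ge hx
    obtain rfl : y = x := (MulAut.conj g).injective hyx
    exact hy
  have hnsc : ¬ Lin.IsScalar (linOf (p := p) (⟨g, hgN⟩ : normalizer (U : Set G))) := by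
    intro hsc
    obtain ⟨k, hk⟩ := scalar_pow hsc
    refine hns k ?_
    have h1 := hk ⟨_, ⟨Multiplicative.ofAdd (1 : F), rfl⟩⟩
    have h2 := congrArg Subtype.val h1
    rw [linOf_apply, hg 1, SubgroupClass.coe_pow, ← map_pow, ← ofAdd_nsmul, mul_one, nsmul_one] at h2
    exact Multiplicative.ofAdd.injective (hι h2)
  obtain ⟨A, hA, B, hB, hAB, -, hBB, hconj⟩ := Lin.qpair hp2 (by omega) (linOf_mem (p := p) ⟨g, hgN⟩) hnsc
  -- but the automizer is abelian
  have hcomm : A * B = B * A := by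
    obtain ⟨x, hx⟩ := mem_autzLin.1 hA
    obtain ⟨y, hy⟩ := mem_autzLin.1 hB
    have hxN : x ∈ normalizer (U : Set G) := mem_normalizer_of_autz (α := (toLin p U).symm A) fun u => hx u
    have hyN : y ∈ normalizer (U : Set G) := mem_normalizer_of_autz (α := (toLin p U).symm B) fun u => hy u
    obtain ⟨c, hc⟩ := hN x hxN
    obtain ⟨d, hd⟩ := hN y hyN
    refine LinearEquiv.ext fun z => congrArg Additive.ofMul (Subtype.ext ?_ :
      (Additive.toMul (A (B z)) : ↥U) = Additive.toMul (B (A z)))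
    refine (hx (Additive.toMul (B z))).symm.trans (Eq.trans ?_ (hy (Additive.toMul (A z))))
    rw [show ((Additive.toMul (B z) : ↥U) : G) = _ from (hy (Additive.toMul z)).symm,
      show ((Additive.toMul (A z) : ↥U) : G) = _ from (hx (Additive.toMul z)).symm]
    obtain ⟨t, ht⟩ := hmem _ (Additive.toMul z).2
    rw [← ht, hd, hc, hc, hd, mul_left_comm]
  refine hAB ?_
  rw [hcomm, mul_inv_cancel_right] at hconj
  rw [← hBB]
  exact mul_eq_one_iff_eq_inv.2 hconj

/-! ### Traces -/

/-- The trace of a matrix of determinant one. -/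
abbrev tr {F : Type} [CommRing F] (A : SpecialLinearGroup (Fin 2) F) : F := A.1.trace

theorem field_refl {p : ℕ} (e : ZMod p ≃+* ZMod p) : e = RingEquiv.refl _ :=
  RingEquiv.toRingHom_injective (RingHom.ext_zmod e.toRingHom (RingHom.id _))

theorem tr_conjSL {F : Type} [Field F] (g : GL (Fin 2) F) (A : SpecialLinearGroup (Fin 2) F) :
    tr (conjSL g A) = tr A := by
  show (g.1 * A.1 * (g⁻¹).1).trace = A.1.trace
  rw [Matrix.trace_mul_cycle, ← Units.val_mul, inv_mul_cancel, Units.val_one, Matrix.one_mul]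

/-- In a homogeneous `PSL(2,p)` elements of one order have equal traces up to sign. -/
theorem tr_psl {p : ℕ} [Fact p.Prime] (hG : Hom (ProjectiveSpecialLinearGroup (Fin 2) (ZMod p)))
    (x y : SpecialLinearGroup (Fin 2) (ZMod p)) (h : orderOf (PSL2.mk x) = orderOf (PSL2.mk y)) :
    tr y = tr x ∨ tr y = -tr x := by
  obtain ⟨φ, hφ⟩ := hG.exists_map h
  obtain ⟨g, e, he⟩ := exists_diag_field p φ
  rw [he, field_refl e] at hφ
  erw [fieldAut_refl, mul_one] at hφ
  have h2 : PSL2.mk (conjSL g x) = PSL2.mk y := hφ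
  rcases mk_eq_mk.1 h2.symm with e1 | e1
  · exact Or.inl (by rw [← tr_conjSL g x]; exact (congrArg Matrix.trace e1).symm)
  · refine Or.inr ?_
    rw [← tr_conjSL g x]
    show y.1.trace = -(conjSL g x).1.trace
    rw [show (conjSL g x).1 = -y.1 from e1, Matrix.trace_neg, neg_neg]

/-- In a homogeneous perfect `SL(2,p)` elements of one order have equal traces. -/
theorem tr_sl {p : ℕ} [Fact p.Prime] (hG : Hom (SpecialLinearGroup (Fin 2) (ZMod p)))
    (hperf : commutator (SpecialLinearGroup (Fin 2) (ZMod p)) = ⊤)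
    (x y : SpecialLinearGroup (Fin 2) (ZMod p)) (h : orderOf x = orderOf y) : tr y = tr x := by
  obtain ⟨φ, hφ⟩ := hG.exists_map h
  obtain ⟨g, e, he⟩ := exists_diag_field p (centreQuotAut (SpecialLinearGroup (Fin 2) (ZMod p)) φ)
  rw [field_refl e] at he
  erw [fieldAut_refl, mul_one] at he
  have hz : ∀ A, ((conjSL g)⁻¹ * φ) A * A⁻¹ ∈ center (SpecialLinearGroup (Fin 2) (ZMod p)) := by
    intro A
    have h1 : centreQuotAut _ ((conjSL g)⁻¹ * φ) = 1 := by
      rw [map_mul, map_inv, he]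
      exact inv_mul_cancel _
    have h2 : (QuotientGroup.mk (((conjSL g)⁻¹ * φ) A) : _ ⧸ center (SpecialLinearGroup (Fin 2) (ZMod p))) =
        QuotientGroup.mk A :=
      congrArg (fun f : MulAut (_ ⧸ center (SpecialLinearGroup (Fin 2) (ZMod p))) => f (QuotientGroup.mk A)) h1
    exact (inferInstance : (center (SpecialLinearGroup (Fin 2) (ZMod p))).Normal).mem_comm
      (QuotientGroup.eq.1 h2.symm)
  let χ : SpecialLinearGroup (Fin 2) (ZMod p) →* ↥(center (SpecialLinearGroup (Fin 2) (ZMod p))) :=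
    MonoidHom.mk' (fun A => ⟨_, hz A⟩) fun A B => Subtype.ext (by
      show ((conjSL g)⁻¹ * φ) (A * B) * (A * B)⁻¹ = _
      have hc := mem_center_iff.1 (hz B) A⁻¹
      rw [map_mul, _root_.mul_inv_rev, Subgroup.coe_mul]
      calc ((conjSL g)⁻¹ * φ) A * ((conjSL g)⁻¹ * φ) B * (B⁻¹ * A⁻¹) =
          ((conjSL g)⁻¹ * φ) A * (((conjSL g)⁻¹ * φ) B * B⁻¹ * A⁻¹) := by group
        _ = _ := by rw [← hc]; simp [mul_assoc])
  have hfix := perfect_comm hperf χ (fun a b => mul_comm (χ a) (χ b)) x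
  have h3 : ((conjSL g)⁻¹ * φ) x = x := mul_inv_eq_one.1 (congrArg Subtype.val hfix)
  rw [MulAut.mul_apply, hφ, show ((conjSL g)⁻¹ : MulAut _) y = (conjSL g).symm y from rfl,
    MulEquiv.symm_apply_eq] at h3
  rw [h3, tr_conjSL]

/-- Outside 1, 2, 3, 4, 6 there is a residue prime to `n` other than `±1`. -/
theorem exists_unit {n : ℕ} (h1 : 5 ≤ n) (h6 : n ≠ 6) : ∃ a, 2 ≤ a ∧ a + 2 ≤ n ∧ a.Coprime n := by
  rcases Nat.even_or_odd n with ⟨m, hm⟩ | hodd
  · rcases Nat.even_or_odd m with ⟨k, hk⟩ | hmo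
    · refine ⟨m - 1, by omega, by omega, ?_⟩
      have h2 : (m - 1).Coprime m := by
        obtain ⟨j, hj⟩ := Nat.exists_eq_add_of_le (show 1 ≤ m by omega)
        subst hj
        rw [Nat.add_sub_cancel_left]
        exact Nat.coprime_add_self_right.2 (Nat.coprime_one_right j)
      rw [hm, ← two_mul]
      refine Nat.Coprime.mul_right (Nat.coprime_two_right.2 ?_) h2
      exact ⟨k - 1, by omega⟩
    · refine ⟨m - 2, by omega, by omega, ?_⟩
      have hodd2 : Odd (m - 2) := by
        obtain ⟨k, hk⟩ := hmo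
        exact ⟨k - 1, by omega⟩
      have h2 : (m - 2).Coprime m := by
        conv => congr; rfl; rw [show m = (m - 2) + 2 by omega]
        exact Nat.coprime_self_add_right.2 (Nat.coprime_two_right.2 hodd2)
      rw [hm, ← two_mul]
      exact Nat.Coprime.mul_right (Nat.coprime_two_right.2 hodd2) h2
  · exact ⟨2, le_rfl, by omega, Nat.coprime_two_left.2 hodd⟩

theorem dSL_pow {F : Type} [Field F] [Fintype F] [DecidableEq F] (l : F) (hl : l ≠ 0) (a : ℕ) :
    (dSL l hl) ^ a = dSL (l ^ a) (pow_ne_zero a hl) := by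
  induction a with
  | zero => exact Subtype.ext (by rw [pow_zero, coe_dSL]; ext i j; fin_cases i <;> fin_cases j <;> simp)
  | succ a ih =>
    refine Subtype.ext ?_
    rw [pow_succ, ih]
    show (dSL (l ^ a) (pow_ne_zero a hl)).1 * (dSL l hl).1 = _
    rw [coe_dSL, coe_dSL, coe_dSL]
    ext i j
    fin_cases i <;> fin_cases j <;> simp [Matrix.mul_apply, Fin.sum_univ_two, pow_succ, mul_comm]

theorem tr_dSL {F : Type} [Field F] [Fintype F] [DecidableEq F] (l : F) (hl : l ≠ 0) : tr (dSL l hl) = l + l⁻¹ := by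
  show (dSL l hl).1.trace = _
  rw [coe_dSL, Matrix.trace_fin_two]
  rfl

theorem pow_cases {F : Type} [Field F] {l s : F} (hl : l ≠ 0) (hs : s * s = 1) (a : ℕ)
    (h : l ^ a + (l ^ a)⁻¹ = s * (l + l⁻¹)) : l ^ a = s * l ∨ l ^ a * l = s := by
  have h0 : l ^ a ≠ 0 := pow_ne_zero a hl
  have h' : (l ^ a - s * l) * (l ^ a * l - s) = 0 := by
    field_simp at h
    linear_combination h + l * hs
  rcases mul_eq_zero.1 h' with h1 | h1
  · exact Or.inl (sub_eq_zero.1 h1)
  · exact Or.inr (sub_eq_zero.1 h1)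

theorem exists_gen (p : ℕ) [Fact p.Prime] : ∃ l : ZMod p, l ≠ 0 ∧ orderOf l = p - 1 := by
  obtain ⟨u, hu⟩ := IsCyclic.exists_generator (α := (ZMod p)ˣ)
  refine ⟨u, u.ne_zero, ?_⟩
  rw [orderOf_units, orderOf_eq_card_of_forall_mem_zpowers hu, Nat.card_eq_fintype_card, ZMod.card_units]

/-- A homogeneous perfect `SL(2,p)` has `p ∈ {5, 7}` at most. -/
theorem sl_bound {p : ℕ} [Fact p.Prime] (hG : Hom (SpecialLinearGroup (Fin 2) (ZMod p)))
    (hperf : commutator (SpecialLinearGroup (Fin 2) (ZMod p)) = ⊤) (h3 : 3 < p) : p = 5 ∨ p = 7 := by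
  by_contra hne
  push Not at hne
  obtain ⟨l, hl, ho⟩ := exists_gen p
  obtain ⟨a, ha2, han, hac⟩ := exists_unit (n := p - 1) (by
    have : p ≠ 4 := fun e => absurd (e ▸ (Fact.out : p.Prime)) (by norm_num)
    omega) (by omega)
  have hw : orderOf (dSL l hl) ∣ p - 1 := by
    refine orderOf_dvd_of_pow_eq_one ?_
    rw [dSL_pow]
    refine Subtype.ext ?_
    rw [coe_dSL, ← ho, pow_orderOf_eq_one, inv_one]
    ext i j
    fin_cases i <;> fin_cases j <;> simp
  have h := tr_sl hG hperf (dSL l hl) ((dSL l hl) ^ a)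
    ((Nat.Coprime.orderOf_pow (Nat.Coprime.coprime_dvd_left hw hac.symm)).symm)
  rw [dSL_pow, tr_dSL, tr_dSL] at h
  rcases pow_cases hl (mul_one 1) a (by rw [one_mul]; exact h) with h1 | h1
  · have h2 : l ^ a = l ^ 1 := by rw [h1, one_mul, pow_one]
    have := pow_injOn_Iio_orderOf (x := l) (Set.mem_Iio.2 (by omega : a < orderOf l)) (Set.mem_Iio.2 (by omega : 1 < orderOf l)) h2
    omega
  · rw [← pow_succ] at h1
    have := Nat.le_of_dvd (by omega) (orderOf_dvd_of_pow_eq_one h1)
    omega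

/-- A homogeneous `PSL(2,p)` has `p ∈ {5, 7, 13}` at most. -/
theorem psl_bound {p : ℕ} [Fact p.Prime] (hG : Hom (ProjectiveSpecialLinearGroup (Fin 2) (ZMod p))) (h3 : 3 < p) :
    p = 5 ∨ p = 7 ∨ p = 13 := by
  by_contra hne
  push Not at hne
  obtain ⟨n, hn⟩ : ∃ n, p = 2 * n + 1 := (Fact.out : p.Prime).odd_of_ne_two (by omega)
  obtain ⟨l, hl, ho⟩ := exists_gen p
  have hp9 : p ≠ 9 := fun e => absurd (e ▸ (Fact.out : p.Prime)) (by norm_num)
  obtain ⟨a, ha2, han, hac⟩ := exists_unit (n := n) (by omega) (by omega)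
  have h1' : l ^ n = -1 := by
    have h2 : (l ^ n) ^ 2 = 1 := by
      rw [← pow_mul, show n * 2 = p - 1 by omega, ← ho, pow_orderOf_eq_one]
    refine (sq_eq_one_iff.1 h2).resolve_left fun h0 => ?_
    have := Nat.le_of_dvd (by omega) (orderOf_dvd_of_pow_eq_one h0)
    omega
  have hw : orderOf (PSL2.mk (dSL l hl)) ∣ n := by
    refine orderOf_dvd_of_pow_eq_one ?_
    rw [← map_pow, dSL_pow, ← map_one (PSL2.mk (F := ZMod p))]
    refine (mk_eq_mk.2 (Or.inr ?_))
    rw [coe_dSL, h1', inv_neg, inv_one]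
    ext i j
    fin_cases i <;> fin_cases j <;> simp
  have h := tr_psl hG (dSL l hl) ((dSL l hl) ^ a)
    (by rw [map_pow]; exact (Nat.Coprime.orderOf_pow (Nat.Coprime.coprime_dvd_left hw hac.symm)).symm)
  rw [dSL_pow, tr_dSL, tr_dSL] at h
  obtain ⟨s, hs, hsq, he⟩ : ∃ s : ZMod p, (s = 1 ∨ s = -1) ∧ s * s = 1 ∧
      l ^ a + (l ^ a)⁻¹ = s * (l + l⁻¹) := by
    rcases h with h | h
    · exact ⟨1, Or.inl rfl, mul_one 1, by rw [one_mul]; exact h⟩
    · exact ⟨-1, Or.inr rfl, by norm_num, by rw [h]; ring⟩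
  rcases pow_cases hl hsq a he with h1 | h1
  · have h2 : l ^ (2 * a) = l ^ 2 := by
      rw [mul_comm, pow_mul, h1, mul_pow, pow_two s, hsq, one_mul]
    have := pow_injOn_Iio_orderOf (x := l) (Set.mem_Iio.2 (by omega : 2 * a < orderOf l))
      (Set.mem_Iio.2 (by omega : 2 < orderOf l)) h2
    omega
  · have h2 : l ^ (2 * (a + 1)) = 1 := by
      rw [mul_comm, pow_mul, show l ^ (a + 1) = s by rw [pow_succ]; exact h1, pow_two, hsq]
    have := Nat.le_of_dvd (by omega) (orderOf_dvd_of_pow_eq_one h2)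
    omega

/-- An element of order seven. -/
def x13 : SpecialLinearGroup (Fin 2) (ZMod 13) := ⟨!![0, -1; 1, 7], by decide +kernel⟩

theorem x13_pow : x13 ^ 7 = 1 := by decide +kernel

theorem x13_tr : ¬ (tr (x13 ^ 2) = tr x13 ∨ tr (x13 ^ 2) = -tr x13) := by decide +kernel

/-- An element of order eight. -/
def x7 : SpecialLinearGroup (Fin 2) (ZMod 7) := ⟨!![0, -1; 1, 3], by decide +kernel⟩

theorem x7_pow : x7 ^ 8 = 1 := by decide +kernel

theorem x7_tr : ¬ tr (x7 ^ 3) = tr x7 := by decide +kernel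

theorem psl13_not_hom [Fact (Nat.Prime 13)] : ¬ Hom (ProjectiveSpecialLinearGroup (Fin 2) (ZMod 13)) := by
  intro hG
  have hdvd : orderOf (PSL2.mk x13) ∣ 7 := orderOf_dvd_of_pow_eq_one (by rw [← map_pow, x13_pow, map_one])
  exact x13_tr (tr_psl hG x13 (x13 ^ 2) (by
    rw [map_pow]
    exact (Nat.Coprime.orderOf_pow (Nat.Coprime.coprime_dvd_left hdvd (by norm_num))).symm))

theorem sl7_not_hom [Fact (Nat.Prime 7)]
    (hperf : commutator (SpecialLinearGroup (Fin 2) (ZMod 7)) = ⊤) :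
    ¬ Hom (SpecialLinearGroup (Fin 2) (ZMod 7)) := by
  intro hG
  exact x7_tr (tr_sl hG hperf x7 (x7 ^ 3)
    (Nat.Coprime.orderOf_pow (Nat.Coprime.coprime_dvd_left (orderOf_dvd_of_pow_eq_one x7_pow) (by norm_num))).symm)

/-! ### Transfer to the prime field -/

/-- The special linear groups over isomorphic fields. -/
def slCongr {F K : Type} [Field F] [Field K] (e : F ≃+* K) :
    SpecialLinearGroup (Fin 2) F ≃* SpecialLinearGroup (Fin 2) K where
  toFun := SpecialLinearGroup.map e.toRingHom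
  invFun := SpecialLinearGroup.map e.symm.toRingHom
  left_inv A := Subtype.ext (by ext i j; simp)
  right_inv A := Subtype.ext (by ext i j; simp)
  map_mul' := map_mul _

/-- The projective special linear groups over isomorphic fields. -/
def pslCongr {F K : Type} [Field F] [Field K] (e : F ≃+* K) :
    ProjectiveSpecialLinearGroup (Fin 2) F ≃* ProjectiveSpecialLinearGroup (Fin 2) K :=
  QuotientGroup.congr _ _ (slCongr e) (by
    ext x
    constructor
    · rintro ⟨a, ha, rfl⟩
      exact mem_center_iff.2 fun b => by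
        rw [← (slCongr e).apply_symm_apply b]
        show slCongr e _ * slCongr e a = slCongr e a * slCongr e _
        rw [← map_mul, ← map_mul, mem_center_iff.1 ha]
    · exact fun hx => ⟨(slCongr e).symm x, mem_center_iff.2 fun b => (slCongr e).injective (by
        rw [map_mul, map_mul, (slCongr e).apply_symm_apply, mem_center_iff.1 hx]), (slCongr e).apply_symm_apply x⟩)

variable {G : Type u} [Group G] [Finite G]

theorem conj_upper {F : Type} [Field F] [Fintype F] [DecidableEq F] (g : SpecialLinearGroup (Fin 2) F)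
    (h10 : g.1 1 0 = 0) (t : F) : g * uSL t * g⁻¹ = uSL (g.1 0 0 ^ 2 * t) := by
  have hdet := g.2
  rw [Matrix.det_fin_two, h10, mul_zero, sub_zero] at hdet
  apply Subtype.ext
  show g.1 * (uSL t).1 * g.1.adjugate = _
  rw [coe_uSL, coe_uSL, Matrix.adjugate_fin_two]
  ext i j
  fin_cases i <;> fin_cases j <;> simp [Matrix.mul_apply, Fin.sum_univ_two, h10] <;>
    first | linear_combination hdet | linear_combination t * (g.1 0 0) ^ 2 * (0 : F) + (g.1 0 1) * hdet * (0 : F) | ring

/-- A homogeneous `PSL(2,q)` has `q ∈ {5, 7}`. -/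
theorem Hom.psl_card (hG : Hom G) {F : Type} [Field F] [Fintype F] (hodd : Odd (Fintype.card F))
    (h3 : 3 < Fintype.card F) (e : G ≃* ProjectiveSpecialLinearGroup (Fin 2) F) :
    Fintype.card F = 5 ∨ Fintype.card F = 7 := by
  classical
  haveI : Finite (ProjectiveSpecialLinearGroup (Fin 2) F) := Finite.of_equiv G e.toEquiv
  have hP := hG.of_equiv e
  have hprime := prime_of_root hP hodd (uHom (F := F)) (fun a b h => Multiplicative.toAdd.injective (uu_injective
    (show uu (Multiplicative.toAdd a) = uu (Multiplicative.toAdd b) from h))) (fun g hg => by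
      obtain ⟨A, rfl⟩ := QuotientGroup.mk'_surjective _ g
      have h10 := upper_of_normalizes A ((mem_normalizer_iff.1 hg _).1 ⟨Multiplicative.ofAdd 1, rfl⟩)
      have hdet := A.2
      rw [Matrix.det_fin_two, h10, mul_zero, sub_zero] at hdet
      refine ⟨A.1 0 0 ^ 2, fun t => ?_⟩
      show PSL2.mk A * uu t * (PSL2.mk A)⁻¹ = uu (A.1 0 0 ^ 2 * t)
      rw [uu_eq, uu_eq, ← map_inv, ← map_mul, ← map_mul, conj_upper A h10 t])
    fun a ha => ⟨PSL2.mk (dSL a ha), mk_diag_conj_u a ha⟩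
  haveI := Fact.mk hprime
  let r : F ≃+* ZMod (Fintype.card F) := (ZMod.ringEquivOfPrime F hprime rfl).symm
  have hZ := hP.of_equiv (pslCongr r)
  rcases psl_bound hZ h3 with h | h | h
  · exact Or.inl h
  · exact Or.inr h
  · exfalso
    exact (fun q hq (hq13 : q = 13) (hh : Hom (ProjectiveSpecialLinearGroup (Fin 2) (ZMod q))) => by
      subst hq13; haveI : Fact (Nat.Prime 13) := hq; exact psl13_not_hom hh : ∀ q, Fact q.Prime → q = 13 →
        Hom (ProjectiveSpecialLinearGroup (Fin 2) (ZMod q)) → False) _ inferInstance h hZ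

/-- A homogeneous perfect `SL(2,q)` has `q = 5`. -/
theorem Hom.sl_card (hG : Hom G) (hperf : commutator G = ⊤) {F : Type} [Field F] [Fintype F]
    (hodd : Odd (Fintype.card F)) (h3 : 3 < Fintype.card F) (e : G ≃* SpecialLinearGroup (Fin 2) F) :
    Fintype.card F = 5 := by
  classical
  haveI : Finite (SpecialLinearGroup (Fin 2) F) := Finite.of_equiv G e.toEquiv
  have hP := hG.of_equiv e
  let ι : Multiplicative F →* SpecialLinearGroup (Fin 2) F := MonoidHom.mk' (fun t => uSL t.toAdd) fun a b =>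
    Subtype.ext (by
      show (uSL _).1 = (uSL _).1 * (uSL _).1
      rw [coe_uSL, coe_uSL, coe_uSL]
      ext i j
      fin_cases i <;> fin_cases j <;> simp [Matrix.mul_apply, Fin.sum_univ_two, add_comm])
  have hprime := prime_of_root hP hodd ι (fun a b h => by
      have := congrFun (congrFun (congrArg Subtype.val h) 0) 1
      refine Multiplicative.toAdd.injective ?_
      change (uSL a.toAdd).1 0 1 = (uSL b.toAdd).1 0 1 at this
      rw [coe_uSL, coe_uSL] at this
      simpa using this)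
    (fun g hg => by
      have hconj := (mem_normalizer_iff.1 hg (uSL 1)).1 ⟨Multiplicative.ofAdd 1, rfl⟩
      obtain ⟨t, ht⟩ := hconj
      have h10 := upper_of_normalizes g ⟨t, by
        show PSL2.mk (ι t) = PSL2.mk g * PSL2.mk (uSL 1) * (PSL2.mk g)⁻¹
        rw [← map_inv, ← map_mul, ← map_mul, ht]⟩
      have hdet := g.2
      rw [Matrix.det_fin_two, h10, mul_zero, sub_zero] at hdet
      refine ⟨g.1 0 0 ^ 2, fun t => ?_⟩
      exact conj_upper g h10 t)
    fun a ha => ⟨dSL a ha, fun t => by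
      have := conj_upper (dSL a ha) (by rw [coe_dSL]; rfl) t
      rwa [show (dSL a ha).1 0 0 = a from rfl] at this⟩
  haveI := Fact.mk hprime
  let r : F ≃+* ZMod (Fintype.card F) := (ZMod.ringEquivOfPrime F hprime rfl).symm
  have hZ := hP.of_equiv (slCongr r)
  have hperf' : commutator (SpecialLinearGroup (Fin 2) (ZMod (Fintype.card F))) = ⊤ := by
    rw [_root_.commutator_def, ← Subgroup.map_top_of_surjective (e.trans (slCongr r)).toMonoidHom
      (e.trans (slCongr r)).surjective, ← Subgroup.map_commutator, ← _root_.commutator_def, hperf]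
  rcases sl_bound hZ hperf' h3 with h | h
  · exact h
  · exfalso
    exact (fun q hq (hq7 : q = 7) (hh : Hom (SpecialLinearGroup (Fin 2) (ZMod q)))
        (hp : commutator (SpecialLinearGroup (Fin 2) (ZMod q)) = ⊤) => by
      subst hq7; haveI : Fact (Nat.Prime 7) := hq; exact sl7_not_hom hp hh : ∀ q, Fact q.Prime → q = 7 →
        Hom (SpecialLinearGroup (Fin 2) (ZMod q)) → commutator (SpecialLinearGroup (Fin 2) (ZMod q)) = ⊤ → False) _ inferInstance h hZ hperf'

/-! ### The alternating group of degree seven -/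

theorem even_of_commute {a : Equiv.Perm (Fin 7)} (ha : a ^ 2 = 1) (hsign : Equiv.Perm.sign a = 1)
    (hc : a * (c[0, 1, 2] * c[3, 4, 5]) = (c[0, 1, 2] * c[3, 4, 5]) * a) : a = 1 := by
  set y : Equiv.Perm (Fin 7) := c[0, 1, 2] * c[3, 4, 5] with hy
  set C := centralizer ({y} : Set (Equiv.Perm (Fin 7))) with hC
  have hty : y.cycleType = {3, 3} := by decide +kernel
  have hcard : Nat.card C = 18 := by
    rw [hC, Equiv.Perm.nat_card_centralizer, hty]
    decide +kernel
  let χ : ↥C →* ℤˣ := Equiv.Perm.sign.comp C.subtype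
  have ho : Equiv.swap 0 3 * Equiv.swap 1 4 * Equiv.swap 2 5 ∈ C := mem_centralizer_singleton_iff.2 (by decide +kernel)
  have hsurj : Function.Surjective χ := fun u => by
    rcases Int.units_eq_one_or u with rfl | rfl
    · exact ⟨1, map_one χ⟩
    · exact ⟨⟨_, ho⟩, show Equiv.Perm.sign (Equiv.swap 0 3 * Equiv.swap 1 4 * Equiv.swap 2 5 : Equiv.Perm (Fin 7)) = -1 by decide +kernel⟩
  have hker : Nat.card χ.ker = 9 := by
    have h1 := χ.ker.card_mul_index
    rw [Subgroup.index_ker, MonoidHom.range_eq_top.2 hsurj, Nat.card_congr Subgroup.topEquiv.toEquiv,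
      Nat.card_eq_fintype_card (α := ℤˣ), Fintype.card_units_int, hcard] at h1
    omega
  have hmem : (⟨a, mem_centralizer_singleton_iff.2 hc⟩ : ↥C) ∈ χ.ker := hsign
  have h2 : (⟨⟨a, mem_centralizer_singleton_iff.2 hc⟩, hmem⟩ : ↥χ.ker) ^ 2 = 1 := Subtype.ext (Subtype.ext ha)
  have h3 := orderOf_eq_one_iff.1 (Nat.eq_one_of_dvd_coprimes (show Nat.Coprime 2 9 by norm_num)
    (orderOf_dvd_of_pow_eq_one h2) (hker ▸ orderOf_dvd_natCard _))
  exact congrArg (fun z : ↥χ.ker => ((z : ↥C) : Equiv.Perm (Fin 7))) h3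

/-- Two classes of elements of order three in the alternating group of degree seven. -/
theorem alt_seven_three : ∃ x y : ↥(alternatingGroup (Fin 7)), orderOf x = 3 ∧ orderOf y = 3 ∧
    ∀ φ : MulAut ↥(alternatingGroup (Fin 7)), φ x ≠ y := by
  let x : ↥(alternatingGroup (Fin 7)) := ⟨c[0, 1, 2], Equiv.Perm.mem_alternatingGroup.2 (by decide +kernel)⟩
  let y : ↥(alternatingGroup (Fin 7)) := ⟨c[0, 1, 2] * c[3, 4, 5], Equiv.Perm.mem_alternatingGroup.2 (by decide +kernel)⟩
  let a : ↥(alternatingGroup (Fin 7)) := ⟨Equiv.swap 3 4 * Equiv.swap 5 6, Equiv.Perm.mem_alternatingGroup.2 (by decide +kernel)⟩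
  refine ⟨x, y, ?_, ?_, fun φ hφ => ?_⟩
  · rw [← Subgroup.orderOf_coe]; exact orderOf_eq_prime (by decide +kernel) (by decide +kernel)
  · rw [← Subgroup.orderOf_coe]; exact orderOf_eq_prime (by decide +kernel) (by decide +kernel)
  have ha2 : a ^ 2 = 1 := Subtype.ext (show (Equiv.swap 3 4 * Equiv.swap 5 6 : Equiv.Perm (Fin 7)) ^ 2 = 1 by decide +kernel)
  have hax : a * x = x * a := Subtype.ext (show (Equiv.swap 3 4 * Equiv.swap 5 6 : Equiv.Perm (Fin 7)) * c[0, 1, 2] =
    c[0, 1, 2] * (Equiv.swap 3 4 * Equiv.swap 5 6) by decide +kernel)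
  have h1 : φ a = 1 := by
    refine Subtype.ext (even_of_commute ?_ (Equiv.Perm.mem_alternatingGroup.1 (φ a).2) ?_)
    · exact congrArg Subtype.val (show φ a ^ 2 = 1 by rw [← map_pow, ha2, map_one])
    · exact congrArg Subtype.val (show φ a * y = y * φ a by rw [← hφ, ← map_mul, hax, map_mul])
  rw [map_eq_one_iff φ φ.injective] at h1
  exact absurd (congrArg Subtype.val h1)
    (show (Equiv.swap 3 4 * Equiv.swap 5 6 : Equiv.Perm (Fin 7)) ≠ 1 by decide +kernel)

theorem Hom.not_alt_seven (hG : Hom G) : IsEmpty (G ≃* ↥(alternatingGroup (Fin 7))) := by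
  refine ⟨fun e => ?_⟩
  obtain ⟨x, y, hx, hy, hno⟩ := alt_seven_three
  obtain ⟨φ, hφ⟩ := (hG.of_equiv e).exists_map (hx.trans hy.symm)
  exact hno φ hφ

theorem Hom.not_double_alt_seven (hG : Hom G) : ¬ Cfsg.IsNonsplitDoubleCover G ↥(alternatingGroup (Fin 7)) := by
  rintro ⟨hZ, ⟨e⟩, -⟩
  obtain ⟨x, y, hx, hy, hno⟩ := alt_seven_three
  let π : G →* ↥(alternatingGroup (Fin 7)) := e.toMonoidHom.comp (QuotientGroup.mk' (center G))
  have hsurj : Function.Surjective π := e.surjective.comp (QuotientGroup.mk'_surjective _)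
  have hker : ∀ g, π g = 1 → g * g = 1 := fun g hg => by
    have hgZ : g ∈ center G := by
      rw [← QuotientGroup.eq_one_iff]
      exact e.map_eq_one_iff.1 hg
    have : (⟨g, hgZ⟩ : ↥(center G)) ^ Nat.card (center G) = 1 := pow_card_eq_one'
    rw [hZ] at this
    exact (pow_two g).symm.trans (congrArg Subtype.val this)
  have hlift : ∀ z : ↥(alternatingGroup (Fin 7)), orderOf z = 3 → ∃ g : G, orderOf g = 3 ∧ π g = z := by
    intro z hz
    obtain ⟨g, rfl⟩ := hsurj z
    have hz3 : π g ^ 3 = 1 := hz ▸ pow_orderOf_eq_one _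
    refine ⟨g ^ 4, orderOf_eq_prime ?_ fun h => ?_, ?_⟩
    · rw [← pow_mul]
      have h6 := hker (g ^ 3) (by rw [map_pow, hz3])
      rw [← pow_add] at h6
      rw [show 4 * 3 = (3 + 3) * 2 by norm_num, pow_mul, h6, one_pow]
    · have := congrArg π h
      rw [map_pow, map_one, pow_succ, hz3, one_mul] at this
      rw [this, orderOf_one] at hz
      omega
    · rw [map_pow, pow_succ, hz3, one_mul]
  obtain ⟨g, hg, hgx⟩ := hlift x hx
  obtain ⟨k, hk, hky⟩ := hlift y hy
  obtain ⟨φ, hφ⟩ := hG.exists_map (hg.trans hk.symm)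
  refine hno ((e.symm.trans (centreQuotAut G φ)).trans e) ?_
  rw [← hgx, ← hky, ← hφ]
  show e (centreQuotAut G φ (e.symm (e (QuotientGroup.mk g)))) = e (QuotientGroup.mk (φ g))
  rw [e.symm_apply_apply]
  rfl

end CfsgLib.Homogeneous
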