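import Mathlib

/-!
Sylow subgroups of subgroups, seen in the whole group.
-/

set_option autoImplicit false

namespace CfsgLib.Homogeneous

open Subgroup
open scoped Pointwise

universe u

variable {G : Type u} [Group G] [Finite G] {p : ℕ} [Fact p.Prime] {C : Subgroup G}

theorem isPGroup_zpowers_of_pow {H : Type*} [Group H] {g : H} (hg : ∃ k, g ^ p ^ k = 1) :
    IsPGroup p (zpowers g) := by
  obtain ⟨k, hk⟩ := hg
  refine IsPGroup.iff_orderOf.2 fun x => ?_
  obtain ⟨i, hi⟩ := (Nat.dvd_prime_pow (Fact.out : p.Prime)).1 ((orderOf_dvd_natCard x).trans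
    ((Nat.card_zpowers _).dvd.trans (orderOf_dvd_of_pow_eq_one hk)))
  exact ⟨i, hi.2⟩

/-- A `p`-element of `C` normalizing a Sylow subgroup of `C` lies in it. -/
theorem mem_sylow_of_normalizes (P : Sylow p ↥C) {g : G} (hgC : g ∈ C)
    (hg : g ∈ normalizer (((P : Subgroup ↥C).map C.subtype : Subgroup G) : Set G))
    (hpow : ∃ k, g ^ p ^ k = 1) : g ∈ (P : Subgroup ↥C).map C.subtype := by
  refine ⟨⟨g, hgC⟩, ?_, rfl⟩
  have hgn : (⟨g, hgC⟩ : ↥C) ∈ normalizer ((P : Subgroup ↥C) : Set ↥C) := by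
    refine mem_normalizer_iff.2 fun a => ?_
    have key : ∀ b : ↥C, b ∈ (P : Subgroup ↥C) ↔ (b : G) ∈ (P : Subgroup ↥C).map C.subtype := fun b =>
      (mem_map_iff_mem C.subtype_injective).symm
    rw [key, key]
    exact mem_normalizer_iff.1 hg a
  have hz : IsPGroup p (zpowers (⟨g, hgC⟩ : ↥C)) := isPGroup_zpowers_of_pow (by
    obtain ⟨k, hk⟩ := hpow
    exact ⟨k, Subtype.ext (by simpa using hk)⟩)
  rw [← P.3 (IsPGroup.to_sup_of_normal_right' hz P.2 (zpowers_le.2 hgn)) le_sup_right]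
  exact mem_sup_left (mem_zpowers _)

/-- A `p`-element of `C` is conjugate into a Sylow subgroup of `C`. -/
theorem exists_conj_mem_sylow (P : Sylow p ↥C) {g : G} (hgC : g ∈ C) (hpow : ∃ k, g ^ p ^ k = 1) :
    ∃ c ∈ C, c * g * c⁻¹ ∈ (P : Subgroup ↥C).map C.subtype := by
  have hz : IsPGroup p (zpowers (⟨g, hgC⟩ : ↥C)) := isPGroup_zpowers_of_pow (by
    obtain ⟨k, hk⟩ := hpow
    exact ⟨k, Subtype.ext (by simpa using hk)⟩)
  obtain ⟨Q, hQ⟩ := hz.exists_le_sylow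
  obtain ⟨c, hc⟩ := MulAction.exists_smul_eq ↥C Q P
  refine ⟨c, c.2, c * ⟨g, hgC⟩ * c⁻¹, ?_, rfl⟩
  rw [← hc, Sylow.coe_subgroup_smul]
  exact ⟨⟨g, hgC⟩, hQ (mem_zpowers _), rfl⟩

/-- The Frattini argument inside the normalizer of `C`. -/
theorem exists_mul_normalizer_sylow (P : Sylow p ↥C) {g : G} (hg : g ∈ normalizer (C : Set G)) :
    ∃ c ∈ C, ∃ n, n ∈ normalizer (((P : Subgroup ↥C).map C.subtype : Subgroup G) : Set G) ∧ c * n = g := by
  set T := (P : Subgroup ↥C).map C.subtype with hT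
  let ψ : MulAut ↥C := C.normalizerMonoidHom ⟨g, hg⟩
  obtain ⟨c, hc⟩ := MulAction.exists_smul_eq ↥C (ψ • P) P
  have key : ∀ x ∈ T, (c : G) * g * x * ((c : G) * g)⁻¹ ∈ T := by
    rintro _ ⟨x, hx, rfl⟩
    refine ⟨c * ψ x * c⁻¹, ?_, ?_⟩
    · rw [← hc, Sylow.coe_subgroup_smul]
      exact ⟨ψ x, ⟨x, hx, rfl⟩, rfl⟩
    · show (c : G) * (g * x * g⁻¹) * (c : G)⁻¹ = _
      simp [mul_assoc]
  have hn : (c : G) * g ∈ normalizer (T : Set G) := by
    refine mem_normalizer_iff.2 fun x => ⟨key x, fun hx => ?_⟩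
    have hle : T.map (MulAut.conj ((c : G) * g)).toMonoidHom ≤ T := by rintro _ ⟨y, hy, rfl⟩; exact key y hy
    obtain ⟨y, hy, hyx⟩ := (eq_of_le_of_card_ge hle
      (card_map_of_injective (MulAut.conj ((c : G) * g)).injective).ge).ge hx
    obtain rfl : y = x := (MulAut.conj ((c : G) * g)).injective hyx
    exact hy
  exact ⟨(c : G)⁻¹, inv_mem c.2, (c : G) * g, hn, inv_mul_cancel_left _ _⟩

/-- An element conjugating a subgroup of a finite group into itself normalizes it. -/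
theorem mem_normalizer_of_conj {H : Subgroup G} {g : G} (h : ∀ x ∈ H, g * x * g⁻¹ ∈ H) :
    g ∈ normalizer (H : Set G) := by
  refine mem_normalizer_iff.2 fun x => ⟨h x, fun hx => ?_⟩
  have hle : H.map (MulAut.conj g).toMonoidHom ≤ H := by rintro _ ⟨y, hy, rfl⟩; exact h y hy
  obtain ⟨y, hy, hyx⟩ := (eq_of_le_of_card_ge hle
    (card_map_of_injective (MulAut.conj g).injective).ge).ge hx
  obtain rfl : y = x := (MulAut.conj g).injective hyx
  exact hy

/-- The power killing the odd part. -/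
theorem exists_coprime_pow {H : Type*} [Group H] [Finite H] (x : H) :
    ∃ w : ℕ, w.Coprime p ∧ ∃ k, (x ^ w) ^ p ^ k = 1 := by
  obtain ⟨a, w, hw, he⟩ := Nat.exists_eq_pow_mul_and_not_dvd (orderOf_pos x).ne' p (Fact.out : p.Prime).ne_one
  exact ⟨w, ((Fact.out : p.Prime).coprime_iff_not_dvd.2 hw).symm, a, by
    rw [← pow_mul, mul_comm, ← he, pow_orderOf_eq_one]⟩

end CfsgLib.Homogeneous
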