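import Cfsg.Agent.Lib.Homogeneous.OddCore
import Cfsg.Agent.Lib.Homogeneous.Local
import Cfsg.Agent.Lib.MetacyclicTwoAut
import Cfsg.Agent.Lib.RankFrattini
import Cfsg.Agent.S0215

/-!
A homogeneous group with trivial odd core and an involution outside the centre has 2-rank at most two.
-/

set_option autoImplicit false
set_option linter.unusedSectionVars false
set_option maxSynthPendingDepth 3
set_option maxHeartbeats 400000

namespace CfsgLib.Homogeneous

open Subgroup Module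
open scoped IsMulCommutative commutatorElement

universe u v w

local instance : Fact (Nat.Prime 2) := ⟨Nat.prime_two⟩

theorem zmod_two_cases : ∀ c : ZMod 2, c = 0 ∨ c = 1 := by decide

/-! ### Linear algebra -/

section Linear

variable {W : Type v} [AddCommGroup W] [Module (ZMod 2) W] [FiniteDimensional (ZMod 2) W]

/-- Over the field with two elements a scalar map is the identity. -/
theorem not_isScalar_of_ne_one [Nontrivial W] {g : W ≃ₗ[ZMod 2] W} (hg : g ≠ 1) : ¬ Lin.IsScalar g := by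
  rintro ⟨c, hc⟩
  rcases zmod_two_cases c with rfl | rfl
  · obtain ⟨z, hz⟩ := exists_ne (0 : W)
    exact hz (g.map_eq_zero_iff.1 (by rw [hc, zero_smul]))
  · exact hg (LinearEquiv.ext fun z => by rw [hc, one_smul]; rfl)

/-- A subgroup containing all transvections of a space of dimension at least three is perfect enough. -/
theorem tv_mem_derived {I : Type w} [Group I] (σ : I →* (W ≃ₗ[ZMod 2] W)) (hd : 3 ≤ finrank (ZMod 2) W)
    (hall : ∀ (f : Dual (ZMod 2) W) (v : W) (h : f v = 0), LinearEquiv.transvection h ∈ σ.range) :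
    ∀ (n : ℕ) (f : Dual (ZMod 2) W) (v : W) (h : f v = 0),
      LinearEquiv.transvection h ∈ (derivedSeries I n).map σ := by
  intro n
  induction n with
  | zero => intro f v h; rw [derivedSeries_zero, ← MonoidHom.range_eq_map]; exact hall f v h
  | succ n ih =>
    intro f v h
    rw [derivedSeries_succ, Subgroup.map_commutator]
    rcases eq_or_ne v 0 with rfl | hv
    · rw [show LinearEquiv.transvection h = 1 from LinearEquiv.ext fun z => by
        rw [LinearEquiv.transvection.apply, smul_zero, add_zero]; rfl]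
      exact one_mem _
    obtain ⟨w, hw, hwv⟩ : ∃ w ∈ LinearMap.ker f, w ∉ Submodule.span (ZMod 2) {v} := by
      by_contra hno
      push Not at hno
      have h1 := Submodule.finrank_mono (s := LinearMap.ker f) (t := Submodule.span (ZMod 2) {v}) hno
      rw [finrank_span_singleton hv] at h1
      have h2 := LinearMap.finrank_range_add_finrank_ker f
      have h3 := Submodule.finrank_le (LinearMap.range f)
      rw [finrank_self] at h3
      omega
    have hli : LinearIndependent (ZMod 2) ![w, v] :=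
      linearIndependent_fin2.2 ⟨hv, fun t ht => hwv (Submodule.mem_span_singleton.2 ⟨t, ht⟩)⟩
    obtain ⟨g, hg⟩ := Lin.exists_dual hli ![1, 0]
    have hgv : g v = 0 := hg 1
    have hgw : g w = 1 := hg 0
    have hfw : f w = 0 := LinearMap.mem_ker.1 hw
    have e : LinearEquiv.transvection h =
        ⁅LinearEquiv.transvection hgv, LinearEquiv.transvection hfw⁆ := by
      refine LinearEquiv.ext fun z => ?_
      simp only [commutatorElement_def, LinearEquiv.mul_apply, Lin.tv_inv_apply, LinearEquiv.transvection.apply,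
        map_add, map_sub, map_smul, smul_eq_mul, h, hgv, hgw, hfw]
      match_scalars <;> ring
    rw [e]
    exact commutator_mem_commutator (ih g v hgv) (ih f w hfw)

/-- Automorphism groups of spaces of dimension at most two over the field with two elements are soluble. -/
theorem isSolvable_linearEquiv_two (hd : finrank (ZMod 2) W ≤ 2) : Group.IsSolvable (W ≃ₗ[ZMod 2] W) := by
  let B := Module.finBasis (ZMod 2) W
  let e : (W ≃ₗ[ZMod 2] W) ≃* GL (Fin (finrank (ZMod 2) W)) (ZMod 2) :=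
    (LinearMap.GeneralLinearGroup.generalLinearEquiv (ZMod 2) W).symm.trans
      (Units.mapEquiv (LinearMap.toMatrixAlgEquiv B).toRingEquiv.toMulEquiv)
  haveI : Finite (W ≃ₗ[ZMod 2] W) := Finite.of_equiv _ e.toEquiv.symm
  have hc := Nat.card_congr e.toEquiv
  rw [Matrix.card_GL_field, ZMod.card] at hc
  generalize finrank (ZMod 2) W = d at hd hc
  interval_cases d
  · exact CfsgLib.CharTheory.isSolvable_of_card_two_primes (p := 2) (q := 3) (a := 0) (b := 0) Nat.prime_two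
      Nat.prime_three (by simpa using hc)
  · exact CfsgLib.CharTheory.isSolvable_of_card_two_primes (p := 2) (q := 3) (a := 0) (b := 0) Nat.prime_two
      Nat.prime_three (by simpa [Fin.prod_univ_one] using hc)
  · exact CfsgLib.CharTheory.isSolvable_of_card_two_primes (p := 2) (q := 3) (a := 1) (b := 1) Nat.prime_two
      Nat.prime_three (by rw [hc, Fin.prod_univ_two]; rfl)

/-- The image of a group with all transvections is not seen on a space of dimension at most two. -/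
theorem three_le_of_ker [Finite W] {D : Type u} [AddCommGroup D] [Module (ZMod 2) D] [FiniteDimensional (ZMod 2) D]
    {I : Type w} [Group I] (σ : I →* (W ≃ₗ[ZMod 2] W)) (ρ : I →* (D ≃ₗ[ZMod 2] D))
    (hm : 3 ≤ finrank (ZMod 2) W)
    (htv : ∀ (f : Dual (ZMod 2) W) (v : W) (h : f v = 0), LinearEquiv.transvection h ∈ σ.range)
    (hker : ∀ n, ρ n = 1 → ∃ a, σ n ^ 2 ^ a = 1) : 3 ≤ finrank (ZMod 2) D := by
  by_contra hlt
  push Not at hlt
  haveI := isSolvable_linearEquiv_two (W := D) (by omega)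
  obtain ⟨a, ha⟩ := Group.IsSolvable.solvable (G := D ≃ₗ[ZMod 2] D)
  set K := derivedSeries I a with hK
  have hKk : ∀ n ∈ K, ρ n = 1 := fun n hn =>
    mem_bot.1 (ha ▸ map_derivedSeries_le_derivedSeries ρ a (mem_map_of_mem ρ hn))
  have hp : IsPGroup 2 (K.map σ) := by
    rintro ⟨_, n, hn, rfl⟩
    obtain ⟨b, hb⟩ := hker n (hKk n hn)
    exact ⟨b, Subtype.ext (by simpa using hb)⟩
  haveI : Finite (W ≃ₗ[ZMod 2] W) := Finite.of_injective (fun g => (g : W → W)) DFunLike.coe_injective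
  haveI := hp.isNilpotent
  obtain ⟨b, hb⟩ := Group.IsSolvable.solvable (G := ↥(K.map σ))
  let σ' : ↥K →* ↥(K.map σ) := (σ.comp K.subtype).codRestrict _ fun x => mem_map_of_mem σ x.2
  have hsub : ∀ j, derivedSeries I (a + j) ≤ (derivedSeries ↥K j).map K.subtype := by
    intro j
    induction j with
    | zero => rw [derivedSeries_zero, ← MonoidHom.range_eq_map, Subgroup.range_subtype]; exact le_rfl
    | succ j ih =>
      rw [← add_assoc, derivedSeries_succ, derivedSeries_succ, Subgroup.map_commutator]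
      exact commutator_mono ih ih
  obtain ⟨e, he⟩ := exists_linearIndependent_of_le_finrank (show 2 ≤ finrank (ZMod 2) W by omega)
  obtain ⟨fy, hfy⟩ := Lin.exists_dual he ![0, 1]
  obtain ⟨n, hn, hn'⟩ := tv_mem_derived σ hm htv (a + b) fy (e 0) (hfy 0)
  obtain ⟨n', hn'K, rfl⟩ := hsub b hn
  have h1 : σ' n' = 1 := mem_bot.1 (hb ▸ map_derivedSeries_le_derivedSeries σ' b (mem_map_of_mem σ' hn'K))
  have h2 : σ (K.subtype n') = 1 := congrArg Subtype.val h1
  rw [h2] at hn'
  have := (LinearEquiv.transvection.apply (hfy 0) (e 1)).symm.trans (LinearEquiv.congr_fun hn'.symm (e 1))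
  rw [show fy (e 1) = 1 from hfy 1, one_smul] at this
  exact he.ne_zero 0 (add_eq_left.1 this)

/-- Equivariant maps between spaces of the same dimension form at most a line. -/
theorem equiv'_finrank_le_one {D : Type w} [AddCommGroup D] [Module (ZMod 2) D] [FiniteDimensional (ZMod 2) D]
    {ι : Type*} (ρ : ι → (D ≃ₗ[ZMod 2] D)) (σ : ι → (W ≃ₗ[ZMod 2] W))
    (hirr : ∀ U : Submodule (ZMod 2) W, (∀ i, ∀ w ∈ U, σ i w ∈ U) → U = ⊥ ∨ U = ⊤)
    (hdim : finrank (ZMod 2) W = finrank (ZMod 2) D)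
    (htv : ∀ (f : Dual (ZMod 2) W) (v : W) (hv : f v = 0), ∃ i, σ i = LinearEquiv.transvection hv) :
    finrank (ZMod 2) (equiv' ρ σ) ≤ 1 := by
  by_contra hlt
  push Not at hlt
  obtain ⟨ε, hε⟩ := exists_linearIndependent_of_le_finrank (show 2 ≤ finrank (ZMod 2) (equiv' ρ σ) from hlt)
  have hψ₁ : (ε 0).1 ≠ 0 := fun h0 => hε.ne_zero 0 (Subtype.ext h0)
  let E₁ : W ≃ₗ[ZMod 2] D :=
    LinearEquiv.ofInjectiveOfFinrankEq (ε 0).1 (equiv'_injective ρ σ hirr (ε 0).2 hψ₁) hdim
  let φ : W →ₗ[ZMod 2] W := E₁.symm.toLinearMap ∘ₗ (ε 1).1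
  have hφ : ∀ n z, φ (σ n z) = σ n (φ z) := fun n z => by
    apply E₁.injective
    show E₁ (E₁.symm ((ε 1).1 (σ n z))) = (ε 0).1 (σ n (E₁.symm ((ε 1).1 z)))
    rw [E₁.apply_symm_apply, ← mem_equiv'.1 (ε 1).2, ← mem_equiv'.1 (ε 0).2]
    congr 1
    exact (E₁.apply_symm_apply ((ε 1).1 z)).symm
  obtain ⟨c, hc⟩ := Lin.scalar_of_lines φ (Lin.scalar_of_comm_tv φ fun f v hv x => by
    obtain ⟨n, hn⟩ := htv f v hv
    rw [← hn]
    exact hφ n x)
  refine one_ne_zero (α := ZMod 2) (LinearIndependent.pair_iff.1 (show LinearIndependent (ZMod 2) ![ε 0, ε 1] by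
    convert hε using 1; ext i; fin_cases i <;> rfl) (-c) 1 (Subtype.ext (LinearMap.ext fun x => ?_))).2
  show -c • (ε 0).1 x + (1 : ZMod 2) • (ε 1).1 x = 0
  have := congrArg E₁ (hc x)
  rw [map_smul] at this
  simp only [φ, LinearMap.comp_apply, LinearEquiv.coe_coe, E₁.apply_symm_apply] at this
  rw [one_smul, this, neg_smul]
  exact neg_add_cancel _

end Linear

variable {G : Type u} [Group G] [Finite G]

/-! ### A subgroup with full automizer -/

/-- Elementary abelian 2-subgroups. -/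
def IsElem (E : Subgroup G) : Prop := (∀ a ∈ E, a ^ 2 = 1) ∧ ∀ a ∈ E, ∀ b ∈ E, a * b = b * a

theorem mem_of_max {E : Subgroup G} (hE : IsElem E) (hmax : ∀ F : Subgroup G, IsElem F → Nat.card F ≤ Nat.card E)
    {y : G} (hy : y ^ 2 = 1) (hc : y ∈ centralizer (E : Set G)) : y ∈ E := by
  set F := closure (insert y (E : Set G)) with hF
  haveI hcomm : IsMulCommutative ↥F := Subgroup.isMulCommutative_closure (by
    rintro a (rfl | ha) b (rfl | hb)
    · rfl
    · exact (hc b hb).symm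
    · exact hc a ha
    · exact hE.2 a ha b hb)
  have hFc : ∀ a ∈ F, ∀ b ∈ F, a * b = b * a := fun a ha b hb =>
    congrArg Subtype.val (mul_comm' (⟨a, ha⟩ : ↥F) ⟨b, hb⟩)
  have hFe : IsElem F := ⟨fun a ha => by
    induction ha using closure_induction with
    | mem a ha => rcases ha with rfl | ha; exacts [hy, hE.1 a ha]
    | one => exact one_pow _
    | mul a b ha hb iha ihb => rw [(show Commute a b from hFc a ha b hb).mul_pow, iha, ihb, one_mul]
    | inv a _ iha => rw [inv_pow, iha, inv_one], hFc⟩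
  have hle : E ≤ F := fun a ha => subset_closure (Set.mem_insert_of_mem _ ha)
  rw [eq_of_le_of_card_ge hle (hmax F hFe)]
  exact subset_closure (Set.mem_insert _ _)

/-- Some elementary subgroup of largest order has a nontrivial automizer. -/
theorem exists_nontrivial_autz (hO : Cfsg.oddCore G = ⊥) (hcen : ∀ x : G, orderOf x = 2 → x ∉ center G)
    {F₀ : Subgroup G} (hF₀ : IsElem F₀) (h8 : 8 ≤ Nat.card F₀) :
    ∃ E : Subgroup G, IsElem E ∧ (∀ F : Subgroup G, IsElem F → Nat.card F ≤ Nat.card E) ∧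
      8 ≤ Nat.card E ∧ ∃ g ∈ normalizer (E : Set G), g ∉ centralizer (E : Set G) := by
  obtain ⟨E, hE, hmax⟩ := Set.exists_max_image {E : Subgroup G | IsElem E} (fun E => Nat.card E)
    (Set.toFinite _) ⟨F₀, hF₀⟩
  refine ⟨E, hE, hmax, h8.trans (hmax F₀ hF₀), ?_⟩
  by_contra hno
  push Not at hno
  have hEp : IsPGroup 2 E := fun a => ⟨1, Subtype.ext (hE.1 a a.2)⟩
  obtain ⟨S, hS⟩ := hEp.exists_le_sylow
  set R := (S : Subgroup G) ⊓ centralizer (E : Set G) with hR
  have hER : E ≤ R := le_inf hS fun a ha b hb => hE.2 b hb a ha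
  have hRE : ∀ y ∈ R, y ^ 2 = 1 → y ∈ E := fun y hy hy2 => mem_of_max hE hmax hy2 hy.2
  have hRS : R = (S : Subgroup G) := by
    by_contra hne
    haveI := S.2.isNilpotent
    have hlt' : R.subgroupOf S < ⊤ := lt_top_iff_ne_top.2 fun e => hne
      (le_antisymm inf_le_left (Subgroup.subgroupOf_eq_top.1 e))
    obtain ⟨g, hg, hgR⟩ := SetLike.exists_of_lt
      (Group.normalizerCondition_of_isNilpotent (R.subgroupOf S) hlt')
    refine hgR (mem_subgroupOf.2 ⟨g.2, hno _ (mem_normalizer_of_conj fun a ha => hRE _ ?_ ?_)⟩)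
    · exact (mem_normalizer_iff.1 hg ⟨a, hS ha⟩).1 (mem_subgroupOf.2 (hER ha))
    · rw [conj_pow, hE.1 a ha, mul_one, mul_inv_cancel]
  have hSE : ∀ y ∈ (S : Subgroup G), y ^ 2 = 1 → y ∈ E := fun y hy => hRE y (hRS ▸ hy)
  have hEc : ∀ y ∈ E, y ∈ centralizer ((S : Subgroup G) : Set G) := fun y hy s hs =>
    ((hRS ▸ hs : s ∈ R).2 y hy).symm
  obtain ⟨x, hx⟩ := exists_prime_orderOf_dvd_card' (G := ↥E) 2 (by
    obtain ⟨k, hk⟩ := IsPGroup.iff_card.1 hEp
    rw [hk]
    refine dvd_pow_self 2 fun h0 => ?_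
    have := h8.trans (hmax F₀ hF₀)
    rw [hk, h0, pow_zero] at this
    omega)
  rw [← Subgroup.orderOf_coe] at hx
  obtain ⟨N, hN, hodd, hc⟩ := Cfsg.Agent.S0215.result S (x : G) hx (hS x.2) fun g hg => by
    have hgE : g * x * g⁻¹ ∈ E := hSE _ hg (by rw [conj_pow, hE.1 x x.2, mul_one, mul_inv_cancel])
    obtain ⟨n, hn, hne⟩ := S.conj_eq_normalizer_conj_of_mem_centralizer (x : G) g⁻¹ (hEc _ x.2)
      (by rw [inv_inv]; exact hEc _ hgE)
    rw [inv_inv] at hne
    have hnE : n⁻¹ ∈ normalizer (E : Set G) := mem_normalizer_of_conj fun a ha => hSE _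
      ((mem_normalizer_iff.1 (inv_mem hn) a).1 (hS ha)) (by rw [conj_pow, hE.1 a ha, mul_one, mul_inv_cancel])
    rw [hne]
    have := hno _ hnE _ x.2
    calc n⁻¹ * x * n = x * n⁻¹ * n := by rw [this]
      _ = x := inv_mul_cancel_right _ _
  haveI := hN
  have hbot : N = ⊥ := le_bot_iff.1 (hO ▸ CfsgLib.le_oddCore hodd)
  refine hcen _ hx (mem_center_iff.2 fun g => ?_)
  have := hc g
  rw [hbot, mem_bot, mul_inv_eq_one, mul_inv_eq_iff_eq_mul] at this
  exact this.symm

section Main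

variable {E : Subgroup G} [IsMulCommutative ↥E] [Module (ZMod 2) (Additive ↥E)]

theorem autz_tv (hG : Hom G) (hm : 3 ≤ finrank (ZMod 2) (Additive ↥E))
    {g : G} (hg : g ∈ normalizer (E : Set G)) (hgc : g ∉ centralizer (E : Set G))
    (f : Dual (ZMod 2) (Additive ↥E)) (v : Additive ↥E) (h : f v = 0) :
    LinearEquiv.transvection h ∈ autzLin 2 E := by
  haveI : Finite (Additive ↥E) := inferInstanceAs (Finite ↥E)
  haveI : Module.Finite (ZMod 2) (Additive ↥E) := Module.Finite.of_finite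
  haveI : Nontrivial (Additive ↥E) := Module.finrank_pos_iff (R := ZMod 2).1 (by omega)
  haveI := hG.autzLin_normal 2 E
  obtain ⟨f', v', h', hf, hv, hmem⟩ := Lin.exists_tv_of_three hm (linOf_mem (p := 2) ⟨g, hg⟩)
    (not_isScalar_of_ne_one fun e => hgc ((linOf_eq_one_iff (p := 2) ⟨g, hg⟩).1 e))
  exact Lin.all_tv h' hf hv hmem f v h

/-- The Sylow 2-subgroup of the centralizer of such a subgroup is the subgroup itself. -/
theorem sylow_centralizer_eq_two (hG : Hom G) (hE : IsElem E)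
    (hmax : ∀ F : Subgroup G, IsElem F → Nat.card F ≤ Nat.card E) (hm : 3 ≤ finrank (ZMod 2) (Additive ↥E))
    (htv : ∀ (f : Dual (ZMod 2) (Additive ↥E)) (v : Additive ↥E) (h : f v = 0),
      LinearEquiv.transvection h ∈ autzLin 2 E)
    (S : Sylow 2 ↥(centralizer (E : Set G))) :
    (S : Subgroup ↥(centralizer (E : Set G))).map (centralizer (E : Set G)).subtype = E := by
  let C := centralizer (E : Set G)
  let T : Subgroup G := (S : Subgroup ↥C).map C.subtype
  have hTp : IsPGroup 2 T := S.2.map _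
  have hTC : T ≤ C := map_subtype_le _
  have hEC : E ≤ C := fun a ha b hb => hE.2 b hb a ha
  have hET : E ≤ T := fun a ha => by
    obtain ⟨c, hc, h⟩ := exists_conj_mem_sylow S (hEC ha) ⟨1, by simpa using hE.1 a ha⟩
    rwa [← hc a ha, mul_inv_cancel_right] at h
  by_contra hne
  have hΩ : ∀ x ∈ T, x ^ 2 = 1 → x ∈ E := fun x hx hx2 => mem_of_max hE hmax hx2 (hTC hx)
  have hNE : ∀ g ∈ normalizer (T : Set G), ∀ a ∈ E, g * a * g⁻¹ ∈ E := fun g hg a ha =>
    hΩ _ ((mem_normalizer_iff.1 hg a).1 (hET ha)) (by rw [conj_pow, hE.1 a ha, mul_one, mul_inv_cancel])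
  have h : Frame 2 T E := ⟨hTp, hET, fun e he x hx => (hTC hx e he).symm, hE.1⟩
  haveI := h.rad_normal
  haveI : IsMulCommutative (↥T ⧸ Frame.rad T E) := ⟨⟨fun a b => by
    obtain ⟨a, rfl⟩ := QuotientGroup.mk_surjective a
    obtain ⟨b, rfl⟩ := QuotientGroup.mk_surjective b
    rw [← commutatorElement_eq_one_iff_mul_comm, ← QuotientGroup.mk'_apply, ← QuotientGroup.mk'_apply,
      ← map_commutatorElement, QuotientGroup.mk'_apply, QuotientGroup.eq_one_iff]
    exact h.commutator_mem_rad a b⟩⟩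
  obtain ⟨instD⟩ : Nonempty (Module (ZMod 2) (DSp T E)) := ⟨dspModule h⟩
  haveI : Finite (DSp T E) := inferInstanceAs (Finite (↥T ⧸ Frame.rad T E))
  haveI : Finite (Additive ↥E) := inferInstanceAs (Finite ↥E)
  haveI : Module.Finite (ZMod 2) (DSp T E) := Module.Finite.of_finite
  haveI : Module.Finite (ZMod 2) (Additive ↥E) := Module.Finite.of_finite
  have hαE : ∀ n : ↥(normalizer (T : Set G)), ∀ x : ↥T, (x : G) ∈ E →
      ((T.normalizerMonoidHom n x : ↥T) : G) ∈ E := fun n x hx => hNE n n.2 x hx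
  let σ : ↥(normalizer (T : Set G)) →* (Additive ↥E ≃ₗ[ZMod 2] Additive ↥E) :=
    MonoidHom.mk' (fun n => aE (hαE n) h) fun a b => LinearEquiv.ext fun z => by
      refine congrArg Additive.ofMul (Subtype.ext ?_ : (Additive.toMul (aE (hαE (a * b)) h z) : ↥E) =
        Additive.toMul (aE (hαE a) h (aE (hαE b) h z)))
      refine (aE_apply (hαE (a * b)) h (Additive.toMul z)).trans ?_
      refine Eq.trans ?_ (aE_apply (hαE a) h (Additive.toMul (aE (hαE b) h z))).symm
      show ((a * b : ↥(normalizer (T : Set G))) : G) * (Additive.toMul z : ↥E) * _ =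
        (a : G) * (((Additive.toMul (aE (hαE b) h z)) : ↥E) : G) * (a : G)⁻¹
      rw [show (((Additive.toMul (aE (hαE b) h z)) : ↥E) : G) = (b : G) * (Additive.toMul z : ↥E) * (b : G)⁻¹
        from aE_apply (hαE b) h (Additive.toMul z)]
      simp only [Subgroup.coe_mul, Subgroup.coe_inv]
      group
  let ρ : ↥(normalizer (T : Set G)) →* (DSp T E ≃ₗ[ZMod 2] DSp T E) :=
    MonoidHom.mk' (fun n => aD (p := 2) (hαE n)) fun a b => LinearEquiv.ext fun z => by
      obtain ⟨x, hx⟩ := QuotientGroup.mk_surjective (Additive.toMul z)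
      obtain rfl : z = Additive.ofMul (x : ↥T ⧸ Frame.rad T E) := hx ▸ rfl
      rw [LinearEquiv.mul_apply, aD_apply, aD_apply, aD_apply, map_mul]
      rfl
  have hσ : ∀ (n : ↥(normalizer (T : Set G))) (a : ↥E),
      ((Additive.toMul (σ n (Additive.ofMul a)) : ↥E) : G) = (n : G) * a * (n : G)⁻¹ := fun n a =>
    aE_apply (hαE n) h a
  have hσtv : ∀ (f : Dual (ZMod 2) (Additive ↥E)) (v : Additive ↥E) (hv : f v = 0),
      LinearEquiv.transvection hv ∈ σ.range := by
    intro f v hv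
    obtain ⟨g, hg⟩ := mem_autzLin.1 (htv f v hv)
    have hgN : g ∈ normalizer (E : Set G) := mem_normalizer_of_conj fun a ha => by
      rw [hg ⟨a, ha⟩]; exact SetLike.coe_mem _
    have hgC : g ∈ normalizer (C : Set G) := mem_normalizer_of_conj fun x hx a ha => by
      have h1 := hx _ ((mem_normalizer_iff.1 (inv_mem hgN) a).1 ha)
      calc a * (g * x * g⁻¹) = g * (g⁻¹ * a * g⁻¹⁻¹ * x) * g⁻¹ := by group
        _ = g * (x * (g⁻¹ * a * g⁻¹⁻¹)) * g⁻¹ := by rw [h1]
        _ = g * x * g⁻¹ * a := by group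
    obtain ⟨c, hc, n, hn, rfl⟩ := exists_mul_normalizer_sylow S hgC
    refine ⟨⟨n, hn⟩, LinearEquiv.ext fun z => congrArg Additive.ofMul (Subtype.ext ?_ :
      Additive.toMul (σ ⟨n, hn⟩ z) = Additive.toMul (LinearEquiv.transvection hv z))⟩
    refine (hσ ⟨n, hn⟩ (Additive.toMul z)).trans (Eq.trans ?_ (hg (Additive.toMul z)))
    have h1 := hNE n hn _ (Additive.toMul z).2
    calc n * ((Additive.toMul z : ↥E) : G) * n⁻¹ = (n * (Additive.toMul z : ↥E) * n⁻¹) * c * c⁻¹ :=
          (mul_inv_cancel_right _ _).symm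
      _ = c * (n * (Additive.toMul z : ↥E) * n⁻¹) * c⁻¹ := by rw [hc _ h1]
      _ = _ := by group
  haveI : Nontrivial (Additive ↥E) := Module.finrank_pos_iff (R := ZMod 2).1 (by omega)
  have hirr : ∀ W : Submodule (ZMod 2) (Additive ↥E), (∀ n, ∀ w ∈ W, σ n w ∈ W) → W = ⊥ ∨ W = ⊤ := by
    intro W hW
    refine or_iff_not_imp_left.2 fun hne0 => eq_top_iff.2 fun z _ => ?_
    obtain ⟨w, hw, hw0⟩ := Submodule.exists_mem_ne_zero_of_ne_bot hne0
    by_cases hz : z ∈ Submodule.span (ZMod 2) {w}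
    · exact (Submodule.span_singleton_le_iff_mem w W).2 hw hz
    obtain ⟨f, hf⟩ := Lin.exists_dual (linearIndependent_fin2.2 ⟨hw0, fun t ht =>
      hz (Submodule.mem_span_singleton.2 ⟨t, ht⟩)⟩ : LinearIndependent (ZMod 2) ![z, w]) ![1, 1]
    have hv : f (z - w) = 0 := by rw [map_sub, show f z = 1 from hf 0, show f w = 1 from hf 1, sub_self]
    obtain ⟨n, hn⟩ := hσtv f (z - w) hv
    have := hW n w hw
    rwa [hn, LinearEquiv.transvection.apply, show f w = 1 from hf 1, one_smul, add_sub_cancel] at this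
  -- `E` lies in the Frattini subgroup
  have hEΦ : E.subgroupOf T ≤ frattini ↥T := by
    let Φ : Submodule (ZMod 2) (Additive ↥E) :=
      AddSubgroup.toZModSubmodule 2 (Subgroup.toAddSubgroup
        ((frattini ↥T).comap (Subgroup.inclusion hET)))
    have hΦinv : ∀ n, ∀ w ∈ Φ, σ n w ∈ Φ := by
      intro n w hw
      have hmap := (Subgroup.Characteristic.fixed (H := frattini ↥T) inferInstance (T.normalizerMonoidHom n)).ge
        (show Subgroup.inclusion hET (Additive.toMul w) ∈ frattini ↥T from hw)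
      show Subgroup.inclusion hET (Additive.toMul (σ n w)) ∈ frattini ↥T
      have e : Subgroup.inclusion hET (Additive.toMul (σ n w)) =
          T.normalizerMonoidHom n (Subgroup.inclusion hET (Additive.toMul w)) :=
        Subtype.ext (hσ n (Additive.toMul w))
      rw [e]
      exact hmap
    rcases hirr Φ hΦinv with hb | ht
    · exfalso
      have hΦ1 : frattini ↥T = ⊥ := by
        by_contra hΦ
        haveI : Nontrivial (frattini ↥T) := (nontrivial_iff_ne_bot _).2 hΦ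
        obtain ⟨k, hk, hcard⟩ := (hTp.to_subgroup (frattini ↥T)).nontrivial_iff_card.1 inferInstance
        obtain ⟨y, hy⟩ := exists_prime_orderOf_dvd_card' (G := ↥(frattini ↥T)) 2 (hcard ▸ dvd_pow_self 2 hk.ne')
        rw [← Subgroup.orderOf_coe, ← Subgroup.orderOf_coe] at hy
        have hyE : ((y : ↥T) : G) ∈ E := hΩ _ (y : ↥T).2 (hy ▸ pow_orderOf_eq_one _)
        have : Additive.ofMul (⟨_, hyE⟩ : ↥E) ∈ Φ := by
          show Subgroup.inclusion hET ⟨_, hyE⟩ ∈ frattini ↥T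
          exact y.2
        rw [hb, Submodule.mem_bot] at this
        have h1 : ((y : ↥T) : G) = 1 := congrArg (fun a => ((Additive.toMul a : ↥E) : G)) this
        rw [h1, orderOf_one] at hy
        omega
      refine hne (le_antisymm (fun x (hx : x ∈ T) => hΩ x hx ?_) hET)
      have := CfsgLib.pow_mem_frattini_pGroup hTp (⟨x, hx⟩ : ↥T)
      rw [hΦ1, mem_bot] at this
      exact congrArg Subtype.val this
    · intro x hx
      have : Additive.ofMul (⟨(x : G), mem_subgroupOf.1 hx⟩ : ↥E) ∈ Φ := ht ▸ Submodule.mem_top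
      exact this
  have hrad : Frame.rad T E = frattini ↥T := sup_of_le_left hEΦ
  -- the kernel of the action on the quotient acts as a 2-group
  have hker : ∀ n, ρ n = 1 → ∃ a, σ n ^ 2 ^ a = 1 := by
    intro n hn
    obtain ⟨a, w, hw2, hw⟩ := Nat.exists_eq_pow_mul_and_not_dvd
      (orderOf_pos (T.normalizerMonoidHom n)).ne' 2 (by norm_num)
    refine ⟨a, ?_⟩
    have hodd : Odd (orderOf (T.normalizerMonoidHom (n ^ 2 ^ a))) := by
      rw [map_pow, orderOf_pow_of_dvd (pow_ne_zero _ two_ne_zero) (hw ▸ dvd_mul_right _ _), hw,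
        Nat.mul_div_cancel_left _ (Nat.two_pow_pos a)]
      exact Nat.odd_iff.2 (by omega)
    have h1 : T.normalizerMonoidHom (n ^ 2 ^ a) = 1 := by
      refine CfsgLib.MetacyclicTwo.eq_one_of_trivial_mod_frattini hTp _ hodd fun x => ?_
      have hρn : ρ (n ^ 2 ^ a) = 1 := by rw [map_pow, hn, one_pow]
      have h2 := congrArg Additive.toMul (LinearEquiv.congr_fun hρn (Additive.ofMul (x : ↥T ⧸ Frame.rad T E)))
      have h3 : (T.normalizerMonoidHom (n ^ 2 ^ a) x)⁻¹ * x ∈ Frame.rad T E := QuotientGroup.eq.1 h2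
      rw [hrad] at h3
      have h4 := (inferInstance : (frattini ↥T).Normal).mem_comm h3
      rwa [← inv_mem_iff, mul_inv_rev, inv_inv] at h4
    rw [← map_pow]
    refine LinearEquiv.ext fun z => congrArg Additive.ofMul (Subtype.ext ?_ :
      Additive.toMul (σ (n ^ 2 ^ a) z) = Additive.toMul z)
    refine (hσ _ (Additive.toMul z)).trans ?_
    exact congrArg (fun f : ↥T ≃* ↥T => ((f ⟨_, hET (Additive.toMul z).2⟩ : ↥T) : G)) h1
  -- the quotient has dimension at least three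
  have hd := three_le_of_ker σ ρ hm hσtv hker
  let ρ' : ↥(normalizer (T : Set G)) → (DSp T E ≃ₗ[ZMod 2] DSp T E) := fun n => aD (p := 2) (hαE n)
  let σ'' : ↥(normalizer (T : Set G)) → (Additive ↥E ≃ₗ[ZMod 2] Additive ↥E) := fun n => aE (hαE n) h
  have hirr' : ∀ W : Submodule (ZMod 2) (Additive ↥E), (∀ n, ∀ w ∈ W, σ'' n w ∈ W) → W = ⊥ ∨ W = ⊤ := hirr
  have h1 : finrank (ZMod 2) (DSp T E →ₗ[ZMod 2] Additive ↥E) ≤
      finrank (ZMod 2) (innerSub (p := 2) h) + finrank (ZMod 2) (equiv' ρ' σ'') :=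
    hom_le ρ' σ'' _ fun n f => inner_commutator hG h
      (fun g hg hgc hp => mem_sylow_of_normalizes S hgc hg hp)
      (α := T.normalizerMonoidHom n) ((autz_eq_range T).symm ▸ ⟨n, rfl⟩) (hαE n) f
  have h2 := innerSub_finrank_le_two h hΩ rfl
  obtain ⟨e₀, he₀⟩ := exists_ne (0 : Additive ↥E)
  have h3 := equiv'_finrank_le ρ' σ'' hirr' he₀
  rw [Module.finrank_linearMap (ZMod 2) (ZMod 2) (DSp T E) (Additive ↥E)] at h1
  have hinv : 1 ≤ finrank (ZMod 2) (equiv' ρ' σ'') := by nlinarith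
  obtain ⟨ψ, hψ, hψ0⟩ := Submodule.exists_mem_ne_zero_of_ne_bot (p := equiv' ρ' σ'') (fun e => by
    rw [e, finrank_bot] at hinv; omega)
  have h4 := LinearMap.finrank_le_finrank_of_injective (equiv'_injective ρ' σ'' hirr' hψ hψ0)
  have hm3 : finrank (ZMod 2) (Additive ↥E) = 3 := by nlinarith
  rw [hm3] at h1 h2 h4
  have hd3 : finrank (ZMod 2) (DSp T E) = 3 := by omega
  have hinv2 : 2 ≤ finrank (ZMod 2) (equiv' ρ' σ'') := by omega
  have h6 := equiv'_finrank_le_one ρ' σ'' hirr' (hm3.trans hd3.symm) fun f v hv => by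
    obtain ⟨n, hn⟩ := hσtv f v hv
    exact ⟨n, hn⟩
  omega

/-- No elementary subgroup of largest order has full automizer and rank at least three. -/
theorem full_autz_false (hG : Hom G) (hE : IsElem E)
    (hmax : ∀ F : Subgroup G, IsElem F → Nat.card F ≤ Nat.card E) (hm : 3 ≤ finrank (ZMod 2) (Additive ↥E))
    (htv : ∀ (f : Dual (ZMod 2) (Additive ↥E)) (v : Additive ↥E) (h : f v = 0),
      LinearEquiv.transvection h ∈ autzLin 2 E) : False := by
  haveI : Finite (Additive ↥E) := inferInstanceAs (Finite ↥E)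
  haveI : Module.Finite (ZMod 2) (Additive ↥E) := Module.Finite.of_finite
  -- a hyperplane
  obtain ⟨be, hbe⟩ := exists_linearIndependent_of_le_finrank (show 1 ≤ finrank (ZMod 2) (Additive ↥E) by omega)
  obtain ⟨f, hf⟩ := Lin.exists_dual hbe ![1]
  set e₁ : ↥E := Additive.toMul (be 0) with he₁
  have hfe₁ : f (Additive.ofMul e₁) = 1 := hf 0
  let H : Subgroup G := (MonoidHom.mk' (fun a : ↥E => Multiplicative.ofAdd (f (Additive.ofMul a)))
    fun a b => by rw [ofMul_mul, map_add]; rfl).ker.map E.subtype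
  have hHmem : ∀ a : ↥E, (a : G) ∈ H ↔ f (Additive.ofMul a) = 0 := fun a =>
    (mem_map_iff_mem E.subtype_injective).trans Iff.rfl
  have hHE : H ≤ E := map_subtype_le _
  haveI : IsMulCommutative ↥H := ⟨⟨fun a b => Subtype.ext (hE.2 a (hHE a.2) b (hHE b.2))⟩⟩
  obtain ⟨instH⟩ : Nonempty (Module (ZMod 2) (Additive ↥H)) := ⟨elemModule fun a ha => hE.1 a (hHE ha)⟩
  haveI : Finite (Additive ↥H) := inferInstanceAs (Finite ↥H)
  haveI : Module.Finite (ZMod 2) (Additive ↥H) := Module.Finite.of_finite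
  let ι₀ : Additive ↥H →ₗ[ZMod 2] Additive ↥E :=
    (MonoidHom.toAdditive (Subgroup.inclusion hHE)).toZModLinearMap 2
  have hι₀ : Function.Injective ι₀ := fun a b hab => Subgroup.inclusion_injective hHE hab
  -- its dimension
  have hr : finrank (ZMod 2) (Additive ↥H) + 1 = finrank (ZMod 2) (Additive ↥E) := by
    have hrange : LinearMap.range ι₀ = LinearMap.ker f := by
      ext z
      rw [LinearMap.mem_range, LinearMap.mem_ker]
      constructor
      · rintro ⟨a, rfl⟩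
        exact (hHmem ⟨_, hHE (Additive.toMul a).2⟩).1 (Additive.toMul a).2
      · intro hz
        exact ⟨Additive.ofMul ⟨_, (hHmem (Additive.toMul z)).2 hz⟩, rfl⟩
    have hsurj : LinearMap.range f = ⊤ := eq_top_iff.2 fun c _ => ⟨c • be 0, by
      rw [map_smul, show f (be 0) = 1 from hf 0, smul_eq_mul, mul_one]⟩
    have := LinearMap.finrank_range_add_finrank_ker f
    rw [hsurj, finrank_top, finrank_self, ← hrange, LinearMap.finrank_range_of_inj hι₀] at this
    omega
  set N₁ := normalizer (E : Set G) ⊓ centralizer (H : Set G) with hN₁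
  have hHC : ∀ x ∈ N₁, ∀ a ∈ H, x * a * x⁻¹ = a := fun x hx a ha => by
    rw [← hx.2 a ha, mul_inv_cancel_right]
  have hout : ∀ a : G, a ∈ E → a ∉ H → a * (e₁ : G)⁻¹ ∈ H := by
    intro a ha hna
    have h1 : f (Additive.ofMul (⟨a, ha⟩ : ↥E)) = 1 :=
      (zmod_two_cases _).resolve_left fun h0 => hna ((hHmem ⟨a, ha⟩).2 h0)
    refine (hHmem (⟨a, ha⟩ * e₁⁻¹)).2 ?_
    rw [ofMul_mul, ofMul_inv, map_add, map_neg, h1, hfe₁]
    rfl
  have he₁H : (e₁ : G) ∉ H := fun hmem => one_ne_zero (hfe₁.symm.trans ((hHmem e₁).1 hmem))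
  have hτmem : ∀ x ∈ N₁, x * e₁ * x⁻¹ * (e₁ : G)⁻¹ ∈ H := fun x hx => by
    refine hout _ ((mem_normalizer_iff.1 hx.1 _).1 e₁.2) fun hmem => he₁H ?_
    have := hHC x hx _ hmem
    rw [mul_left_inj, mul_right_inj] at this
    rwa [this] at hmem
  have hfixE : ∀ x ∈ N₁, x * e₁ * x⁻¹ = e₁ → x ∈ centralizer (E : Set G) := by
    intro x hx he a ha
    by_cases haH : a ∈ H
    · exact hx.2 a haH
    · have h1 := hHC x hx _ (hout a ha haH)
      have h2 : x * a * x⁻¹ = a := by
        calc x * a * x⁻¹ = (x * (a * (e₁ : G)⁻¹) * x⁻¹) * (x * e₁ * x⁻¹) := by group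
          _ = a := by rw [h1, he]; group
      exact (mul_inv_eq_iff_eq_mul.1 h2).symm
  have hτmul : ∀ x ∈ N₁, ∀ y ∈ N₁, (x * y) * e₁ * (x * y)⁻¹ * (e₁ : G)⁻¹ =
      (y * e₁ * y⁻¹ * (e₁ : G)⁻¹) * (x * e₁ * x⁻¹ * (e₁ : G)⁻¹) := fun x hx y hy => by
    calc (x * y) * e₁ * (x * y)⁻¹ * (e₁ : G)⁻¹ =
        x * (y * e₁ * y⁻¹ * (e₁ : G)⁻¹) * x⁻¹ * (x * e₁ * x⁻¹ * (e₁ : G)⁻¹) := by group
      _ = _ := by rw [hHC x hx _ (hτmem y hy)]
  let τ : ↥N₁ →* ↥H := MonoidHom.mk' (fun x => ⟨_, hτmem x x.2⟩) fun x y => by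
    rw [mul_comm]
    exact Subtype.ext (hτmul x x.2 y y.2)
  -- the Sylow subgroup
  obtain ⟨P⟩ : Nonempty (Sylow 2 ↥N₁) := inferInstance
  set P₀ := (P : Subgroup ↥N₁).map N₁.subtype with hP₀
  have hP₀p : IsPGroup 2 P₀ := P.2.map _
  have hP₀N : P₀ ≤ N₁ := map_subtype_le _
  have hEN : E ≤ N₁ := fun a ha => ⟨Subgroup.le_normalizer ha, fun b hb => hE.2 b (hHE hb) a ha⟩
  have hEP : E ≤ P₀ := by
    haveI : (E.subgroupOf N₁).Normal := ⟨fun a ha x =>
      mem_subgroupOf.2 ((mem_normalizer_iff.1 x.2.1 _).1 (mem_subgroupOf.1 ha))⟩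
    have hle : E.subgroupOf N₁ ≤ P := by
      have hp : IsPGroup 2 (E.subgroupOf N₁) := fun a => ⟨1, Subtype.ext (Subtype.ext (by
        have := hE.1 _ (mem_subgroupOf.1 a.2)
        simpa using this))⟩
      rw [← P.3 (IsPGroup.to_sup_of_normal_right P.2 hp) le_sup_left]
      exact le_sup_right
    exact fun a ha => ⟨⟨a, hEN ha⟩, hle (mem_subgroupOf.2 ha), rfl⟩
  have h : Frame 2 P₀ H := ⟨hP₀p, hHE.trans hEP, fun a ha x hx => ((hP₀N hx).2 a ha).symm,
    fun a ha => hE.1 a (hHE ha)⟩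
  -- squares lie in the hyperplane
  have hEC : E ≤ centralizer (E : Set G) := fun a ha b hb => hE.2 b hb a ha
  obtain ⟨S⟩ : Nonempty (Sylow 2 ↥(centralizer (E : Set G))) := inferInstance
  have hT := sylow_centralizer_eq_two hG hE hmax hm htv S
  have hPC : ∀ y ∈ P₀, y ∈ centralizer (E : Set G) → y ∈ E := by
    intro y hy hyC
    obtain ⟨k, hk⟩ := hP₀p ⟨y, hy⟩
    obtain ⟨c, hc, hcy⟩ := exists_conj_mem_sylow S hyC ⟨k, by simpa using congrArg Subtype.val hk⟩
    rw [hT] at hcy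
    have : y = c * y * c⁻¹ := by
      have h1 := hc _ hcy
      calc y = c⁻¹ * (c * y * c⁻¹ * c) := by group
        _ = c⁻¹ * (c * (c * y * c⁻¹)) := by rw [h1]
        _ = _ := by group
    rwa [this]
  have hsq : ∀ x : ↥P₀, x * x ∈ H.subgroupOf P₀ := by
    intro x
    refine mem_subgroupOf.2 ?_
    set y : G := (x : G) * x with hy
    have hyC : y ∈ centralizer (E : Set G) := by
      refine hfixE y (mul_mem (hP₀N x.2) (hP₀N x.2)) ?_
      have := congrArg Subtype.val (show τ (⟨x, hP₀N x.2⟩ * ⟨x, hP₀N x.2⟩) = 1 by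
        rw [map_mul]; exact Subtype.ext ((pow_two _).symm.trans (hE.1 _ (hHE (τ ⟨x, hP₀N x.2⟩).2))))
      exact mul_inv_eq_one.1 this
    have hyE : y ∈ E := hPC y (mul_mem x.2 x.2) hyC
    by_contra hyH
    have hxC : (x : G) ∈ centralizer (E : Set G) := by
      refine hfixE x (hP₀N x.2) ?_
      have h1 : (x : G) * y * (x : G)⁻¹ = y := by rw [hy]; group
      have h2 := hHC _ (hP₀N x.2) _ (hout y hyE hyH)
      calc (x : G) * e₁ * (x : G)⁻¹ =
          ((x : G) * (y * (e₁ : G)⁻¹) * (x : G)⁻¹)⁻¹ * ((x : G) * y * (x : G)⁻¹) := by group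
        _ = (e₁ : G) := by rw [h1, h2]; group
    have hxE := hPC x x.2 hxC
    refine hyH ?_
    show y ∈ H
    rw [hy, ← pow_two, hE.1 _ hxE]
    exact one_mem _
  haveI : (H.subgroupOf P₀).Normal := ⟨fun a ha x => by
    refine mem_subgroupOf.2 ?_
    rw [Subgroup.coe_mul, Subgroup.coe_mul, Subgroup.coe_inv, hHC _ (hP₀N x.2) _ (mem_subgroupOf.1 ha)]
    exact mem_subgroupOf.1 ha⟩
  have hfr : frattini ↥P₀ ≤ H.subgroupOf P₀ := by
    refine CfsgLib.RankFrattini.frattini_le_of_elementary (p := 2) hP₀p _ (fun a b => ?_) fun a => by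
      rw [pow_two]; exact hsq a
    have e : ⁅a, b⁆ = (a * a) * ((a⁻¹ * b) * (a⁻¹ * b)) * (b * b)⁻¹ := by rw [commutatorElement_def]; group
    rw [e]
    exact mul_mem (mul_mem (hsq a) (hsq _)) (inv_mem (hsq b))
  have hrad : Frame.rad P₀ H = H.subgroupOf P₀ := sup_of_le_right hfr
  haveI := h.rad_normal
  haveI : IsMulCommutative (↥P₀ ⧸ Frame.rad P₀ H) := ⟨⟨fun a b => by
    obtain ⟨a, rfl⟩ := QuotientGroup.mk_surjective a
    obtain ⟨b, rfl⟩ := QuotientGroup.mk_surjective b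
    rw [← commutatorElement_eq_one_iff_mul_comm, ← QuotientGroup.mk'_apply, ← QuotientGroup.mk'_apply,
      ← map_commutatorElement, QuotientGroup.mk'_apply, QuotientGroup.eq_one_iff]
    exact h.commutator_mem_rad a b⟩⟩
  obtain ⟨instD⟩ : Nonempty (Module (ZMod 2) (DSp P₀ H)) := ⟨dspModule h⟩
  haveI : Finite (DSp P₀ H) := inferInstanceAs (Finite (↥P₀ ⧸ Frame.rad P₀ H))
  haveI : Module.Finite (ZMod 2) (DSp P₀ H) := Module.Finite.of_finite
  -- the acting group
  set J := normalizer (P₀ : Set G) ⊓ normalizer (E : Set G) ⊓ normalizer (H : Set G) with hJ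
  let α : ↥J → (↥P₀ ≃* ↥P₀) := fun n => P₀.normalizerMonoidHom ⟨n, n.2.1.1⟩
  have hαH : ∀ n : ↥J, ∀ x : ↥P₀, (x : G) ∈ H → (α n x : G) ∈ H := fun n x hx =>
    (mem_normalizer_iff.1 n.2.2 _).1 hx
  let ρ : ↥J → (DSp P₀ H ≃ₗ[ZMod 2] DSp P₀ H) := fun n => aD (p := 2) (hαH n)
  let σ : ↥J → (Additive ↥H ≃ₗ[ZMod 2] Additive ↥H) := fun n => aE (hαH n) h
  have hσ : ∀ (n : ↥J) (a : ↥H), ((Additive.toMul (σ n (Additive.ofMul a)) : ↥H) : G) = (n : G) * a * (n : G)⁻¹ :=
    fun n a => aE_apply (hαH n) h a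
  have hinner : ∀ (n : ↥J) (g : DSp P₀ H →ₗ[ZMod 2] Additive ↥H), Inner (conjMap (hαH n) h g - g) := by
    intro n g₀
    set g := conjMap (hαH n) h g₀ - g₀ with hg
    have hα : α n ∈ autz P₀ := (autz_eq_range P₀).symm ▸ ⟨_, rfl⟩
    have e : cAut h g = α n * (cAut h g₀ * (α n)⁻¹ * (cAut h g₀)⁻¹) := by
      have h1 : cAut h g * cAut h g₀ = α n * cAut h g₀ * (α n)⁻¹ := by
        rw [← cAut_add, hg, sub_add_cancel, cAut_conjMap]
      rw [eq_mul_inv_of_mul_eq h1]
      group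
    have hmem : cAut h g ∈ autz P₀ := by
      rw [e]; exact mul_mem hα ((hG.autz_normal P₀).conj_mem _ (inv_mem hα) _)
    obtain ⟨x, hx⟩ := hmem
    have hxN : x ∈ normalizer (P₀ : Set G) := mem_normalizer_of_autz hx
    have hxE : x ∈ normalizer (E : Set G) := mem_normalizer_of_conj fun a ha => by
      rw [hx ⟨a, hEP ha⟩, cAut_apply]
      exact mul_mem ha (hHE (SetLike.coe_mem _))
    have hxH : x ∈ centralizer (H : Set G) := fun a ha => by
      have := hx ⟨a, hEP (hHE ha)⟩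
      rw [cAut_apply, hval_of_mem_rad g (Frame.mem_rad_of_mem (x := ⟨a, hEP (hHE ha)⟩) ha), Subgroup.coe_one,
        mul_one] at this
      exact (mul_inv_eq_iff_eq_mul.1 this).symm
    obtain ⟨w, hw, k, hk⟩ := exists_coprime_pow (p := 2) x
    have hxP : x ^ w ∈ P₀ :=
      mem_sylow_of_normalizes P (pow_mem (show x ∈ N₁ from ⟨hxE, hxH⟩) w) (pow_mem hxN w) ⟨k, hk⟩
    refine ⟨⟨x ^ w, hxP⟩, fun a => ?_⟩
    obtain ⟨j, hj⟩ := Nat.coprime_two_right.1 hw
    have hn2 : cAut h g ^ w = cAut h g := by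
      rw [← cAut_nsmul, ← Nat.cast_smul_eq_nsmul (ZMod 2), show (w : ZMod 2) = 1 by
        rw [hj]; push_cast; rw [show (2 : ZMod 2) = 0 from rfl, zero_mul, zero_add], one_smul]
    have hpow : ∀ (i : ℕ) (a : ↥P₀), x ^ i * a * (x ^ i)⁻¹ = ((cAut h g ^ i) a : G) := fun i => by
      induction i with
      | zero => intro a; simp
      | succ i ih =>
        intro a
        rw [pow_succ' (cAut h g), MulAut.mul_apply, ← hx, ← ih, pow_succ']
        group
    show x ^ w * a * (x ^ w)⁻¹ = _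
    rw [hpow, hn2, cAut_apply]
  -- transvections of the hyperplane
  obtain ⟨π, hπ⟩ := ι₀.exists_leftInverse_of_injective (LinearMap.ker_eq_bot.2 hι₀)
  have hσtv : ∀ (f' : Dual (ZMod 2) (Additive ↥H)) (v : Additive ↥H) (hv : f' v = 0),
      ∃ n : ↥J, σ n = LinearEquiv.transvection hv := by
    intro f' v hv
    have hπ' : ∀ z, π (ι₀ z) = z := fun z => LinearMap.congr_fun hπ z
    have hv' : (f' ∘ₗ π) (ι₀ v) = 0 := by rw [LinearMap.comp_apply, hπ']; exact hv
    obtain ⟨g, hg⟩ := mem_autzLin.1 (htv (f' ∘ₗ π) (ι₀ v) hv')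
    have hgH : ∀ a : ↥H, g * a * g⁻¹ = (Additive.toMul (LinearEquiv.transvection hv (Additive.ofMul a)) : ↥H) := by
      intro a
      have h1 := hg (Subgroup.inclusion hHE a)
      refine h1.trans ?_
      have e : LinearEquiv.transvection hv' (ι₀ (Additive.ofMul a)) =
          ι₀ (LinearEquiv.transvection hv (Additive.ofMul a)) := by
        rw [LinearEquiv.transvection.apply, LinearEquiv.transvection.apply, map_add, map_smul, LinearMap.comp_apply,
          hπ']
      exact congrArg (fun z => ((Additive.toMul z : ↥E) : G)) e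
    have hgNE : g ∈ normalizer (E : Set G) := mem_normalizer_of_conj fun a ha => by
      rw [hg ⟨a, ha⟩]; exact SetLike.coe_mem _
    have hgNH : g ∈ normalizer (H : Set G) := mem_normalizer_of_conj fun a ha => by
      rw [hgH ⟨a, ha⟩]; exact SetLike.coe_mem _
    have hgN₁ : g ∈ normalizer (N₁ : Set G) := mem_normalizer_of_conj fun x hx => by
      refine mem_inf.2 ⟨mul_mem (mul_mem hgNE (mem_inf.1 hx).1) (inv_mem hgNE), fun a ha => ?_⟩
      have h1 := hx.2 _ ((mem_normalizer_iff.1 (inv_mem hgNH) a).1 ha)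
      calc a * (g * x * g⁻¹) = g * (g⁻¹ * a * g⁻¹⁻¹ * x) * g⁻¹ := by group
        _ = g * (x * (g⁻¹ * a * g⁻¹⁻¹)) * g⁻¹ := by rw [h1]
        _ = g * x * g⁻¹ * a := by group
    obtain ⟨c, hc, n, hn, rfl⟩ := exists_mul_normalizer_sylow P hgN₁
    have hnE : n ∈ normalizer (E : Set G) := by
      have := mul_mem (inv_mem (mem_inf.1 hc).1) hgNE
      rwa [inv_mul_cancel_left] at this
    have hcNH : c ∈ normalizer (H : Set G) := mem_normalizer_of_conj fun a ha => by
      rw [hHC c hc a ha]; exact ha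
    have hnH : n ∈ normalizer (H : Set G) := by
      have := mul_mem (inv_mem hcNH) hgNH
      rwa [inv_mul_cancel_left] at this
    refine ⟨⟨n, ⟨hn, hnE⟩, hnH⟩, LinearEquiv.ext fun z => congrArg Additive.ofMul (Subtype.ext ?_ :
      Additive.toMul (σ _ z) = Additive.toMul (LinearEquiv.transvection hv z))⟩
    refine (hσ _ (Additive.toMul z)).trans (Eq.trans ?_ (hgH (Additive.toMul z)))
    have h1 := (mem_normalizer_iff.1 hnH _).1 (Additive.toMul z).2
    calc n * ((Additive.toMul z : ↥H) : G) * n⁻¹ = c * (n * (Additive.toMul z : ↥H) * n⁻¹) * c⁻¹ :=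
          (hHC c hc _ h1).symm
      _ = _ := by group
  have hirr : ∀ W : Submodule (ZMod 2) (Additive ↥H), (∀ n, ∀ w ∈ W, σ n w ∈ W) → W = ⊥ ∨ W = ⊤ := by
    intro W hW
    refine or_iff_not_imp_left.2 fun hne0 => eq_top_iff.2 fun z _ => ?_
    obtain ⟨w, hw, hw0⟩ := Submodule.exists_mem_ne_zero_of_ne_bot hne0
    by_cases hz : z ∈ Submodule.span (ZMod 2) {w}
    · exact (Submodule.span_singleton_le_iff_mem w W).2 hw hz
    obtain ⟨f', hf'⟩ := Lin.exists_dual (linearIndependent_fin2.2 ⟨hw0, fun t ht =>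
      hz (Submodule.mem_span_singleton.2 ⟨t, ht⟩)⟩ : LinearIndependent (ZMod 2) ![z, w]) ![1, 1]
    have hv : f' (z - w) = 0 := by rw [map_sub, show f' z = 1 from hf' 0, show f' w = 1 from hf' 1, sub_self]
    obtain ⟨n, hn⟩ := hσtv f' (z - w) hv
    have := hW n w hw
    rwa [hn, LinearEquiv.transvection.apply, show f' w = 1 from hf' 1, one_smul, add_sub_cancel] at this
  -- lifts of all transvections with this axis
  have hlift : ∀ a : ↥H, ∃ y : ↥P₀, τ ⟨y, hP₀N y.2⟩ = a := by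
    intro a
    have hv : f (ι₀ (Additive.ofMul a)) = 0 := (hHmem (Subgroup.inclusion hHE a)).1 a.2
    obtain ⟨g, hg⟩ := mem_autzLin.1 (htv f (ι₀ (Additive.ofMul a)) hv)
    have hgE : g ∈ normalizer (E : Set G) := mem_normalizer_of_conj fun b hb => by
      rw [hg ⟨b, hb⟩]; exact SetLike.coe_mem _
    have hgN : g ∈ N₁ := ⟨hgE, fun b hb => by
      have := hg ⟨b, hHE hb⟩
      rw [LinearEquiv.transvection.apply, (hHmem ⟨b, hHE hb⟩).1 hb, zero_smul, add_zero] at this
      exact (mul_inv_eq_iff_eq_mul.1 this).symm⟩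
    have hτg : τ ⟨g, hgN⟩ = a := by
      refine Subtype.ext ?_
      show g * e₁ * g⁻¹ * (e₁ : G)⁻¹ = a
      rw [hg e₁, LinearEquiv.transvection.apply, hfe₁, one_smul]
      show (e₁ : G) * a * (e₁ : G)⁻¹ = a
      rw [hE.2 _ e₁.2 _ (hHE a.2), mul_inv_cancel_right]
    obtain ⟨w, hw, k, hk⟩ := exists_coprime_pow (p := 2) g
    obtain ⟨c, hc, hcy⟩ := exists_conj_mem_sylow P (pow_mem hgN w) ⟨k, hk⟩
    refine ⟨⟨_, hcy⟩, ?_⟩
    rw [show (⟨c * g ^ w * c⁻¹, hP₀N hcy⟩ : ↥N₁) = ⟨c, hc⟩ * ⟨g, hgN⟩ ^ w * ⟨c, hc⟩⁻¹ from Subtype.ext (by simp)]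
    rw [map_mul, map_mul, map_pow, map_inv, hτg, mul_comm (τ _) (a ^ w), mul_inv_cancel_right]
    obtain ⟨j, hj⟩ := Nat.coprime_two_right.1 hw
    rw [hj, pow_succ, pow_mul, show a ^ 2 = 1 from Subtype.ext (hE.1 _ (hHE a.2)), one_pow, one_mul]
  obtain ⟨bh, hbh⟩ := exists_linearIndependent_of_le_finrank (show 2 ≤ finrank (ZMod 2) (Additive ↥H) by omega)
  obtain ⟨fy, hfy⟩ := Lin.exists_dual hbh ![0, 1]
  obtain ⟨n, hn⟩ := hσtv fy (bh 0) (hfy 0)
  have hne₀ : bh 0 ≠ 0 := hbh.ne_zero 0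
  have hσ0 : σ n (bh 0) = bh 0 := by
    refine (LinearEquiv.congr_fun hn (bh 0)).trans ((LinearEquiv.transvection.apply (hfy 0) (bh 0)).trans ?_)
    rw [show fy (bh 0) = 0 from hfy 0, zero_smul, add_zero]
  obtain ⟨z, hz⟩ : ∃ z, ρ n z ≠ z := by
    by_contra hall
    push Not at hall
    have hfixH : ∀ a : ↥H, (n : G) * a * (n : G)⁻¹ = a := by
      intro a
      obtain ⟨y, hy⟩ := hlift a
      have h0 : (Additive.toMul (ρ n (Additive.ofMul (y : ↥P₀ ⧸ Frame.rad P₀ H)))) = (y : ↥P₀ ⧸ Frame.rad P₀ H) :=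
        congrArg Additive.toMul (hall _)
      have h1 : (y⁻¹ * α n y) ∈ Frame.rad P₀ H := QuotientGroup.eq.1 (show _ = _ from h0.symm)
      rw [hrad, mem_subgroupOf] at h1
      obtain ⟨b, hb, hnb⟩ : ∃ b : G, b ∈ H ∧ (n : G) * y * (n : G)⁻¹ = y * b :=
        ⟨_, h1, by show _ = _; exact (mul_inv_cancel_left _ _).symm⟩
      have he1' : (n : G)⁻¹ * e₁ * n ∈ E := by
        have := (mem_normalizer_iff.1 (inv_mem n.2.1.2) _).1 e₁.2
        rwa [inv_inv] at this
      have he1H : (n : G)⁻¹ * e₁ * n ∉ H := fun hmem => he₁H (by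
        have := (mem_normalizer_iff.1 n.2.2 _).1 hmem
        simpa [mul_assoc] using this)
      have hya : (y : G) * e₁ * (y : G)⁻¹ = (a : G) * e₁ :=
        mul_inv_eq_iff_eq_mul.1 (congrArg Subtype.val hy)
      have hbe : b * e₁ = e₁ * b := hE.2 _ (hHE hb) _ e₁.2
      set d := (n : G)⁻¹ * e₁ * n * (e₁ : G)⁻¹ with hd
      have hdH : d ∈ H := hout _ he1' he1H
      have hyd := hHC _ (hP₀N y.2) _ hdH
      have key : (n : G) * a * (n : G)⁻¹ * e₁ = (a : G) * e₁ :=
        calc (n : G) * a * (n : G)⁻¹ * e₁ = (n : G) * (a * (d * e₁)) * (n : G)⁻¹ := by rw [hd]; group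
          _ = (n : G) * (d * (a * e₁)) * (n : G)⁻¹ := by
            rw [show (a : G) * (d * e₁) = d * (a * e₁) by rw [← mul_assoc, hE.2 _ (hHE a.2) _ (hHE hdH), mul_assoc]]
          _ = (n : G) * ((y * d * (y : G)⁻¹) * (y * e₁ * (y : G)⁻¹)) * (n : G)⁻¹ := by rw [hyd, hya]
          _ = ((n : G) * y * (n : G)⁻¹) * e₁ * ((n : G) * y * (n : G)⁻¹)⁻¹ := by rw [hd]; group
          _ = y * (b * e₁) * b⁻¹ * (y : G)⁻¹ := by rw [hnb]; group
          _ = _ := by rw [hbe, show (y : G) * (e₁ * b) * b⁻¹ * (y : G)⁻¹ = y * e₁ * (y : G)⁻¹ by group, hya]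
      exact mul_right_cancel key
    have h1 := (LinearEquiv.congr_fun hn (bh 1)).trans (LinearEquiv.transvection.apply (hfy 0) (bh 1))
    rw [show fy (bh 1) = 1 from hfy 1, one_smul] at h1
    have h2 : σ n (bh 1) = bh 1 := congrArg Additive.ofMul (Subtype.ext ((hσ n _).trans (hfixH _)) :
      Additive.toMul (σ n (bh 1)) = Additive.toMul (bh 1))
    exact hne₀ (add_eq_left.1 (h1.symm.trans h2))
  have h1 : finrank (ZMod 2) (DSp P₀ H →ₗ[ZMod 2] Additive ↥H) ≤
      finrank (ZMod 2) (innerSub (p := 2) h) + finrank (ZMod 2) (equiv' ρ σ) :=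
    hom_le ρ σ _ hinner
  haveI hfin : Finite (DSp P₀ H →ₗ[ZMod 2] Additive ↥H) := DFunLike.finite _
  have h2 : finrank (ZMod 2) (innerSub (p := 2) h) ≤ finrank (ZMod 2) (DSp P₀ H) := by
    have hle := innerSub_card_le h (Frame.rad P₀ H) (fun a ha => mem_center_iff.2 fun b => by
      rw [hrad] at ha
      exact Subtype.ext (h.comm _ (mem_subgroupOf.1 ha) b b.2))
    rw [Subgroup.index_eq_card, Module.natCard_eq_pow_finrank (K := ZMod 2), Nat.card_zmod,
      Nat.card_congr (Additive.ofMul (α := ↥P₀ ⧸ Frame.rad P₀ H)), Module.natCard_eq_pow_finrank (K := ZMod 2),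
      Nat.card_zmod] at hle
    exact (Nat.pow_le_pow_iff_right one_lt_two).1 hle
  have h3 : finrank (ZMod 2) (equiv' ρ σ) < finrank (ZMod 2) (DSp P₀ H) := by
    let ev : equiv' ρ σ →ₗ[ZMod 2] DSp P₀ H := LinearMap.applyₗ (bh 0) ∘ₗ (equiv' ρ σ).subtype
    have hev : Function.Injective ev := fun a b hab => by
      by_contra hab'
      have hne : (a - b).1 ≠ 0 := fun h0 => hab' (sub_eq_zero.1 (Subtype.ext h0))
      refine hne₀ (equiv'_injective ρ σ hirr (a - b).2 hne ?_)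
      rw [map_zero, Submodule.coe_sub, LinearMap.sub_apply]
      exact sub_eq_zero.2 hab
    rw [← LinearMap.finrank_range_of_inj hev]
    refine Submodule.finrank_lt fun e => hz ?_
    obtain ⟨ψ, rfl⟩ : z ∈ LinearMap.range ev := e ▸ Submodule.mem_top
    show ρ n ((ψ : _ →ₗ[ZMod 2] DSp P₀ H) (bh 0)) = _
    rw [mem_equiv'.1 ψ.2, hσ0]
    rfl
  rw [Module.finrank_linearMap (ZMod 2) (ZMod 2) (DSp P₀ H) (Additive ↥H)] at h1
  have h5 : 2 ≤ finrank (ZMod 2) (Additive ↥H) := by omega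
  nlinarith

end Main

/-- A perfect homogeneous group with trivial odd core and no central involution has 2-rank at most two. -/
theorem Hom.pRankLE_two (hG : Hom G) (hO : Cfsg.oddCore G = ⊥) (hcen : ∀ x : G, orderOf x = 2 → x ∉ center G) :
    Cfsg.PRankLE 2 2 G := by
  intro A hA hA2
  by_contra hlt
  push Not at hlt
  have hAe : IsElem A := ⟨hA2, fun a ha b hb => congrArg Subtype.val (mul_comm' (⟨a, ha⟩ : ↥A) ⟨b, hb⟩)⟩
  have h8 : 8 ≤ Nat.card A := by
    obtain ⟨k, hk⟩ := IsPGroup.iff_card.1 (fun a => ⟨1, Subtype.ext (hA2 a a.2)⟩ : IsPGroup 2 A)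
    rw [hk] at hlt ⊢
    have : 2 < k := (Nat.pow_lt_pow_iff_right one_lt_two).1 hlt
    calc 8 = 2 ^ 3 := rfl
      _ ≤ 2 ^ k := Nat.pow_le_pow_right two_pos this
  obtain ⟨E, hE, hmax, h8', g, hg, hgc⟩ := exists_nontrivial_autz hO hcen hAe h8
  haveI : IsMulCommutative ↥E := ⟨⟨fun a b => Subtype.ext (hE.2 a a.2 b b.2)⟩⟩
  obtain ⟨instE⟩ : Nonempty (Module (ZMod 2) (Additive ↥E)) := ⟨elemModule fun a ha => hE.1 a ha⟩
  have hm : 3 ≤ finrank (ZMod 2) (Additive ↥E) := by
    rw [card_eq (p := 2) (E := E)] at h8'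
    by_contra hlt'
    push Not at hlt'
    have := Nat.pow_le_pow_right two_pos (Nat.le_of_lt_succ hlt')
    omega
  exact full_autz_false hG hE hmax hm (autz_tv hG hm hg hgc)

end CfsgLib.Homogeneous
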