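import Cfsg.Agent.Lib.Homogeneous.Unitary.CC

/-!
No simple homogeneous group has a Sylow 2-subgroup of order 64 of unitary type: the centralizers of involutions are
Sylow subgroups, counting involutions in cosets leaves two possible orders, and Sylow's theorem excludes both.
-/

set_option autoImplicit false

namespace CfsgLib.Homogeneous

open Cfsg Subgroup

universe u

variable {G : Type u} [Group G] [Finite G]

namespace Unitary

/-- The index of a subgroup with self-centralizing non-trivial elements in its normalizer, and the congruence. -/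
theorem cc_count {K : Subgroup G} (hab : ∀ a ∈ K, ∀ b ∈ K, a * b = b * a)
    (hC : ∀ y ∈ K, y ≠ 1 → Subgroup.centralizer ({y} : Set G) = K) :
    ∃ e i : ℕ, e = (K.subgroupOf (Subgroup.normalizer (K : Set G))).index ∧
      Nat.card G = Nat.card K * e * i ∧ e ∣ Nat.card K - 1 ∧ Nat.card K ∣ i - 1 ∧ 0 < i := by
  classical
  set N := Subgroup.normalizer (K : Set G) with hN
  set K' := K.subgroupOf N
  haveI : K'.Normal := Subgroup.normal_in_normalizer
  have hK' : Nat.card K' = Nat.card K := Nat.card_congr (Subgroup.subgroupOfEquivOfLe Subgroup.le_normalizer).toEquiv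
  have hcard : Nat.card G = Nat.card K * K'.index * N.index := by
    rw [← hK', K'.card_mul_index, N.card_mul_index]
  -- the action on the non-trivial elements
  have he : K'.index ∣ Nat.card K - 1 := by
    let X := {y : G // y ∈ K ∧ y ≠ 1}
    letI : MulAction N X :=
      { smul := fun g y => ⟨(g : G) * y * (g : G)⁻¹, (Subgroup.mem_normalizer_iff.mp g.2 _).mp y.2.1,
          fun e => y.2.2 (conj_eq_one_iff.mp e)⟩
        one_smul := fun y => Subtype.ext (show ((1 : N) : G) * y * ((1 : N) : G)⁻¹ = y by simp)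
        mul_smul := fun g h y => Subtype.ext (show ((g * h : N) : G) * y * ((g * h : N) : G)⁻¹ =
          (g : G) * ((h : G) * y * (h : G)⁻¹) * (g : G)⁻¹ by simp [mul_assoc]) }
    have hstab : ∀ y : X, MulAction.stabilizer N y = K' := fun y => by
      ext g
      rw [MulAction.mem_stabilizer_iff, Subgroup.mem_subgroupOf, ← hC y y.2.1 y.2.2,
        Subgroup.mem_centralizer_singleton_iff, Subtype.ext_iff]
      exact mul_inv_eq_iff_eq_mul
    have hX : Nat.card X = Nat.card K - 1 := by
      have e : X ≃ {k : K // k ≠ 1} :=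
        { toFun := fun y => ⟨⟨y, y.2.1⟩, fun e => y.2.2 (congrArg Subtype.val e)⟩
          invFun := fun k => ⟨(k : K), k.1.2, fun e => k.2 (Subtype.ext e)⟩
          left_inv := fun y => rfl
          right_inv := fun k => rfl }
      haveI := Fintype.ofFinite K
      rw [Nat.card_congr e, Nat.card_eq_fintype_card, Fintype.card_subtype_compl, Fintype.card_subtype_eq,
        ← Nat.card_eq_fintype_card]
    haveI := Fintype.ofFinite (Quotient (MulAction.orbitRel N X))
    rw [← hX, Nat.card_congr (MulAction.selfEquivSigmaOrbitsQuotientStabilizer N X), Nat.card_sigma]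
    refine Finset.dvd_sum fun ω _ => ?_
    rw [hstab]
    exact dvd_rfl
  refine ⟨_, N.index, rfl, hcard, he, ?_, Nat.pos_of_ne_zero Subgroup.index_ne_zero_of_finite⟩
  -- the action on the other cosets is free
  let Y := {q : G ⧸ N // q ≠ ((1 : G) : G ⧸ N)}
  have hbase : ∀ k : K, (k : G) • ((1 : G) : G ⧸ N) = ((1 : G) : G ⧸ N) := fun k => by
    show ((((k : G) * 1 : G)) : G ⧸ N) = _
    rw [mul_one, QuotientGroup.eq, mul_one]
    exact inv_mem (Subgroup.le_normalizer k.2)
  letI : MulAction K Y :=
    { smul := fun k q => ⟨(k : G) • (q : G ⧸ N), fun e => q.2 (by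
        exact MulAction.injective (k : G) (e.trans (hbase k).symm))⟩
      one_smul := fun q => Subtype.ext (one_smul G (q : G ⧸ N))
      mul_smul := fun k l q => Subtype.ext (mul_smul (k : G) (l : G) (q : G ⧸ N)) }
  have hfree : ∀ q : Y, MulAction.stabilizer K q = ⊥ := by
    rintro ⟨q, hq⟩
    rw [Subgroup.eq_bot_iff_forall]
    rintro ⟨y, hy⟩ hyq
    by_contra hy1
    have hy1 : y ≠ 1 := fun e => hy1 (Subtype.ext e)
    obtain ⟨g, rfl⟩ := QuotientGroup.mk_surjective q
    have h : (((y * g : G)) : G ⧸ N) = (g : G ⧸ N) := congrArg Subtype.val hyq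
    rw [QuotientGroup.eq, mul_inv_rev, mul_assoc] at h
    have hz : g⁻¹ * y * g ∈ N := by
      have h' := inv_mem h
      rw [mul_inv_rev, mul_inv_rev, inv_inv, inv_inv] at h'
      exact h'
    set z := g⁻¹ * y * g with hzdef
    have hz1 : z ≠ 1 := fun e => hy1 (by
      calc y = g * z * g⁻¹ := by simp only [hzdef]; group
        _ = 1 := by rw [e]; group)
    have hzK : z ∈ K := by
      have h1 : (⟨z, hz⟩ : N) ^ K'.index ∈ K' := K'.pow_index_mem _
      have h2 : orderOf z ∣ Nat.card K := by
        have : orderOf z = orderOf y := by simpa [hzdef] using MulEquiv.orderOf_eq (MulAut.conj g⁻¹) y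
        rw [this, ← Subgroup.orderOf_mk y hy]; exact _root_.orderOf_dvd_natCard _
      have hcop : (K'.index).Coprime (orderOf z) := by
        refine Nat.Coprime.coprime_dvd_left he (Nat.Coprime.coprime_dvd_right h2 ?_)
        have : 0 < Nat.card K := Nat.card_pos
        exact ((Nat.coprime_self_sub_right (show 1 ≤ Nat.card K by omega)).mpr (Nat.coprime_one_right _)).symm
      obtain ⟨j, hj⟩ := exists_pow_eq_self_of_coprime hcop
      rw [← hj]
      exact K.pow_mem h1 j
    refine hq (QuotientGroup.eq.mpr ?_)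
    rw [mul_one]
    refine inv_mem (CfsgA8C.mem_normalizer_of_le fun k hk => ?_)
    have key : ∀ k' ∈ K, g * k' * g⁻¹ ∈ K := fun k' hk' => by
      rw [← hC y hy hy1, Subgroup.mem_centralizer_singleton_iff]
      calc g * k' * g⁻¹ * y = g * (k' * z) * g⁻¹ := by simp only [hzdef]; group
        _ = g * (z * k') * g⁻¹ := by rw [hab k' hk' z hzK]
        _ = y * (g * k' * g⁻¹) := by simp only [hzdef]; group
    exact key k hk
  have hY : Nat.card Y = N.index - 1 := by
    haveI := Fintype.ofFinite (G ⧸ N)
    rw [Nat.card_eq_fintype_card, Fintype.card_subtype_compl, Fintype.card_subtype_eq, ← Nat.card_eq_fintype_card,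
      Subgroup.index]
  haveI := Fintype.ofFinite (Quotient (MulAction.orbitRel K Y))
  rw [← hY, Nat.card_congr (MulAction.selfEquivSigmaOrbitsQuotientStabilizer K Y), Nat.card_sigma]
  refine Finset.dvd_sum fun ω _ => ?_
  rw [hfree]
  exact dvd_of_eq (Subgroup.index_bot (G := K)).symm

/-- The arithmetic. -/
theorem cases_of_count {g m n e i : ℕ} (hg : g = 192 * n) (hn : n + 63 = 128 * m) (hm : Odd (3 * m))
    (hgc : g = 3 * m * e * i) (he : e ∣ 3 * m - 1) (he2 : 2 ∣ e) (hi : 3 * m ∣ i - 1) (hi0 : 0 < i) :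
    g = 12480 ∨ g = 61632 := by
  have hm2 : Odd m := (Nat.odd_mul.mp hm).2
  have h1 : m ∣ 64 * n := ⟨e * i, by linarith⟩
  have h2 : m ∣ n := (Nat.Coprime.pow_right 6 (Nat.coprime_two_right.mpr hm2)).dvd_of_dvd_mul_left h1
  have h3 : m ∣ 63 := (Nat.dvd_add_right h2).mp (hn ▸ dvd_mul_left m 128)
  have hmem : m ∈ Nat.divisors 63 := Nat.mem_divisors.mpr ⟨h3, by norm_num⟩
  rw [show Nat.divisors 63 = {1, 3, 7, 9, 21, 63} from by decide] at hmem
  simp only [Finset.mem_insert, Finset.mem_singleton] at hmem
  have hem : e ∈ Nat.divisors (3 * m - 1) := Nat.mem_divisors.mpr ⟨he, by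
    obtain ⟨r, hr⟩ := hm2
    omega⟩
  rcases hmem with rfl | rfl | rfl | rfl | rfl | rfl <;> norm_num at hn hem hi hgc
  · omega
  · omega
  · replace hem := Nat.mem_divisors.mpr ⟨hem, (by norm_num : (20 : ℕ) ≠ 0)⟩
    rw [show Nat.divisors 20 = {1, 2, 4, 5, 10, 20} from by decide] at hem
    simp only [Finset.mem_insert, Finset.mem_singleton] at hem
    rcases hem with rfl | rfl | rfl | rfl | rfl | rfl <;> omega
  · replace hem := Nat.mem_divisors.mpr ⟨hem, (by norm_num : (26 : ℕ) ≠ 0)⟩
    rw [show Nat.divisors 26 = {1, 2, 13, 26} from by decide] at hem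
    simp only [Finset.mem_insert, Finset.mem_singleton] at hem
    rcases hem with rfl | rfl | rfl | rfl <;> omega
  · replace hem := Nat.mem_divisors.mpr ⟨hem, (by norm_num : (62 : ℕ) ≠ 0)⟩
    rw [show Nat.divisors 62 = {1, 2, 31, 62} from by decide] at hem
    simp only [Finset.mem_insert, Finset.mem_singleton] at hem
    rcases hem with rfl | rfl | rfl | rfl <;> omega
  · replace hem := Nat.mem_divisors.mpr ⟨hem, (by norm_num : (188 : ℕ) ≠ 0)⟩
    rw [show Nat.divisors 188 = {1, 2, 4, 47, 94, 188} from by decide] at hem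
    simp only [Finset.mem_insert, Finset.mem_singleton] at hem
    rcases hem with rfl | rfl | rfl | rfl | rfl | rfl <;> omega

/-- A prime with a Sylow number of one is absent in a simple group of composite order. -/
theorem card_sylow_ne_one [IsSimpleGroup G] {p : ℕ} [hp : Fact p.Prime] (h : p ∣ Nat.card G) (h2 : 2 ∣ Nat.card G)
    (hp2 : p ≠ 2) : Nat.card (Sylow p G) ≠ 1 := by
  intro h1
  haveI : Subsingleton (Sylow p G) := (Nat.card_eq_one_iff_unique.mp h1).1
  obtain ⟨P⟩ : Nonempty (Sylow p G) := Sylow.nonempty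
  have hc := P.card_eq_multiplicity
  rcases (Sylow.normal_of_subsingleton P).eq_bot_or_eq_top with e | e
  · rw [e, Subgroup.card_bot] at hc
    have := Nat.Prime.factorization_pos_of_dvd hp.out Nat.card_pos.ne' h
    rcases Nat.pow_eq_one.mp hc.symm with e1 | e1
    · exact hp.out.ne_one e1
    · omega
  · rw [e, Subgroup.card_top] at hc
    rw [hc] at h2
    exact hp2 ((Nat.prime_dvd_prime_iff_eq Nat.prime_two hp.out).mp (Nat.prime_two.dvd_of_dvd_pow h2)).symm

theorem Ctx.false (c : Ctx G) [IsSimpleGroup G] : False := by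
  classical
  obtain ⟨K, m, n, hG, hn, hK, hab, hC, u, hu, hu1, huN⟩ := c.exists_cc
  haveI := Fact.mk Nat.prime_two
  have hKodd : Odd (Nat.card K) := by
    rw [← Nat.not_even_iff_odd, even_iff_two_dvd]
    intro h2
    haveI := Fact.mk Nat.prime_three
    obtain ⟨⟨x, hx⟩, ho⟩ := exists_prime_orderOf_dvd_card' 2 h2
    obtain ⟨⟨y, hy⟩, hyo⟩ := exists_prime_orderOf_dvd_card' 3 (hK ▸ dvd_mul_right 3 m : 3 ∣ Nat.card K)
    rw [Subgroup.orderOf_mk] at ho hyo
    have hy1 : y = 1 := c.no_odd_cent (u := x) (by rw [← pow_two, ← ho, pow_orderOf_eq_one])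
      (fun e => by rw [e, orderOf_one] at ho; norm_num at ho) (hab x hx y hy) (by rw [hyo]; decide)
    rw [hy1, orderOf_one] at hyo
    norm_num at hyo
  obtain ⟨e, i, hedef, hcard, he, hi, hi0⟩ := cc_count hab hC
  have he2 : 2 ∣ e := by
    set N := Subgroup.normalizer (K : Set G)
    haveI : (K.subgroupOf N).Normal := Subgroup.normal_in_normalizer
    have hmk : orderOf (QuotientGroup.mk' (K.subgroupOf N) ⟨u, huN⟩) = 2 := by
      refine orderOf_eq_prime ?_ fun h => ?_
      · rw [← map_pow, show (⟨u, huN⟩ : N) ^ 2 = 1 from Subtype.ext (by rw [pow_two]; exact hu), map_one]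
      · have hk : u ∈ K := (QuotientGroup.eq_one_iff (N := K.subgroupOf N) ⟨u, huN⟩).mp h
        exact hu1 (CfsgA8C.eq_one_of_odd_sq hu (CfsgA8C.odd_orderOf hKodd hk))
    rw [hedef, ← hmk, Subgroup.index]
    exact _root_.orderOf_dvd_natCard _
  have hcases := cases_of_count hG hn (hK ▸ hKodd) (hK ▸ hcard) (hK ▸ he) he2 (hK ▸ hi) hi0
  rcases hcases with hg | hg
  · -- thirteen
    haveI := Fact.mk (show Nat.Prime 13 by norm_num)
    obtain ⟨P⟩ : Nonempty (Sylow 13 G) := Sylow.nonempty
    have hPc : Nat.card (P : Subgroup G) = 13 := by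
      rw [P.card_eq_multiplicity, hg, show (12480 : ℕ) = 13 * 960 by norm_num,
        Nat.factorization_mul (by norm_num) (by norm_num)]
      simp [Nat.Prime.factorization_self (show Nat.Prime 13 by norm_num),
        Nat.factorization_eq_zero_of_not_dvd (show ¬ 13 ∣ 960 by norm_num)]
    have hdvd : Nat.card (Sylow 13 G) ∣ 960 := by
      refine P.card_dvd_index.trans ?_
      have := (P : Subgroup G).card_mul_index
      rw [hPc, hg] at this
      rw [show (P : Subgroup G).index = 960 by omega]
    have hmod : Nat.card (Sylow 13 G) % 13 = 1 := card_sylow_modEq_one 13 G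
    have hne := card_sylow_ne_one (G := G) (p := 13) (by rw [hg]; norm_num) (by rw [hg]; norm_num) (by norm_num)
    have hle := Nat.le_of_dvd (by norm_num) hdvd
    have hidx : Nat.card (Sylow 13 G) = 40 := by
      obtain ⟨k, hk⟩ : ∃ k, Nat.card (Sylow 13 G) = 13 * k + 1 :=
        ⟨Nat.card (Sylow 13 G) / 13, by omega⟩
      rw [hk] at hdvd hne hle ⊢
      have hk' : k ≤ 73 := by omega
      interval_cases k <;> first | omega | norm_num at hdvd
    set N := Subgroup.normalizer ((P : Subgroup G) : Set G)
    have hN : Nat.card N = 312 := by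
      have h1 : N.index = 40 := hidx ▸ P.card_eq_index_normalizer.symm
      have := N.card_mul_index
      rw [h1, hg] at this
      omega
    set f := (P : Subgroup G).normalizerMonoidHom with hf
    haveI : IsCyclic (P : Subgroup G) := isCyclic_of_prime_card hPc
    have haut : Nat.card (MulAut (P : Subgroup G)) = 12 := by
      rw [IsCyclic.card_mulAut, hPc]; exact Nat.totient_prime (by norm_num)
    have hrange : Nat.card f.range ∣ 12 := haut ▸ Subgroup.card_subgroup_dvd_card _
    have hker : Odd (Nat.card f.ker) := by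
      rw [← Nat.not_even_iff_odd, even_iff_two_dvd]
      intro h2
      obtain ⟨⟨⟨x, hxN⟩, hxk⟩, ho⟩ := exists_prime_orderOf_dvd_card' 2 h2
      rw [Subgroup.orderOf_mk, Subgroup.orderOf_mk] at ho
      obtain ⟨⟨y, hy⟩, hyo⟩ := exists_prime_orderOf_dvd_card' 13 (dvd_of_eq hPc.symm)
      rw [Subgroup.orderOf_mk] at hyo
      have hc : x * y = y * x := by
        have h1 := congrArg Subtype.val (DFunLike.congr_fun (MonoidHom.mem_ker.mp hxk) ⟨y, hy⟩)
        exact mul_inv_eq_iff_eq_mul.mp h1
      have hy1 : y = 1 := c.no_odd_cent (u := x) (by rw [← pow_two, ← ho, pow_orderOf_eq_one])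
        (fun e => by rw [e, orderOf_one] at ho; norm_num at ho) hc (by rw [hyo]; decide)
      rw [hy1, orderOf_one] at hyo
      norm_num at hyo
    have hprod : Nat.card f.ker * Nat.card f.range = 312 := by
      rw [← Nat.card_congr (QuotientGroup.quotientKerEquivRange f).toEquiv, mul_comm,
        ← Subgroup.card_eq_card_quotient_mul_card_subgroup, hN]
    have h8 : 2 ^ 3 ∣ Nat.card f.range :=
      (Nat.Coprime.pow_left 3 (Nat.coprime_two_left.mpr hker)).dvd_of_dvd_mul_left (by rw [hprod]; norm_num)
    have := h8.trans hrange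
    norm_num at this
  · -- one hundred and seven
    haveI := Fact.mk (show Nat.Prime 107 by norm_num)
    obtain ⟨P⟩ : Nonempty (Sylow 107 G) := Sylow.nonempty
    have hPc : Nat.card (P : Subgroup G) = 107 := by
      rw [P.card_eq_multiplicity, hg, show (61632 : ℕ) = 107 * 576 by norm_num,
        Nat.factorization_mul (by norm_num) (by norm_num)]
      simp [Nat.Prime.factorization_self (show Nat.Prime 107 by norm_num),
        Nat.factorization_eq_zero_of_not_dvd (show ¬ 107 ∣ 576 by norm_num)]
    have hdvd : Nat.card (Sylow 107 G) ∣ 576 := by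
      refine P.card_dvd_index.trans ?_
      have := (P : Subgroup G).card_mul_index
      rw [hPc, hg] at this
      rw [show (P : Subgroup G).index = 576 by omega]
    have hmod : Nat.card (Sylow 107 G) % 107 = 1 := card_sylow_modEq_one 107 G
    have hne := card_sylow_ne_one (G := G) (p := 107) (by rw [hg]; norm_num) (by rw [hg]; norm_num) (by norm_num)
    have hle := Nat.le_of_dvd (by norm_num) hdvd
    have : Nat.card (Sylow 107 G) = 108 ∨ Nat.card (Sylow 107 G) = 215 ∨ Nat.card (Sylow 107 G) = 322 ∨
        Nat.card (Sylow 107 G) = 429 ∨ Nat.card (Sylow 107 G) = 536 := by omega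
    rcases this with h | h | h | h | h <;> rw [h] at hdvd <;> norm_num at hdvd

end Unitary

/-- No simple homogeneous group has a Sylow 2-subgroup of this type. -/
theorem unitaryType_false {G : Type u} [Group G] [Finite G] [IsSimpleGroup G]
    (h : Hom G) (S : Sylow 2 G) (h64 : Nat.card (S : Subgroup G) = 64)
    (hV : IsKleinFour (Subgroup.center (S : Subgroup G)))
    (hΩ : ∀ x : (S : Subgroup G), x * x = 1 → x ∈ Subgroup.center (S : Subgroup G))
    (hD : _root_.commutator (S : Subgroup G) = Subgroup.center (S : Subgroup G))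
    (hsq : ∀ x : (S : Subgroup G), x * x ∈ Subgroup.center (S : Subgroup G)) : False :=
  Unitary.Ctx.false ⟨S, h, h64, hV, hΩ, hD, hsq⟩

end CfsgLib.Homogeneous
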