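import Cfsg.Agent.Lib.Homogeneous.Basic
import Cfsg.Agent.Lib.Homogeneous.Local
import Cfsg.Agent.Lib.Wreathed

/-!
A homogeneous group does not have wreathed Sylow 2-subgroups.
-/

set_option autoImplicit false
set_option linter.unusedSectionVars false

namespace CfsgLib.Homogeneous

open Subgroup

universe u

local instance : Fact (Nat.Prime 2) := ⟨Nat.prime_two⟩

/-- The shear `(i, j) ↦ (i, j + h i)`. -/
def shear {N : ℕ} (h : ZMod N) (hh : h + h = 0) : (ZMod N × ZMod N) ≃+ (ZMod N × ZMod N) where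
  toFun p := (p.1, p.2 + h * p.1)
  invFun p := (p.1, p.2 + h * p.1)
  left_inv p := Prod.ext rfl (by
    show p.2 + h * p.1 + h * p.1 = p.2
    rw [add_assoc, ← add_mul, hh, zero_mul, add_zero])
  right_inv p := Prod.ext rfl (by
    show p.2 + h * p.1 + h * p.1 = p.2
    rw [add_assoc, ← add_mul, hh, zero_mul, add_zero])
  map_add' p q := Prod.ext rfl (by simp [mul_add, add_add_add_comm])

theorem Hom.not_wreathed {G : Type u} [Group G] [Finite G] (hG : Hom G) (S : Sylow 2 G)
    (hS : Cfsg.IsWreathed (S : Subgroup G)) : False := by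
  obtain ⟨n, hn, -, d, hdh⟩ := CfsgLib.Wr.exists_data hS
  set c : Multiplicative (ZMod (2 * d.h) × ZMod (2 * d.h)) →* G := (S : Subgroup G).subtype.comp d.coord with hc
  have hcinj : Function.Injective c :=
    (S : Subgroup G).subtype_injective.comp (CfsgLib.Wr.coord_injective d)
  set U : Subgroup G := c.range with hU
  have hUS : U ≤ (S : Subgroup G) := by rintro _ ⟨p, rfl⟩; exact (d.coord p).2
  let e : Multiplicative (ZMod (2 * d.h) × ZMod (2 * d.h)) ≃* ↥U := MonoidHom.ofInjective hcinj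
  have hzc : ∀ p : ZMod (2 * d.h) × ZMod (2 * d.h),
      (d.z : G) * c (Multiplicative.ofAdd p) * (d.z : G)⁻¹ = c (Multiplicative.ofAdd p.swap) := by
    rintro ⟨a, b⟩
    obtain ⟨i, rfl⟩ := ZMod.intCast_surjective a
    obtain ⟨j, rfl⟩ := ZMod.intCast_surjective b
    show (d.z : G) * (d.coord _ : ↥(S : Subgroup G)) * (d.z : G)⁻¹ = (d.coord _ : ↥(S : Subgroup G))
    rw [CfsgLib.Wr.coord_apply, ← Subgroup.coe_inv, ← Subgroup.coe_mul, ← Subgroup.coe_mul, CfsgLib.Wr.z_u,
      mul_inv_cancel_right, show Prod.swap ((i : ZMod (2 * d.h)), (j : ZMod (2 * d.h))) = ((j : ZMod (2 * d.h)), (i : ZMod (2 * d.h))) from rfl,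
      CfsgLib.Wr.coord_apply]
  have hSN : (S : Subgroup G) ≤ normalizer (U : Set G) := fun s hs => mem_normalizer_of_conj fun x hx => by
    obtain ⟨p, rfl⟩ := hx
    obtain ⟨i, j, h⟩ : ∃ i j, (⟨s, hs⟩ : ↥(S : Subgroup G)) = d.u i j ∨ (⟨s, hs⟩ : ↥(S : Subgroup G)) = d.v i j :=
      CfsgLib.Wr.cases_elem d _
    obtain ⟨a, b, hp⟩ : d.coord p ∈ d.U := CfsgLib.Wr.coord_range d ▸ ⟨p, rfl⟩
    have hmem : (⟨s, hs⟩ : ↥(S : Subgroup G)) * d.coord p * (⟨s, hs⟩ : ↥(S : Subgroup G))⁻¹ ∈ d.coord.range := by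
      rw [CfsgLib.Wr.coord_range, hp]
      rcases h with h | h <;> rw [h]
      · exact mul_mem (mul_mem (CfsgLib.Wr.u_mem d i j) (CfsgLib.Wr.u_mem d a b)) (inv_mem (CfsgLib.Wr.u_mem d i j))
      · rw [CfsgLib.Wr.conj_u_by_v]; exact CfsgLib.Wr.u_mem d b a
    obtain ⟨q, hq⟩ := hmem
    exact ⟨q, congrArg Subtype.val hq⟩
  -- two commuting involutions in the automizer
  let sw : ↥U ≃* ↥U := (e.symm.trans (AddEquiv.toMultiplicative AddEquiv.prodComm)).trans e
  have hsw : sw ∈ autz U := by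
    refine ⟨d.z, fun a => ?_⟩
    obtain ⟨p, rfl⟩ := e.surjective a
    show (d.z : G) * c p * (d.z : G)⁻¹ = ((e (AddEquiv.toMultiplicative AddEquiv.prodComm (e.symm (e p))) : ↥U) : G)
    rw [e.symm_apply_apply]
    exact hzc (Multiplicative.toAdd p)
  have hh : ((d.h : ZMod (2 * d.h))) + (d.h : ZMod (2 * d.h)) = 0 := by
    rw [← Nat.cast_add, ← two_mul, ZMod.natCast_self]
  have hh2 : (d.h : ZMod (2 * d.h)) * (d.h : ZMod (2 * d.h)) = 0 := by
    rw [← Nat.cast_mul, ZMod.natCast_eq_zero_iff, hdh]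
    refine mul_dvd_mul_right ?_ _
    exact dvd_pow_self 2 (by omega)
  let sh : ↥U ≃* ↥U := (e.symm.trans (AddEquiv.toMultiplicative (shear _ hh))).trans e
  let γ : ↥U ≃* ↥U := sw * (sh * sw * sh⁻¹)
  have hγ : γ ∈ autz U := mul_mem hsw ((hG.autz_normal U).conj_mem _ hsw sh)
  have hsh : ∀ p : ZMod (2 * d.h) × ZMod (2 * d.h),
      sh (e (Multiplicative.ofAdd p)) = e (Multiplicative.ofAdd (p.1, p.2 + d.h * p.1)) := fun p => by
    show e (AddEquiv.toMultiplicative (shear _ hh) (e.symm (e (Multiplicative.ofAdd p)))) = _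
    rw [e.symm_apply_apply]; rfl
  have hswp : ∀ p : ZMod (2 * d.h) × ZMod (2 * d.h),
      sw (e (Multiplicative.ofAdd p)) = e (Multiplicative.ofAdd p.swap) := fun p => by
    show e (AddEquiv.toMultiplicative AddEquiv.prodComm (e.symm (e (Multiplicative.ofAdd p)))) = _
    rw [e.symm_apply_apply]; rfl
  have hshi : sh⁻¹ = sh := MulEquiv.ext fun a => by
    show sh.symm a = sh a
    rw [MulEquiv.symm_apply_eq]
    obtain ⟨p, rfl⟩ := e.surjective a
    rw [show p = Multiplicative.ofAdd (Multiplicative.toAdd p) from rfl, hsh, hsh]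
    refine congrArg (fun q => e (Multiplicative.ofAdd q)) (Prod.ext rfl ?_)
    show _ = p.toAdd.2 + _ * p.toAdd.1 + _ * p.toAdd.1
    rw [add_assoc, ← add_mul, hh, zero_mul, add_zero]
  have hγp : ∀ i j : ZMod (2 * d.h),
      γ (e (Multiplicative.ofAdd (i, j))) = e (Multiplicative.ofAdd (i + d.h * j, j + d.h * i)) := fun i j => by
    show sw (sh (sw (sh⁻¹ (e (Multiplicative.ofAdd (i, j)))))) = _
    rw [hshi, hsh, hswp, hsh, hswp]
    simp only [Prod.fst_swap, Prod.snd_swap, Prod.swap_prod_mk, mul_add, ← mul_assoc, hh2, zero_mul, add_zero]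
  have hsw2 : sw * sw = 1 := MulEquiv.ext fun a => by
    obtain ⟨p, rfl⟩ := e.surjective a
    show sw (sw (e (Multiplicative.ofAdd p.toAdd))) = e p
    rw [hswp, hswp, Prod.swap_swap]
    rfl
  have hγ2 : γ * γ = 1 := MulEquiv.ext fun a => by
    obtain ⟨p, rfl⟩ := e.surjective a
    show γ (γ (e (Multiplicative.ofAdd (p.toAdd.1, p.toAdd.2)))) = e p
    rw [hγp, hγp]
    refine congrArg (fun q => e (Multiplicative.ofAdd q)) (Prod.ext ?_ ?_)
    · show p.toAdd.1 + _ * p.toAdd.2 + _ * (p.toAdd.2 + _ * p.toAdd.1) = p.toAdd.1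
      rw [mul_add, ← mul_assoc, hh2, zero_mul, add_zero, add_assoc, ← add_mul, hh, zero_mul, add_zero]
    · show p.toAdd.2 + _ * p.toAdd.1 + _ * (p.toAdd.1 + _ * p.toAdd.2) = p.toAdd.2
      rw [mul_add, ← mul_assoc, hh2, zero_mul, add_zero, add_assoc, ← add_mul, hh, zero_mul, add_zero]
  have hcomm : sw * γ = γ * sw := MulEquiv.ext fun a => by
    obtain ⟨p, rfl⟩ := e.surjective a
    show sw (γ (e (Multiplicative.ofAdd (p.toAdd.1, p.toAdd.2)))) =
      γ (sw (e (Multiplicative.ofAdd (p.toAdd.1, p.toAdd.2))))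
    rw [hγp, hswp, hswp, Prod.swap_prod_mk, Prod.swap_prod_mk, hγp]
  haveI : Fact (1 < 2 * d.h) := ⟨by have := d.h2; omega⟩
  have hne1 : γ ≠ 1 := fun h1 => by
    have h := e.injective ((hγp 1 0).symm.trans (DFunLike.congr_fun h1 _))
    have h2 : (d.h : ZMod (2 * d.h)) = 0 := by simpa using congrArg Prod.snd (Multiplicative.ofAdd.injective h)
    have := Nat.le_of_dvd (by have := d.h2; omega) ((ZMod.natCast_eq_zero_iff _ _).1 h2)
    have := d.h2
    omega
  have hne2 : γ ≠ sw := fun h1 => by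
    have h := e.injective ((hγp 1 0).symm.trans ((DFunLike.congr_fun h1 _).trans (hswp (1, 0))))
    have h2 : (1 : ZMod (2 * d.h)) = 0 := by simpa using congrArg Prod.fst (Multiplicative.ofAdd.injective h)
    exact one_ne_zero h2
  have hne3 : sw ≠ 1 := fun h1 => by
    have h := e.injective ((hswp (1, 0)).symm.trans (DFunLike.congr_fun h1 _))
    have h2 : (1 : ZMod (2 * d.h)) = 0 := by simpa using congrArg Prod.snd (Multiplicative.ofAdd.injective h)
    exact one_ne_zero h2
  set K : Subgroup (↥U ≃* ↥U) := zpowers sw ⊔ zpowers γ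
  have hK : IsPGroup 2 K := IsPGroup.to_sup_of_normal_right' (isPGroup_zpowers_of_pow ⟨1, by rw [pow_one, pow_two, hsw2]⟩)
    (isPGroup_zpowers_of_pow ⟨1, by rw [pow_one, pow_two, hγ2]⟩) (zpowers_le.2 (by
      refine mem_normalizer_of_conj fun x hx => ?_
      obtain ⟨k, rfl⟩ := hx
      rw [show sw * γ ^ k * sw⁻¹ = γ ^ k by
        rw [(Commute.zpow_right hcomm k).eq, mul_inv_cancel_right]]
      exact zpow_mem (mem_zpowers γ) k))
  have hKle : K ≤ autz U := sup_le (zpowers_le.2 hsw) (zpowers_le.2 hγ)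
  have h4 : 4 ∣ Nat.card K := by
    obtain ⟨k, hk⟩ := IsPGroup.iff_card.1 hK
    have h3 : 3 ≤ Nat.card K := by
      let f : Fin 3 → ↥K := ![1, ⟨sw, mem_sup_left (mem_zpowers _)⟩, ⟨γ, mem_sup_right (mem_zpowers _)⟩]
      have hf : Function.Injective f := by
        intro a b hab
        have := congrArg Subtype.val hab
        fin_cases a <;> fin_cases b <;> simp [f] at this ⊢ <;>
          first | exact hne1 this | exact hne1 this.symm | exact hne2 this | exact hne2 this.symm | exact hne3 this | exact hne3 this.symm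
      simpa using Nat.card_le_card_of_injective f hf
    rw [hk] at h3 ⊢
    have : 2 ≤ k := by
      by_contra hlt
      push Not at hlt
      interval_cases k <;> simp at h3
    exact pow_dvd_pow 2 this
  -- but the Sylow subgroup allows only two
  set φ := U.normalizerMonoidHom
  have hker : U.subgroupOf (normalizer (U : Set G)) ≤ φ.ker := fun x hx => by
    refine MulEquiv.ext fun a => Subtype.ext ?_
    obtain ⟨p, hp⟩ := mem_subgroupOf.1 hx
    obtain ⟨q, hq⟩ := a.2
    show (x : G) * a * (x : G)⁻¹ = a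
    rw [← hp, ← hq, ← map_inv, ← map_mul, ← map_mul, mul_comm p, mul_inv_cancel_right]
  have h1 : 4 * Nat.card U ∣ Nat.card G := by
    refine dvd_trans ?_ (card_subgroup_dvd_card (normalizer (U : Set G)))
    rw [← φ.ker.card_mul_index, index_ker, mul_comm (Nat.card φ.ker)]
    refine mul_dvd_mul (h4.trans ((card_dvd_of_le hKle).trans ?_)) ?_
    · rw [autz_eq_range]
    · rw [← Nat.card_congr (subgroupOfEquivOfLe (le_trans hUS hSN)).toEquiv]
      exact card_dvd_of_le hker
  have h2 : Nat.card U = (2 * d.h) * (2 * d.h) := by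
    rw [← Nat.card_congr e.toEquiv, Nat.card_congr Multiplicative.toAdd, Nat.card_prod, Nat.card_zmod]
  rw [h2, ← (S : Subgroup G).card_mul_index, d.hcard] at h1
  refine S.not_dvd_index ?_
  have hpos : 0 < 2 * (2 * d.h) * (2 * d.h) := by have := d.h2; positivity
  refine (Nat.mul_dvd_mul_iff_left hpos).1 (dvd_trans (dvd_of_eq ?_) h1)
  ring

end CfsgLib.Homogeneous
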