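import Cfsg.Agent.Lib.Homogeneous.AllCentral
import Cfsg.Agent.Lib.Homogeneous.RankThree
import Cfsg.Agent.Lib.Homogeneous.Models
import Cfsg.Agent.Lib.Homogeneous.Wreathed
import Cfsg.Agent.Lib.Homogeneous.UnitaryType
import Cfsg.Agent.Lib.UnitaryFourSylow
import Cfsg.Agent.S3099
import Cfsg.Agent.S0516
import Cfsg.Agent.S0483
import Cfsg.Agent.S0205

/-!
The possible perfect homogeneous groups.
-/

set_option autoImplicit false
set_option linter.unusedSectionVars false

namespace CfsgLib.Homogeneous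

open Subgroup

universe u

local instance : Fact (Nat.Prime 2) := ⟨Nat.prime_two⟩

variable {G : Type u} [Group G] [Finite G]

/-- A perfect homogeneous group has trivial odd core. -/
theorem Hom.oddCore_eq_bot (hG : Hom G) (hperf : commutator G = ⊤) : Cfsg.oddCore G = ⊥ := by
  set O := Cfsg.oddCore G with hO
  by_contra hne
  have hodd : Odd (Nat.card O) := CfsgLib.odd_card_oddCore
  haveI hOs : Group.IsSolvable ↥O := Cfsg.Agent.S0205.result hodd
  obtain ⟨n, hn⟩ := Group.IsSolvable.solvable (G := ↥O)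
  obtain ⟨k, hk, hk1⟩ : ∃ k, derivedSeries ↥O k ≠ ⊥ ∧ derivedSeries ↥O (k + 1) = ⊥ := by
    classical
    have hex : ∃ m, derivedSeries ↥O m = ⊥ := ⟨n, hn⟩
    refine ⟨Nat.find hex - 1, fun h => ?_, ?_⟩
    · have h0 : Nat.find hex ≠ 0 := fun h0 => by
        have h1 := Nat.find_spec hex
        rw [h0, derivedSeries_zero] at h1
        haveI : Nontrivial ↥O := (nontrivial_iff_ne_bot _).2 hne
        exact top_ne_bot h1
      have := Nat.find_min' hex h
      omega
    · have h0 : Nat.find hex ≠ 0 := fun h0 => by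
        have h1 := Nat.find_spec hex
        rw [h0, derivedSeries_zero] at h1
        haveI : Nontrivial ↥O := (nontrivial_iff_ne_bot _).2 hne
        exact top_ne_bot h1
      rw [show Nat.find hex - 1 + 1 = Nat.find hex by omega]
      exact Nat.find_spec hex
  set A := derivedSeries ↥O k with hA
  have hcomm : ∀ a ∈ A, ∀ b ∈ A, a * b = b * a := fun a ha b hb => by
    have h := commutator_mem_commutator ha hb
    rw [show ⁅A, A⁆ = ⊥ from hk1, mem_bot, commutatorElement_eq_one_iff_mul_comm] at h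
    exact h
  haveI hAc : A.Characteristic := derivedSeries_characteristic ↥O k
  set A' := A.map O.subtype with hA'
  haveI : A'.Normal := inferInstance
  haveI : Nontrivial ↥A := (nontrivial_iff_ne_bot _).2 hk
  obtain ⟨p, hp, hpd⟩ := Nat.exists_prime_and_dvd (Finite.one_lt_card (α := ↥A)).ne'
  haveI := Fact.mk hp
  have hp2 : p ≠ 2 := by
    rintro rfl
    exact (Nat.not_even_iff_odd.2 hodd) (even_iff_two_dvd.2 (hpd.trans (card_subgroup_dvd_card A)))
  obtain ⟨a, ha⟩ := exists_prime_orderOf_dvd_card' (G := ↥A) p hpd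
  let B : Subgroup G :=
    { carrier := {x | x ∈ A' ∧ x ^ p = 1}
      one_mem' := ⟨one_mem _, one_pow p⟩
      mul_mem' := fun {x y} ⟨hx, hx'⟩ ⟨hy, hy'⟩ => ⟨mul_mem hx hy, by
        obtain ⟨x₀, hx₀, rfl⟩ := hx
        obtain ⟨y₀, hy₀, rfl⟩ := hy
        rw [(show Commute (O.subtype x₀) (O.subtype y₀) from by
          show O.subtype x₀ * O.subtype y₀ = O.subtype y₀ * O.subtype x₀
          rw [← map_mul, ← map_mul, hcomm x₀ hx₀ y₀ hy₀]).mul_pow, hx', hy', one_mul]⟩
      inv_mem' := fun {x} ⟨hx, hx'⟩ => ⟨inv_mem hx, by rw [inv_pow, hx', inv_one]⟩ }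
  haveI : B.Normal := ⟨fun x ⟨hx, hx'⟩ g => ⟨(inferInstance : A'.Normal).conj_mem x hx g, by
    rw [conj_pow, hx', mul_one, mul_inv_cancel]⟩⟩
  have hBp : IsPGroup p B := fun x => ⟨1, Subtype.ext (by
    rw [pow_one, SubgroupClass.coe_pow]
    exact x.2.2)⟩
  have hB := CfsgLib.le_pCore hBp
  rw [hG.pCore_eq_bot hperf hp2] at hB
  have hmem : ((a : ↥O) : G) ∈ B := ⟨⟨(a : ↥O), a.2, rfl⟩, by
    have h := congrArg (fun z : ↥A => ((z : ↥O) : G)) (ha ▸ pow_orderOf_eq_one a : a ^ p = 1)
    simpa using h⟩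
  have h1 := mem_bot.1 (hB hmem)
  rw [← Subgroup.orderOf_coe, ← Subgroup.orderOf_coe, h1, orderOf_one] at ha
  exact hp.ne_one ha.symm

/-- A nontrivial perfect group has even order. -/
theorem two_dvd_card (hperf : commutator G = ⊤) [Nontrivial G] : 2 ∣ Nat.card G := by
  by_contra h
  haveI : Group.IsSolvable G := Cfsg.Agent.S0205.result (Nat.odd_iff.2 (by omega))
  obtain ⟨g, hg⟩ := exists_ne (1 : G)
  exact hg (perfect_solvable hperf (MonoidHom.id G) g)

/-- A perfect homogeneous group with a central involution is `SL(2,5)`. -/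
theorem Hom.of_central_involution (hG : Hom G) (hperf : commutator G = ⊤) {z : G} (hz : orderOf z = 2)
    (hzc : z ∈ center G) : ∃ (F : Type) (_ : Field F) (_ : Fintype F), Fintype.card F = 5 ∧
      Nonempty (G ≃* Matrix.SpecialLinearGroup (Fin 2) F) := by
  have hcen : ∀ x : G, x ^ 2 = 1 → x ∈ center G := fun x hx => by
    rcases eq_or_ne x 1 with rfl | hx1
    · exact one_mem _
    obtain ⟨φ, rfl⟩ := hG.exists_map (hz.trans (orderOf_eq_prime hx hx1).symm)
    exact (characteristic_iff_map_eq.1 inferInstance φ : (center G).map φ.toMonoidHom = center G).le ⟨z, hzc, rfl⟩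
  have h1 : Cfsg.PRankLE 2 1 G := fun A hA hA2 => by
    have : ∀ a : ↥A, a = 1 ∨ (a : G) = z := fun a => by
      rcases eq_or_ne a 1 with h | h
      · exact Or.inl h
      · exact Or.inr (hG.involution_unique hperf hcen
          (orderOf_eq_prime (hA2 a a.2) fun e => h (Subtype.ext e)) hz)
    rw [pow_one]
    classical
    refine le_trans (Nat.card_le_card_of_injective (fun a : ↥A => decide (a = 1)) fun a b hab => ?_)
      (by simp)
    rcases this a with ha | ha <;> rcases this b with hb | hb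
    · rw [ha, hb]
    · rw [ha] at hab ⊢
      simp only [decide_true, Bool.true_eq, decide_eq_true_eq] at hab
      exact hab.symm
    · rw [hb] at hab ⊢
      simp only [decide_true, decide_eq_true_eq] at hab
      exact hab
    · exact Subtype.ext (ha.trans hb.symm)
  have hO := hG.oddCore_eq_bot hperf
  let e₀ : G ⧸ Cfsg.oddCore G ≃* G := (QuotientGroup.quotientMulEquivOfEq hO).trans QuotientGroup.quotientBot
  haveI hP : Group.IsPerfect G := ⟨hperf⟩
  rcases Cfsg.Agent.S3099.result hP h1 (even_iff_two_dvd.2 (hz ▸ orderOf_dvd_natCard z)) with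
    ⟨F, hF, hFt, hodd, h3, ⟨e⟩⟩ | hcov
  · exact ⟨F, hF, hFt, hG.sl_card hperf hodd h3 (e₀.symm.trans e), ⟨e₀.symm.trans e⟩⟩
  · exact absurd hcov (hG.of_equiv e₀.symm).not_double_alt_seven

/-- A homogeneous nonabelian simple group is `PSL(2,5)` or `PSL(2,7)`, given the semidihedral case. -/
theorem Hom.simple_cases (hG : Hom G) [IsSimpleGroup G] (hperf : commutator G = ⊤)
    (hSD : ∀ S : Sylow 2 G, Cfsg.IsQuasiDihedral (S : Subgroup G) → False) :
    ∃ (F : Type) (_ : Field F) (_ : Fintype F), (Fintype.card F = 5 ∨ Fintype.card F = 7) ∧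
      Nonempty (G ≃* Matrix.ProjectiveSpecialLinearGroup (Fin 2) F) := by
  have hna : ¬ IsMulCommutative G := fun h => by
    obtain ⟨g, hg⟩ := exists_ne (1 : G)
    exact hg (perfect_comm hperf (MonoidHom.id G) (fun a b => h.is_comm.comm a b) g)
  have hZ : center G = ⊥ := (inferInstance : (center G).Normal).eq_bot_or_eq_top.resolve_right fun h =>
    hna ⟨⟨fun a b => mem_center_iff.1 (h ▸ mem_top b) a⟩⟩
  have hO := hG.oddCore_eq_bot hperf
  have hcen : ∀ x : G, orderOf x = 2 → x ∉ center G := fun x hx hxc => by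
    rw [hZ, mem_bot] at hxc
    rw [hxc, orderOf_one] at hx
    omega
  have h2 := hG.pRankLE_two hO hcen
  obtain ⟨S⟩ : Nonempty (Sylow 2 G) := inferInstance
  haveI : Fintype (GaloisField 2 4) := Fintype.ofFinite _
  have h16 : Fintype.card (GaloisField 2 4) = 16 := by
    rw [← Nat.card_eq_fintype_card, GaloisField.card 2 4 (by norm_num)]
    rfl
  obtain ⟨P⟩ : Nonempty (Sylow 2 (Cfsg.PSU 3 (GaloisField 2 4) 4)) := inferInstance
  rcases Cfsg.Agent.S0516.result hna h2 S h16 P with ⟨n, hn, hd⟩ | hq | hw | he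
  · haveI hP : Group.IsPerfect G := ⟨hperf⟩
    let e₀ : G ⧸ Cfsg.oddCore G ≃* G := (QuotientGroup.quotientMulEquivOfEq hO).trans QuotientGroup.quotientBot
    rcases Cfsg.Agent.S0483.result S n hn hd with ⟨F, hF, hFt, hodd, h3, ⟨f⟩⟩ | hf
    · exact ⟨F, hF, hFt, hG.psl_card hodd h3 (e₀.symm.trans f), ⟨e₀.symm.trans f⟩⟩
    · obtain ⟨f⟩ := hf
      exact hG.not_alt_seven.elim (e₀.symm.trans f)
  · exact (hSD S hq).elim
  · exact (hG.not_wreathed S hw).elim
  · exfalso
    obtain ⟨e⟩ := he
    haveI : Finite ↥(P : Subgroup (Cfsg.PSU 3 (GaloisField 2 4) 4)) := Finite.of_equiv _ e.toEquiv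
    obtain ⟨hc, hV, hcl, hD, -, hsq⟩ := CfsgLib.UnitaryFour.main h16 P
    have hmap : (center ↥(S : Subgroup G)).map e.toMonoidHom = center ↥(P : Subgroup (Cfsg.PSU 3 (GaloisField 2 4) 4)) := by
      ext x
      constructor
      · rintro ⟨a, ha, rfl⟩
        exact mem_center_iff.2 fun b => by
          rw [← e.apply_symm_apply b]
          show e _ * e a = e a * e _
          rw [← map_mul, ← map_mul, mem_center_iff.1 ha]
      · exact fun hx => ⟨e.symm x, mem_center_iff.2 fun b => e.injective (by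
          rw [map_mul, map_mul, e.apply_symm_apply, mem_center_iff.1 hx]), e.apply_symm_apply x⟩
    have hiff : ∀ x, x ∈ center ↥(S : Subgroup G) ↔ e x ∈ center ↥(P : Subgroup (Cfsg.PSU 3 (GaloisField 2 4) 4)) := fun x => by
      rw [← hmap]
      exact (mem_map_iff_mem (f := e.toMonoidHom) e.injective).symm
    refine unitaryType_false hG S ((Nat.card_congr e.toEquiv).trans hc) ?_ (fun x hx => ?_) ?_ fun x => ?_
    · let eZ : ↥(center ↥(S : Subgroup G)) ≃* ↥(center ↥(P : Subgroup (Cfsg.PSU 3 (GaloisField 2 4) 4))) :=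
        ((center ↥(S : Subgroup G)).equivMapOfInjective e.toMonoidHom e.injective).trans
          (MulEquiv.subgroupCongr hmap)
      exact ⟨(Nat.card_congr eZ.toEquiv).trans hV.card_four, (Monoid.exponent_eq_of_mulEquiv eZ).trans hV.exponent_two⟩
    · rw [hiff]
      rcases eq_or_ne x 1 with rfl | hx1
      · rw [map_one]; exact one_mem _
      · rw [hcl]
        exact subset_closure (show orderOf (e x) = 2 by
          rw [e.orderOf_eq]; exact orderOf_eq_prime (by rw [pow_two, hx]) hx1)
    · refine map_injective (f := e.toMonoidHom) e.injective ?_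
      rw [hmap, _root_.commutator_def, Subgroup.map_commutator, Subgroup.map_top_of_surjective _ e.surjective,
        ← _root_.commutator_def, ← hD]
    · rw [hiff, map_mul]
      have h := hsq (e x : ↥(P : Subgroup (Cfsg.PSU 3 (GaloisField 2 4) 4)))
      rw [pow_two, ← QuotientGroup.mk_mul, QuotientGroup.eq_one_iff] at h
      exact h

/-- The central cases of a homogeneous quasisimple group. -/
theorem Hom.quasisimple_cases (hG : Hom G) (hq : Cfsg.IsQuasisimple G)
    (hSD : IsSimpleGroup G → ∀ S : Sylow 2 G, Cfsg.IsQuasiDihedral (S : Subgroup G) → False) :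
    (¬ IsSimpleGroup G → ∃ (F : Type) (_ : Field F) (_ : Fintype F), Fintype.card F = 5 ∧
      Nonempty (G ≃* Matrix.SpecialLinearGroup (Fin 2) F)) ∧
    (IsSimpleGroup G → ∃ (F : Type) (_ : Field F) (_ : Fintype F), (Fintype.card F = 5 ∨ Fintype.card F = 7) ∧
      Nonempty (G ≃* Matrix.ProjectiveSpecialLinearGroup (Fin 2) F)) := by
  obtain ⟨hP, hs⟩ := hq
  have hperf : commutator G = ⊤ := hP.1
  refine ⟨fun hns => ?_, fun hsim => by haveI := hsim; exact hG.simple_cases hperf (hSD hsim)⟩
  have hne : center G ≠ ⊥ := fun h => hns (((QuotientGroup.quotientMulEquivOfEq h).trans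
    QuotientGroup.quotientBot).isSimpleGroup_congr.1 hs)
  haveI : Nontrivial ↥(center G) := (nontrivial_iff_ne_bot _).2 hne
  obtain ⟨p, hp, hpd⟩ := Nat.exists_prime_and_dvd (Finite.one_lt_card (α := ↥(center G))).ne'
  haveI := Fact.mk hp
  obtain ⟨a, ha⟩ := exists_prime_orderOf_dvd_card' (G := ↥(center G)) p hpd
  rw [← Subgroup.orderOf_coe] at ha
  obtain rfl : p = 2 := by
    by_contra hp2
    haveI : (zpowers (a : G)).Normal := ⟨fun x hx g => by
      obtain ⟨k, rfl⟩ := hx
      rw [mem_center_iff.1 (zpow_mem a.2 k) g, mul_inv_cancel_right]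
      exact zpow_mem (mem_zpowers _) k⟩
    have hB := CfsgLib.le_pCore (N := zpowers (a : G))
      (isPGroup_zpowers_of_pow (p := p) ⟨1, by rw [pow_one, ← ha, pow_orderOf_eq_one]⟩)
    rw [hG.pCore_eq_bot hperf hp2] at hB
    have h1 := mem_bot.1 (hB (mem_zpowers (a : G)))
    rw [h1, orderOf_one] at ha
    exact hp.ne_one ha.symm
  exact hG.of_central_involution hperf ha a.2

end CfsgLib.Homogeneous
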