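import Mathlib

/-!
An anisotropic quadratic map between elementary abelian 2-groups: the source has order at most the square of
the order of the target.
-/

set_option autoImplicit false

namespace CfsgLib.Homogeneous

open Finset

universe u v

variable {W : Type u} {Z : Type v} [AddCommGroup W] [AddCommGroup Z] [Finite W] [Finite Z]

theorem sq_char_sum (q : W → Z) (hbil : ∀ a x y, q (x + y + a) + q a + q x + q y = q (x + a) + q (y + a) + q (x + y))
    (hW : ∀ w : W, w + w = 0) (h0 : q 0 = 0) [Fintype W] (ε : W → ℤ) (ψ : AddChar Z ℂ)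
    (hε : ∀ w, ψ (q w) = (ε w : ℂ)) (h2 : ∀ w, ε w * ε w = 1) :
    (Fintype.card W : ℤ) ∣ (∑ w, ε w) ^ 2 := by
  have key : ∀ a, (Fintype.card W : ℤ) ∣ ∑ x, ε x * ε (x + a) := by
    intro a
    set c : W → ℤ := fun x => ε x * ε (x + a) * ε a with hc
    have hmul : ∀ x y, c (x + y) = c x * c y := by
      intro x y
      have h := congrArg ψ (hbil a x y)
      simp only [AddChar.map_add_eq_mul, hε] at h
      have h' : ε (x + y + a) * ε a * ε x * ε y = ε (x + a) * ε (y + a) * ε (x + y) := by exact_mod_cast h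
      simp only [hc]
      linear_combination (ε x * ε y * ε (x + y)) * h' - (ε (x + y) * ε (x + y + a) * ε a) * h2 x * 1
        + (- ε (x + y) * ε (x + y + a) * ε a * ε x * ε x) * (h2 y) + (ε (x + a) * ε (y + a) * ε x * ε y) * h2 (x + y)
        - (ε x * ε (x + a) * ε y * ε (y + a)) * h2 a
    have hsum : ∑ x, ε x * ε (x + a) = ε a * ∑ x, c x := by
      rw [Finset.mul_sum]
      refine Finset.sum_congr rfl fun x _ => ?_
      simp only [hc]
      linear_combination (-(ε x * ε (x + a))) * h2 a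
    rw [hsum]
    refine dvd_mul_of_dvd_right ?_ _
    by_cases hall : ∀ x, c x = 1
    · simp [hall]
    · push Not at hall
      obtain ⟨b, hb⟩ := hall
      have : (c b - 1) * ∑ x, c x = 0 := by
        rw [sub_mul, one_mul, Finset.mul_sum, sub_eq_zero]
        exact Fintype.sum_equiv (Equiv.addLeft b) _ _ fun x => (hmul b x).symm
      rcases mul_eq_zero.1 this with h | h
      · exact absurd (sub_eq_zero.1 h) hb
      · rw [h]; exact dvd_zero _
  have hsq : (∑ w, ε w) ^ 2 = ∑ a, ∑ x, ε x * ε (x + a) := by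
    rw [sq, Finset.sum_mul_sum, Finset.sum_comm (γ := W)]
    conv_rhs => rw [Finset.sum_comm]
    rw [Finset.sum_comm]
    exact Finset.sum_congr rfl fun x _ => (Fintype.sum_equiv (Equiv.addLeft x) _ _ fun a => rfl).symm
  rw [hsq]
  exact Finset.dvd_sum fun a _ => key a

/-- The bound of Chevalley and Warning for quadratic maps. -/
theorem card_le_sq (q : W → Z) (hbil : ∀ a x y, q (x + y + a) + q a + q x + q y = q (x + a) + q (y + a) + q (x + y))
    (hW : ∀ w : W, w + w = 0) (hZ : ∀ z : Z, z + z = 0) (h0 : q 0 = 0) (han : ∀ w, q w = 0 → w = 0)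
    {k m : ℕ} (hk : Nat.card Z = 2 ^ k) (hm : Nat.card W = 2 ^ m) : m ≤ 2 * k := by
  classical
  by_contra hc
  push Not at hc
  haveI := Fintype.ofFinite W
  haveI := Fintype.ofFinite Z
  have hpm : ∀ (ψ : AddChar Z ℂ) (z : Z), ψ z = 1 ∨ ψ z = -1 := fun ψ z => by
    have : ψ z * ψ z = 1 := by rw [← AddChar.map_add_eq_mul, hZ, AddChar.map_zero_eq_one]
    exact mul_self_eq_one_iff.1 this
  let ε : AddChar Z ℂ → W → ℤ := fun ψ w => if ψ (q w) = 1 then 1 else -1
  have hε : ∀ ψ w, ψ (q w) = (ε ψ w : ℂ) := fun ψ w => by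
    rcases hpm ψ (q w) with h | h <;> simp only [ε, h] <;> norm_num
  have hε2 : ∀ ψ w, ε ψ w * ε ψ w = 1 := fun ψ w => by simp only [ε]; split <;> norm_num
  have htot : ∑ ψ : AddChar Z ℂ, ∑ w, ε ψ w = (2 ^ k : ℤ) := by
    apply Int.cast_injective (α := ℂ)
    push_cast
    simp only [← hε]
    rw [Finset.sum_comm, Finset.sum_eq_single (0 : W)]
    · simp only [h0, AddChar.map_zero_eq_one, Finset.sum_const, Finset.card_univ, nsmul_eq_mul, mul_one]
      rw [AddChar.card_eq, ← Nat.card_eq_fintype_card, hk]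
      push_cast; rfl
    · intro w _ hw
      rw [AddChar.sum_apply_eq_ite, if_neg fun e => hw (han w e)]
    · simp
  have hdvd : ∀ ψ, (2 ^ (k + 1) : ℤ) ∣ ∑ w, ε ψ w := by
    intro ψ
    have h := sq_char_sum q hbil hW h0 (ε ψ) ψ (hε ψ) (hε2 ψ)
    rw [← Nat.card_eq_fintype_card, hm] at h
    have h' : ((2 ^ (2 * k + 1) : ℕ) : ℤ) ∣ (∑ w, ε ψ w) ^ 2 :=
      (Int.natCast_dvd_natCast.2 (pow_dvd_pow 2 hc)).trans h
    rw [← Int.natAbs_dvd_natAbs] at h'
    rw [← Int.natAbs_dvd_natAbs]
    simp only [Int.natAbs_natCast, Int.natAbs_pow] at h' ⊢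
    rcases Nat.eq_zero_or_pos (∑ w, ε ψ w).natAbs with h1 | h1
    · rw [h1]; exact dvd_zero _
    · rw [Nat.Prime.pow_dvd_iff_le_factorization Nat.prime_two (pow_ne_zero 2 h1.ne'), Nat.factorization_pow] at h'
      refine (Nat.Prime.pow_dvd_iff_le_factorization Nat.prime_two h1.ne').2 ?_
      simp only [Finsupp.coe_smul, Pi.smul_apply, smul_eq_mul] at h'
      change k + 1 ≤ _
      omega
  have := Finset.dvd_sum (s := (Finset.univ : Finset (AddChar Z ℂ))) fun ψ _ => hdvd ψ
  rw [htot] at this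
  have h3 := Int.le_of_dvd (by positivity) this
  rw [pow_succ] at h3
  have : (0 : ℤ) < 2 ^ k := by positivity
  omega

end CfsgLib.Homogeneous
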