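import Cfsg.Agent.Lib.Homogeneous.Elem
import Cfsg.Agent.Lib.Homogeneous.Quad
import Cfsg.Agent.Lib.Elementary
import Cfsg.Agent.Lib.RankFrattini

/-!
Central automorphisms `x ↦ x f(x)` of a `p`-subgroup `P`, with values in a central elementary subgroup `E`:
their commutators with the automizer of `P` lie in the automizer, and there are few inner ones.
-/

set_option autoImplicit false

namespace CfsgLib.Homogeneous

open Subgroup Module
open scoped IsMulCommutative commutatorElement

universe u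

variable {G : Type u} [Group G]

/-- A `p`-subgroup with a central elementary subgroup. -/
structure Frame (p : ℕ) (P E : Subgroup G) : Prop where
  pgroup : IsPGroup p P
  le : E ≤ P
  comm : ∀ e ∈ E, ∀ x ∈ P, x * e = e * x
  exp : ∀ e ∈ E, e ^ p = 1

namespace Frame

variable {p : ℕ} {P E : Subgroup G}

theorem isMulCommutative (h : Frame p P E) : IsMulCommutative ↥E :=
  ⟨⟨fun a b => Subtype.ext (h.comm b b.2 a (h.le a.2))⟩⟩

/-- The kernel of all homomorphisms to `E` trivial on `E`. -/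
def rad (P E : Subgroup G) : Subgroup ↥P := frattini ↥P ⊔ E.subgroupOf P

theorem mem_rad_of_mem {x : ↥P} (hx : (x : G) ∈ E) : x ∈ rad P E := mem_sup_right hx

variable [Finite G] [Fact p.Prime] (h : Frame p P E)

include h

theorem commutator_mem_rad (a b : ↥P) : ⁅a, b⁆ ∈ rad P E :=
  mem_sup_left (CfsgLib.commutator_le_frattini_pGroup h.pgroup
    (commutator_mem_commutator (mem_top a) (mem_top b)))

theorem pow_mem_rad (a : ↥P) : a ^ p ∈ rad P E := mem_sup_left (CfsgLib.pow_mem_frattini_pGroup h.pgroup a)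

theorem rad_normal : (rad P E).Normal :=
  ⟨fun n hn g => by
    rw [show g * n * g⁻¹ = ⁅g, n⁆ * n by rw [commutatorElement_def]; group]
    exact mul_mem (h.commutator_mem_rad g n) hn⟩

end Frame

section Space

variable (p : ℕ) (P E : Subgroup G) [(Frame.rad P E).Normal] [IsMulCommutative (↥P ⧸ Frame.rad P E)]

/-- The vector space `P/R`. -/
abbrev DSp : Type u := Additive (↥P ⧸ Frame.rad P E)

variable [IsMulCommutative ↥E] [Module (ZMod p) (DSp P E)] [Module (ZMod p) (Additive ↥E)]

/-- The element of `E` attached to `x`. -/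
def hval (f : DSp P E →ₗ[ZMod p] Additive ↥E) (x : ↥P) : ↥E :=
  Additive.toMul (f (Additive.ofMul (x : ↥P ⧸ Frame.rad P E)))

variable {p P E}
variable (f g : DSp P E →ₗ[ZMod p] Additive ↥E)

theorem hval_mul (x y : ↥P) : hval p P E f (x * y) = hval p P E f x * hval p P E f y := by
  unfold hval
  rw [QuotientGroup.mk_mul, ofMul_mul, map_add, toMul_add]

theorem hval_inv (x : ↥P) : hval p P E f x⁻¹ = (hval p P E f x)⁻¹ := by
  refine eq_inv_of_mul_eq_one_left ?_
  rw [← hval_mul, inv_mul_cancel]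
  unfold hval
  rw [QuotientGroup.mk_one, ofMul_one, map_zero, toMul_zero]

theorem hval_of_mem_rad {x : ↥P} (hx : x ∈ Frame.rad P E) : hval p P E f x = 1 := by
  unfold hval
  rw [(QuotientGroup.eq_one_iff x).2 hx, ofMul_one, map_zero, toMul_zero]

theorem hval_add (x : ↥P) : hval p P E (f + g) x = hval p P E f x * hval p P E g x := rfl

theorem hval_zero (x : ↥P) : hval p P E (0 : DSp P E →ₗ[ZMod p] Additive ↥E) x = 1 := rfl

theorem eq_of_hval (hfg : ∀ x, hval p P E f x = hval p P E g x) : f = g := by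
  apply LinearMap.ext
  intro z
  obtain ⟨x, hx⟩ := QuotientGroup.mk_surjective (Additive.toMul z)
  have := congrArg Additive.ofMul (hfg x)
  unfold hval at this
  rw [hx] at this
  exact this

/-- `f` is induced by conjugation by some element of `P`. -/
def Inner : Prop :=
  ∃ t : ↥P, ∀ x : ↥P, (t : G) * x * (t : G)⁻¹ = x * hval p P E f x

theorem inner_zero : Inner (0 : DSp P E →ₗ[ZMod p] Additive ↥E) :=
  ⟨1, fun x => by rw [hval_zero, OneMemClass.coe_one, inv_one, OneMemClass.coe_one]; group⟩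

variable {f g}

theorem Inner.add (h : Frame p P E) (hf : Inner f) (hg : Inner g) : Inner (f + g) := by
  obtain ⟨s, hs⟩ := hf
  obtain ⟨t, ht⟩ := hg
  refine ⟨s * t, fun x => ?_⟩
  rw [Subgroup.coe_mul]
  calc (s : G) * t * x * ((s : G) * t)⁻¹ = (s : G) * (t * x * (t : G)⁻¹) * (s : G)⁻¹ := by group
    _ = ((s : G) * x * (s : G)⁻¹) * ((s : G) * hval p P E g x * (s : G)⁻¹) := by rw [ht]; group
    _ = x * hval p P E f x * hval p P E g x := by
      rw [hs, h.comm _ (hval p P E g x).2 _ s.2, mul_inv_cancel_right]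
    _ = _ := by rw [hval_add, Subgroup.coe_mul, mul_assoc]

/-- The inner maps form a subspace. -/
def innerSub [NeZero p] (h : Frame p P E) : Submodule (ZMod p) (DSp P E →ₗ[ZMod p] Additive ↥E) where
  carrier := {f | Inner f}
  add_mem' := Inner.add h
  zero_mem' := inner_zero
  smul_mem' c f hf := by
    show Inner (c • f)
    have hn : ∀ n : ℕ, Inner (n • f) := fun n => by
      induction n with
      | zero => rw [zero_smul]; exact inner_zero
      | succ n ih => rw [succ_nsmul]; exact ih.add h hf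
    rw [← ZMod.natCast_rightInverse c, Nat.cast_smul_eq_nsmul]
    exact hn _

/-- The automorphism `x ↦ x f(x)`. -/
def cAut (h : Frame p P E) (f : DSp P E →ₗ[ZMod p] Additive ↥E) : ↥P ≃* ↥P where
  toFun x := x * ⟨hval p P E f x, h.le (hval p P E f x).2⟩
  invFun x := x * ⟨(hval p P E f x : G)⁻¹, inv_mem (h.le (hval p P E f x).2)⟩
  left_inv x := by
    apply Subtype.ext
    have e : hval p P E f (x * ⟨hval p P E f x, h.le (hval p P E f x).2⟩) = hval p P E f x := by
      rw [hval_mul, hval_of_mem_rad f (Frame.mem_rad_of_mem (x := ⟨_, h.le (hval p P E f x).2⟩) (hval p P E f x).2), mul_one]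
    simp only [Subgroup.coe_mul, e, mul_inv_cancel_right]
  right_inv x := by
    apply Subtype.ext
    have e : hval p P E f (x * ⟨(hval p P E f x : G)⁻¹, inv_mem (h.le (hval p P E f x).2)⟩) = hval p P E f x := by
      rw [hval_mul, hval_of_mem_rad f (Frame.mem_rad_of_mem (x := ⟨_, inv_mem (h.le (hval p P E f x).2)⟩) (inv_mem (hval p P E f x).2)), mul_one]
    simp only [Subgroup.coe_mul, e, inv_mul_cancel_right]
  map_mul' x y := by
    apply Subtype.ext
    simp only [hval_mul, Subgroup.coe_mul]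
    rw [← mul_assoc, mul_assoc (x : G) (y : G), h.comm _ (hval p P E f x).2 _ y.2]
    group

theorem cAut_apply (h : Frame p P E) (f : DSp P E →ₗ[ZMod p] Additive ↥E) (x : ↥P) :
    (cAut h f x : G) = x * hval p P E f x := rfl

theorem cAut_add (h : Frame p P E) (f g : DSp P E →ₗ[ZMod p] Additive ↥E) :
    cAut h (f + g) = cAut h f * cAut h g := by
  refine MulEquiv.ext fun x => Subtype.ext ?_
  rw [MulAut.mul_apply, cAut_apply, cAut_apply, hval_add, Subgroup.coe_mul]
  have e : hval p P E f (cAut h g x) = hval p P E f x := by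
    rw [show cAut h g x = x * ⟨hval p P E g x, h.le (hval p P E g x).2⟩ from rfl, hval_mul,
      hval_of_mem_rad f (Frame.mem_rad_of_mem (x := ⟨_, h.le (hval p P E g x).2⟩) (hval p P E g x).2), mul_one]
  rw [e, cAut_apply, ← mul_assoc, mul_assoc (x : G), mul_assoc (x : G)]
  congr 1
  exact congrArg Subtype.val (mul_comm' (hval p P E f x) (hval p P E g x))

theorem cAut_zero (h : Frame p P E) : cAut h (0 : DSp P E →ₗ[ZMod p] Additive ↥E) = 1 :=
  MulEquiv.ext fun x => Subtype.ext (by rw [cAut_apply, hval_zero, OneMemClass.coe_one, mul_one]; rfl)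

theorem cAut_nsmul (h : Frame p P E) (f : DSp P E →ₗ[ZMod p] Additive ↥E) (n : ℕ) :
    cAut h (n • f) = cAut h f ^ n := by
  induction n with
  | zero => rw [zero_smul, cAut_zero, pow_zero]
  | succ n ih => rw [succ_nsmul, cAut_add, ih, pow_succ]

theorem rad_map [Finite G] {α : ↥P ≃* ↥P} (hαE : ∀ x : ↥P, (x : G) ∈ E → (α x : G) ∈ E) :
    (Frame.rad P E).map α.toMonoidHom = Frame.rad P E := by
  refine eq_of_le_of_card_ge (map_le_iff_le_comap.2 (sup_le ?_ fun x hx => ?_)) (card_map_of_injective α.injective).ge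
  · refine le_trans ?_ (comap_mono (f := α.toMonoidHom) le_sup_left)
    exact le_of_eq (characteristic_iff_comap_eq.1 inferInstance α).symm
  · exact mem_comap.2 (Frame.mem_rad_of_mem (hαE x hx))

section Act

variable [Finite G] {α : ↥P ≃* ↥P} (hαE : ∀ x : ↥P, (x : G) ∈ E → (α x : G) ∈ E)
include hαE

/-- The action on `P/R`. -/
def aD : DSp P E ≃ₗ[ZMod p] DSp P E :=
  (MulEquiv.toAdditive (QuotientGroup.congr _ _ α (rad_map hαE))).toLinearEquiv
    fun c x => ZMod.map_smul (MulEquiv.toAdditive (QuotientGroup.congr _ _ α (rad_map hαE))).toAddMonoidHom c x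

theorem aD_apply (x : ↥P) :
    aD (p := p) hαE (Additive.ofMul (x : ↥P ⧸ Frame.rad P E)) = Additive.ofMul (α x : ↥P ⧸ Frame.rad P E) := rfl

theorem exists_aE (h : Frame p P E) : ∃ β : ↥E ≃* ↥E, ∀ e : ↥E, (β e : G) = α ⟨e, h.le e.2⟩ := by
  let β : ↥E →* ↥E :=
    { toFun := fun e => ⟨α ⟨e, h.le e.2⟩, hαE _ e.2⟩
      map_one' := Subtype.ext (by
        show (α ⟨((1 : ↥E) : G), _⟩ : G) = ((1 : ↥E) : G)
        rw [show (⟨((1 : ↥E) : G), h.le (1 : ↥E).2⟩ : ↥P) = 1 from rfl, map_one]; rfl)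
      map_mul' := fun a b => Subtype.ext (by
        show (α ⟨((a * b : ↥E) : G), _⟩ : G) = (α ⟨a, _⟩ : G) * α ⟨b, _⟩
        rw [← Subgroup.coe_mul, ← map_mul]; rfl) }
  have hb : Function.Bijective β := by
    refine Finite.injective_iff_bijective.1 fun a b hab => ?_
    have hab' : (α ⟨a, h.le a.2⟩ : G) = α ⟨b, h.le b.2⟩ := congrArg (fun z : ↥E => (z : G)) hab
    have := α.injective (Subtype.ext hab')
    exact Subtype.ext (congrArg (fun z : ↥P => (z : G)) this)
  exact ⟨MulEquiv.ofBijective β hb, fun e => rfl⟩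

/-- The action on `E`. -/
noncomputable def aE (h : Frame p P E) : Additive ↥E ≃ₗ[ZMod p] Additive ↥E :=
  toLin p E (exists_aE hαE h).choose

theorem aE_apply (h : Frame p P E) (e : ↥E) :
    ((Additive.toMul (aE hαE h (Additive.ofMul e)) : ↥E) : G) = α ⟨e, h.le e.2⟩ :=
  (exists_aE hαE h).choose_spec e

/-- The conjugate map. -/
noncomputable def conjMap (h : Frame p P E) (f : DSp P E →ₗ[ZMod p] Additive ↥E) :
    DSp P E →ₗ[ZMod p] Additive ↥E :=
  (aE hαE h).toLinearMap ∘ₗ f ∘ₗ (aD (p := p) hαE).symm.toLinearMap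

theorem hval_conjMap (h : Frame p P E) (f : DSp P E →ₗ[ZMod p] Additive ↥E) (x : ↥P) :
    (hval p P E (conjMap hαE h f) (α x) : G) = α ⟨hval p P E f x, h.le (hval p P E f x).2⟩ := by
  rw [← aE_apply hαE h (hval p P E f x)]
  have e : (aD (p := p) hαE).symm (Additive.ofMul (α x : ↥P ⧸ Frame.rad P E)) =
      Additive.ofMul (x : ↥P ⧸ Frame.rad P E) := by
    rw [← aD_apply (p := p) hαE x, LinearEquiv.symm_apply_apply]
  unfold hval conjMap
  simp only [LinearMap.comp_apply, LinearEquiv.coe_coe, e]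
  rfl

theorem cAut_conjMap (h : Frame p P E) (f : DSp P E →ₗ[ZMod p] Additive ↥E) :
    cAut h (conjMap hαE h f) = α * cAut h f * α⁻¹ := by
  refine MulEquiv.ext fun x => Subtype.ext ?_
  obtain ⟨y, rfl⟩ := α.surjective x
  rw [MulAut.mul_apply, MulAut.mul_apply, MulAut.inv_apply_self, cAut_apply, hval_conjMap,
    show cAut h f y = y * ⟨hval p P E f y, h.le (hval p P E f y).2⟩ from rfl, map_mul, Subgroup.coe_mul]

end Act

variable [Finite G] [Fact p.Prime]

/-- A central automorphism in the automizer is inner when `P` catches the p-elements inducing it. -/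
theorem inner_of_mem_autz (h : Frame p P E) (hmax : ∀ g : G, g ∈ normalizer (P : Set G) →
      g ∈ centralizer (E : Set G) → (∃ k : ℕ, g ^ p ^ k = 1) → g ∈ P)
    {f : DSp P E →ₗ[ZMod p] Additive ↥E} (hf : cAut h f ∈ autz P) : Inner f := by
  have hp : p.Prime := Fact.out
  obtain ⟨g, hg⟩ := hf
  obtain ⟨a, m, hm, hgm⟩ := Nat.exists_eq_pow_mul_and_not_dvd (orderOf_pos g).ne' p hp.ne_one
  have hcop : Nat.Coprime p m := hp.coprime_iff_not_dvd.2 hm
  obtain ⟨j, hj⟩ : ∃ j : ℕ, (m * j : ZMod p) = 1 := by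
    refine ⟨((m : ZMod p)⁻¹).val, ?_⟩
    rw [ZMod.natCast_rightInverse, mul_inv_cancel₀]
    rwa [ne_eq, ZMod.natCast_eq_zero_iff]
  set e := m * j
  have hcj : cAut h f = cAut h f ^ e := by
    conv_lhs => rw [← one_smul (ZMod p) f, ← hj, ← Nat.cast_mul, Nat.cast_smul_eq_nsmul, cAut_nsmul]
  have hind : ∀ (n : ℕ) (x : ↥P), g ^ n * x * (g ^ n)⁻¹ = ((cAut h f ^ n) x : G) := by
    intro n
    induction n with
    | zero => intro x; simp
    | succ n ih =>
      intro x
      rw [pow_succ (cAut h f), MulAut.mul_apply, ← ih, ← hg, pow_succ]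
      group
  have hge : ∀ x : ↥P, g ^ e * x * (g ^ e)⁻¹ = x * hval p P E f x := fun x => by
    rw [hind, ← hcj, cAut_apply]
  have hmem : g ^ e ∈ P := by
    refine hmax _ (mem_normalizer_of_autz (α := cAut h f ^ e) (hind e)) (fun y hy => ?_) ⟨a, ?_⟩
    · have := hge ⟨y, h.le hy⟩
      rw [hval_of_mem_rad f (Frame.mem_rad_of_mem (x := ⟨y, h.le hy⟩) hy), OneMemClass.coe_one, mul_one,
        mul_inv_eq_iff_eq_mul] at this
      exact this.symm
    · rw [← pow_mul, show e * p ^ a = orderOf g * j by rw [hgm]; ring, pow_mul, pow_orderOf_eq_one, one_pow]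
  exact ⟨⟨g ^ e, hmem⟩, hge⟩

/-- Commutators of central automorphisms with the automizer give inner maps. -/
theorem inner_commutator (hG : Hom G) (h : Frame p P E) (hmax : ∀ g : G, g ∈ normalizer (P : Set G) →
      g ∈ centralizer (E : Set G) → (∃ k : ℕ, g ^ p ^ k = 1) → g ∈ P)
    {α : ↥P ≃* ↥P} (hα : α ∈ autz P) (hαE : ∀ x : ↥P, (x : G) ∈ E → (α x : G) ∈ E)
    (f : DSp P E →ₗ[ZMod p] Additive ↥E) : Inner (conjMap hαE h f - f) := by
  refine inner_of_mem_autz h hmax ?_
  have e : cAut h (conjMap hαE h f - f) = α * (cAut h f * α⁻¹ * (cAut h f)⁻¹) := by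
    have h1 : cAut h (conjMap hαE h f - f) * cAut h f = α * cAut h f * α⁻¹ := by
      rw [← cAut_add, sub_add_cancel, cAut_conjMap]
    rw [eq_mul_inv_of_mul_eq h1]
    group
  rw [e]
  exact mul_mem hα ((hG.autz_normal P).conj_mem _ (inv_mem hα) _)

end Space

end CfsgLib.Homogeneous
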