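import Cfsg.Agent.Lib.Homogeneous.Central
import Cfsg.Agent.Lib.CentralizeOmega

/-!
There are few inner central automorphisms.
-/

set_option autoImplicit false
set_option linter.unusedSectionVars false

namespace CfsgLib.Homogeneous

open Subgroup Module
open scoped IsMulCommutative

universe u

variable {G : Type u} [Group G] [Finite G] {p : ℕ} [hp : Fact p.Prime] {P E : Subgroup G}
  [(Frame.rad P E).Normal] [IsMulCommutative (↥P ⧸ Frame.rad P E)] [IsMulCommutative ↥E]
  [Module (ZMod p) (DSp P E)] [Module (ZMod p) (Additive ↥E)]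

/-- The element inducing an inner map. -/
noncomputable def innerElt {h : Frame p P E} (f : innerSub (p := p) h) : ↥P := f.2.choose

theorem innerElt_spec {h : Frame p P E} (f : innerSub (p := p) h) (x : ↥P) :
    (innerElt f : G) * x * (innerElt f : G)⁻¹ = x * hval p P E f.1 x := f.2.choose_spec x

theorem innerElt_pow {h : Frame p P E} (f : innerSub (p := p) h) (x : ↥P) :
    ∀ n : ℕ, ((innerElt f : G) ^ n) * x * ((innerElt f : G) ^ n)⁻¹ = x * (hval p P E f.1 x : G) ^ n := by
  intro n
  induction n with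
  | zero => simp
  | succ n ih =>
    calc (innerElt f : G) ^ (n + 1) * x * ((innerElt f : G) ^ (n + 1))⁻¹ =
        (innerElt f : G) * ((innerElt f : G) ^ n * x * ((innerElt f : G) ^ n)⁻¹) * (innerElt f : G)⁻¹ := by
          rw [pow_succ']; group
      _ = ((innerElt f : G) * x * (innerElt f : G)⁻¹) *
          ((innerElt f : G) * (hval p P E f.1 x : G) ^ n * (innerElt f : G)⁻¹) := by rw [ih]; group
      _ = _ := by
        rw [innerElt_spec, h.comm _ (pow_mem (hval p P E f.1 x).2 n) _ (innerElt f).2, mul_inv_cancel_right,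
          mul_assoc, ← pow_succ']

/-- Maps with elements in one coset of the centre are equal. -/
theorem innerSub_ext {h : Frame p P E} {f g : innerSub (p := p) h}
    (hfg : (innerElt f)⁻¹ * innerElt g ∈ center ↥P) : f = g := by
  refine Subtype.ext (eq_of_hval _ _ fun x => Subtype.ext ?_)
  have h1 := innerElt_spec f x
  have h2 := innerElt_spec g x
  have h3 : (innerElt g : G) * x * (innerElt g : G)⁻¹ = (innerElt f : G) * x * (innerElt f : G)⁻¹ := by
    have e := congrArg Subtype.val (mem_center_iff.1 hfg x)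
    simp only [Subgroup.coe_mul, Subgroup.coe_inv] at e
    calc (innerElt g : G) * x * (innerElt g : G)⁻¹ =
        (innerElt f : G) * ((innerElt f : G)⁻¹ * innerElt g * x) * (innerElt g : G)⁻¹ := by group
      _ = (innerElt f : G) * (x * ((innerElt f : G)⁻¹ * innerElt g)) * (innerElt g : G)⁻¹ := by rw [e]
      _ = _ := by group
  rw [h1, h2] at h3
  exact (mul_left_cancel h3).symm

/-- The inner maps are no more than the cosets of a central subgroup. -/
theorem innerSub_card_le (h : Frame p P E) (Zs : Subgroup ↥P) (hZ : Zs ≤ center ↥P) :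
    Nat.card (innerSub (p := p) h) ≤ Zs.index := by
  refine le_trans ?_ (Nat.le_of_dvd (Nat.pos_of_ne_zero Subgroup.index_ne_zero_of_finite) (index_dvd_of_le hZ))
  rw [Subgroup.index_eq_card]
  refine Nat.card_le_card_of_injective (fun f => (innerElt f : ↥P ⧸ center ↥P)) fun f g hfg => ?_
  exact innerSub_ext (QuotientGroup.eq.1 hfg)

section Power

/-- The class of the `p`-th power. -/
abbrev PQ (p : ℕ) (P : Subgroup G) := ↥(center ↥P) ⧸ (powMonoidHom p : ↥(center ↥P) →* ↥(center ↥P)).range

theorem card_PQ (h : Frame p P E) (hΩ : ∀ x ∈ P, x ^ p = 1 → x ∈ E) : Nat.card (PQ p P) = Nat.card ↥E := by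
  rw [← Subgroup.index_eq_card, Subgroup.index_range]
  refine Nat.card_congr
    { toFun := fun z => ⟨((z : ↥(center ↥P)) : ↥P), hΩ _ ((z : ↥(center ↥P)) : ↥P).2 ?_⟩
      invFun := fun e => ⟨⟨⟨e, h.le e.2⟩, mem_center_iff.2 fun x => Subtype.ext (h.comm e e.2 x x.2)⟩, ?_⟩
      left_inv := fun z => rfl
      right_inv := fun e => rfl }
  · have := z.2
    rw [MonoidHom.mem_ker, powMonoidHom_apply] at this
    exact congrArg (fun w : ↥(center ↥P) => ((w : ↥P) : G)) this
  · rw [MonoidHom.mem_ker, powMonoidHom_apply]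
    exact Subtype.ext (Subtype.ext (h.exp e e.2))

theorem mk_pow_p (w : ↥(center ↥P)) : (QuotientGroup.mk (w ^ p) : PQ p P) = 1 :=
  (QuotientGroup.eq_one_iff (w ^ p)).2 (MonoidHom.mem_range.2 ⟨w, rfl⟩)

theorem innerElt_pow_mem_center {h : Frame p P E} (f : innerSub (p := p) h) :
    innerElt f ^ p ∈ center ↥P := by
  refine mem_center_iff.2 fun x => Subtype.ext ?_
  have h1 := innerElt_pow f x p
  rw [h.exp _ (hval p P E f.1 x).2, mul_one, mul_inv_eq_iff_eq_mul] at h1
  simp only [Subgroup.coe_mul, SubgroupClass.coe_pow]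
  exact h1.symm

/-- The class of the power of the inducing element. -/
noncomputable def qmap {h : Frame p P E} (f : innerSub (p := p) h) : PQ p P :=
  QuotientGroup.mk ⟨innerElt f ^ p, innerElt_pow_mem_center f⟩

theorem qmap_eq_one {h : Frame p P E} (hΩ : ∀ x ∈ P, x ^ p = 1 → x ∈ E) {f : innerSub (p := p) h}
    (hq : qmap f = 1) : f = 0 := by
  obtain ⟨z, hz⟩ := (QuotientGroup.eq_one_iff _).1 hq
  rw [powMonoidHom_apply] at hz
  have hz' : (z : ↥P) ^ p = innerElt f ^ p := congrArg Subtype.val hz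
  have hc : innerElt f ∈ center ↥P := by
    have he : innerElt f * (z : ↥P)⁻¹ ∈ center ↥P := by
      have hm : ((innerElt f * (z : ↥P)⁻¹ : ↥P) : G) ∈ E := by
        refine hΩ _ (innerElt f * (z : ↥P)⁻¹).2 ?_
        rw [← SubgroupClass.coe_pow,
          (show Commute (innerElt f) (z : ↥P)⁻¹ from (mem_center_iff.1 (inv_mem z.2) _)).mul_pow, inv_pow, hz',
          mul_inv_cancel]
        rfl
      exact mem_center_iff.2 fun x => Subtype.ext (h.comm _ hm x x.2)
    have := mul_mem he z.2
    rwa [inv_mul_cancel_right] at this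
  refine Subtype.ext (eq_of_hval _ _ fun x => Subtype.ext ?_)
  have h1 := innerElt_spec f x
  rw [show (innerElt f : G) * x = x * innerElt f from (congrArg Subtype.val (mem_center_iff.1 hc x)).symm,
    mul_inv_cancel_right, left_eq_mul] at h1
  exact h1

/-- The quadratic identity. -/
theorem qmap_add {h : Frame p P E} (f g : innerSub (p := p) h) :
    ∃ c : ↥(center ↥P), ((c : ↥P) : G) = (hval p P E f.1 (innerElt g) : G) ∧
      qmap (f + g) = qmap f * qmap g * QuotientGroup.mk (c⁻¹ ^ (p * (p - 1) / 2)) := by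
  set s := innerElt f
  set t := innerElt g
  set u := innerElt (f + g)
  set v : ↥P := ⟨hval p P E f.1 t, h.le (hval p P E f.1 t).2⟩ with hv
  have hvc : v ∈ center ↥P := mem_center_iff.2 fun x => Subtype.ext (h.comm _ (hval p P E f.1 t).2 x x.2)
  refine ⟨⟨v, hvc⟩, rfl, ?_⟩
  have hu : (s * t)⁻¹ * u ∈ center ↥P := by
    refine mem_center_iff.2 fun x => ?_
    have e2 : (s * t) * x * (s * t)⁻¹ = u * x * u⁻¹ := by
      refine Subtype.ext ?_
      simp only [Subgroup.coe_mul, Subgroup.coe_inv]
      rw [innerElt_spec (f + g) x, show ((f + g : innerSub (p := p) h) : DSp P E →ₗ[ZMod p] Additive ↥E) = f.1 + g.1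
        from rfl, hval_add, Subgroup.coe_mul]
      calc (s : G) * t * x * ((s : G) * t)⁻¹ = (s : G) * (t * x * (t : G)⁻¹) * (s : G)⁻¹ := by group
        _ = ((s : G) * x * (s : G)⁻¹) * ((s : G) * hval p P E g.1 x * (s : G)⁻¹) := by
          rw [innerElt_spec g x]; group
        _ = x * hval p P E f.1 x * hval p P E g.1 x := by
          rw [innerElt_spec, h.comm _ (hval p P E g.1 x).2 _ s.2, mul_inv_cancel_right]
        _ = _ := by group
    calc x * ((s * t)⁻¹ * u) = (s * t)⁻¹ * ((s * t) * x * (s * t)⁻¹) * u := by group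
      _ = (s * t)⁻¹ * (u * x * u⁻¹) * u := by rw [e2]
      _ = _ := by group
  obtain ⟨w, hw⟩ : ∃ w : ↥(center ↥P), (w : ↥P) = (s * t)⁻¹ * u := ⟨⟨_, hu⟩, rfl⟩
  have hst : t * s = v⁻¹ * (s * t) := by
    have e1 : s * t * s⁻¹ = t * v := Subtype.ext (innerElt_spec f t)
    have e2 : s * t = t * v * s := by rw [← e1, inv_mul_cancel_right]
    rw [e2, mem_center_iff.1 hvc t]
    group
  have hp' := CfsgLib.mul_pow_central hst (mem_center_iff.1 (inv_mem hvc) s).symm
    (mem_center_iff.1 (inv_mem hvc) t).symm p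
  have hu' : u = s * t * (w : ↥P) := by rw [hw]; group
  have hcomm : Commute (s * t) (w : ↥P) := mem_center_iff.1 w.2 (s * t)
  have hcv : (v⁻¹ : ↥P) ^ (p * (p - 1) / 2) ∈ center ↥P := pow_mem (inv_mem hvc) _
  have key : (⟨u ^ p, innerElt_pow_mem_center (f + g)⟩ : ↥(center ↥P)) =
      (⟨s ^ p, innerElt_pow_mem_center f⟩ : ↥(center ↥P)) * ⟨t ^ p, innerElt_pow_mem_center g⟩ *
        (⟨v, hvc⟩ : ↥(center ↥P))⁻¹ ^ (p * (p - 1) / 2) * w ^ p := by
    refine Subtype.ext ?_
    show u ^ p = s ^ p * t ^ p * v⁻¹ ^ (p * (p - 1) / 2) * (w : ↥P) ^ p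
    rw [hu', hcomm.mul_pow, hp']
    exact congrArg (· * (w : ↥P) ^ p) (mem_center_iff.1 hcv (s ^ p * t ^ p)).symm
  show QuotientGroup.mk _ = _
  rw [key, QuotientGroup.mk_mul, mk_pow_p w, mul_one]
  rfl

/-- For odd `p` there are at most as many inner maps as elements of `E`. -/
theorem innerSub_card_le_odd (h : Frame p P E) (hΩ : ∀ x ∈ P, x ^ p = 1 → x ∈ E) (hp2 : p ≠ 2) :
    Nat.card (innerSub (p := p) h) ≤ Nat.card ↥E := by
  rw [← card_PQ h hΩ]
  have hz : ∀ f g : innerSub (p := p) h, qmap (f + g) = qmap f * qmap g := by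
    intro f g
    obtain ⟨c, hc, e⟩ := qmap_add f g
    obtain ⟨k, hk⟩ := hp.out.odd_of_ne_two hp2
    rw [e, show p * (p - 1) / 2 = p * k by
      rw [show p - 1 = 2 * k by omega, mul_left_comm, Nat.mul_div_cancel_left _ two_pos], pow_mul]
    rw [QuotientGroup.mk_pow, mk_pow_p, one_pow, mul_one]
  refine Nat.card_le_card_of_injective qmap fun f g hfg => ?_
  have h1 := hz (f - g) g
  rw [(sub_add_cancel f g : f - g + g = f), hfg] at h1
  exact sub_eq_zero.1 (qmap_eq_one hΩ (right_eq_mul.1 h1))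

set_option maxHeartbeats 400000 in
/-- For `p = 2` there are at most as many as pairs of elements of `E`. -/
theorem innerSub_finrank_le_two (h : Frame p P E) (hΩ : ∀ x ∈ P, x ^ p = 1 → x ∈ E) (hp2 : p = 2) :
    finrank (ZMod p) (innerSub (p := p) h) ≤ 2 * finrank (ZMod p) (Additive ↥E) := by
  subst hp2
  haveI : Finite (DSp P E) := inferInstanceAs (Finite (↥P ⧸ Frame.rad P E))
  haveI : Finite (Additive ↥E) := inferInstanceAs (Finite ↥E)
  haveI : Finite (DSp P E →ₗ[ZMod 2] Additive ↥E) := DFunLike.finite _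
  let q : innerSub (p := 2) h → Additive (PQ 2 P) := fun f => Additive.ofMul (qmap f)
  have h2 : ∀ z : Additive (PQ 2 P), z + z = 0 := fun z => by
    obtain ⟨w, hw⟩ := QuotientGroup.mk_surjective (Additive.toMul z)
    refine congrArg Additive.ofMul ?_
    rw [← sq, ← hw, ← QuotientGroup.mk_pow, mk_pow_p]
  have hW : ∀ w : innerSub (p := 2) h, w + w = 0 := fun w => by
    rw [← two_smul (ZMod 2) w, show (2 : ZMod 2) = 0 from rfl, zero_smul]
  choose c hc hadd using fun f g : innerSub (p := 2) h => qmap_add f g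
  let β : innerSub (p := 2) h → innerSub (p := 2) h → Additive (PQ 2 P) := fun f g =>
    Additive.ofMul (QuotientGroup.mk (c f g)⁻¹)
  have hq : ∀ f g, q (f + g) = q f + q g + β f g := fun f g => by
    show Additive.ofMul (qmap (f + g)) = _
    rw [hadd f g, show 2 * (2 - 1) / 2 = 1 from rfl, pow_one]
    rfl
  have hβl : ∀ f f' g, β (f + f') g = β f g + β f' g := fun f f' g => by
    have e : c (f + f') g = c f g * c f' g := by
      refine Subtype.ext (Subtype.ext ?_)
      simp only [Subgroup.coe_mul]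
      rw [hc, hc, hc, ← Subgroup.coe_mul]
      rfl
    show Additive.ofMul (QuotientGroup.mk (c (f + f') g)⁻¹) = _
    rw [e, _root_.mul_inv, QuotientGroup.mk_mul, ofMul_mul]
  have hbil : ∀ a x y, q (x + y + a) + q a + q x + q y = q (x + a) + q (y + a) + q (x + y) := by
    intro a x y
    rw [hq (x + y) a, hq x a, hq y a, hβl, hq x y]
    abel
  have h0 : q 0 = 0 := by
    have h1 := hq 0 0
    rw [add_zero] at h1
    have h3 : β 0 0 = 0 := by
      have := hβl 0 0 0
      rw [add_zero, left_eq_add] at this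
      exact this
    rw [h3, add_zero, left_eq_add] at h1
    exact h1
  have han : ∀ w, q w = 0 → w = 0 := fun w hw => qmap_eq_one hΩ (ofMul_eq_zero.1 hw)
  have hk : Nat.card (Additive (PQ 2 P)) = 2 ^ finrank (ZMod 2) (Additive ↥E) := by
    rw [Nat.card_congr (Additive.toMul : Additive (PQ 2 P) ≃ PQ 2 P), card_PQ h hΩ]
    exact card_eq (p := 2) (E := E)
  have hm : Nat.card (innerSub (p := 2) h) = 2 ^ finrank (ZMod 2) (innerSub (p := 2) h) := by
    rw [Module.natCard_eq_pow_finrank (K := ZMod 2), Nat.card_zmod]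
  clear_value q
  have r := @card_le_sq (innerSub (p := 2) h) (Additive (PQ 2 P)) inferInstance inferInstance inferInstance inferInstance q hbil hW h2 h0 han _ _ hk hm
  exact r

end Power

end CfsgLib.Homogeneous
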