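import Mathlib

/-!
Normal subgroups of `GL(V)`: irreducibility, commutants and transvections.
-/

set_option autoImplicit false

namespace CfsgLib.Homogeneous.Lin

open Module

universe u v

variable {F : Type u} [Field F] {V : Type v} [AddCommGroup V] [Module F V]

local notation "GL'" => (V ≃ₗ[F] V)
local notation "tv" => LinearEquiv.transvection

/-- A functional with prescribed values on an independent family. -/
theorem exists_dual {ι : Type*} {v : ι → V} (hv : LinearIndependent F v) (c : ι → F) :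
    ∃ f : Dual F V, ∀ i, f (v i) = c i := by
  obtain ⟨f, hf⟩ := ((Basis.span hv).constr F c).exists_extend
  refine ⟨f, fun i => ?_⟩
  have h := LinearMap.congr_fun hf (Basis.span hv i)
  rw [LinearMap.comp_apply, Basis.constr_basis, Submodule.subtype_apply, Basis.span_apply] at h
  exact h

theorem conj_tv (g : GL') {f : Dual F V} {v : V} (h : f v = 0) :
    g * tv h * g⁻¹ =
      tv (show (f ∘ₗ (g⁻¹ : GL').toLinearMap) (g v) = 0 from
        (congrArg f (g.symm_apply_apply v)).trans h) := by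
  apply LinearEquiv.ext
  intro x
  simp only [LinearEquiv.mul_apply, LinearEquiv.transvection.apply, map_add, map_smul, LinearMap.comp_apply]
  rw [show g ((g⁻¹ : GL') x) = x from g.apply_symm_apply x]
  rfl

theorem tv_inv_apply {f : Dual F V} {v : V} (h : f v = 0) (x : V) : (tv h)⁻¹ x = x - f x • v := by
  rw [LinearEquiv.transvection.inv_eq h (by rw [map_neg, h, neg_zero]), LinearEquiv.transvection.apply, smul_neg, sub_eq_add_neg]

/-- A map commuting with every transvection is scalar. -/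
theorem scalar_of_comm_tv (φ : V →ₗ[F] V)
    (h : ∀ (f : Dual F V) (v : V) (hv : f v = 0) (x : V), φ (tv hv x) = tv hv (φ x)) :
    ∀ x, ¬ LinearIndependent F ![x, φ x] := by
  intro x hli
  obtain ⟨f, hf⟩ := exists_dual hli ![0, 1]
  have h0 : f x = 0 := hf 0
  have h1 : f (φ x) = 1 := hf 1
  have h2 := h f x h0 x
  rw [LinearEquiv.transvection.apply, LinearEquiv.transvection.apply, h0, h1, zero_smul, add_zero,
    one_smul] at h2
  exact hli.ne_zero 0 (by simpa using h2)

theorem scalar_of_lines (φ : V →ₗ[F] V) (h : ∀ x, ¬ LinearIndependent F ![x, φ x]) :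
    ∃ a : F, ∀ x, φ x = a • x := by
  obtain ⟨a, ha⟩ := LinearMap.exists_eq_smul_id_of_forall_notLinearIndependent h
  exact ⟨a, fun x => by rw [ha]; rfl⟩

/-- Scalar linear automorphisms. -/
def IsScalar (g : GL') : Prop := ∃ a : F, ∀ x, g x = a • x

theorem exists_li {g : GL'} (hg : ¬ IsScalar g) : ∃ x, LinearIndependent F ![x, g x] := by
  by_contra h
  push Not at h
  exact hg (scalar_of_lines (g : V →ₗ[F] V) h)

/-- A normal subgroup containing a non-scalar element is irreducible. -/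
theorem irreducible {N : Subgroup GL'} [hN : N.Normal] {g : GL'} (hgN : g ∈ N) (hg : ¬ IsScalar g)
    (W : Submodule F V) (hW : ∀ n ∈ N, ∀ w ∈ W, n w ∈ W) : W = ⊥ ∨ W = ⊤ := by
  by_contra hc
  push Not at hc
  obtain ⟨w, hwW, hw0⟩ := W.exists_mem_ne_zero_of_ne_bot hc.1
  obtain ⟨x, hxW⟩ : ∃ x, x ∉ W := by
    by_contra h; push Not at h; exact hc.2 (eq_top_iff.2 fun z _ => h z)
  have hconj : ∀ (h : GL') (n : GL'), n ∈ N → ∀ z, h z ∈ W → h (n z) ∈ W := by
    intro h n hn z hz
    have := hW _ (hN.conj_mem n hn h) (h z) hz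
    simpa [LinearEquiv.mul_apply] using this
  -- every line inside `W` is invariant
  have hline : ∀ w ∈ W, w ≠ 0 → ∀ n ∈ N, ¬ LinearIndependent F ![w, n w] := by
    intro w hwW hw0 n hn hli
    have hy : n w ∈ W := hW n hn w hwW
    have hxsp : x ∉ Submodule.span F (Set.range ![w, n w]) := fun h =>
      hxW (Submodule.span_le.2 (by rintro _ ⟨i, rfl⟩; fin_cases i <;> assumption) h)
    have h3 : LinearIndependent F (Fin.cons x ![w, n w] : Fin 3 → V) :=
      linearIndependent_finCons.mpr ⟨hli, hxsp⟩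
    obtain ⟨f, hf⟩ := exists_dual h3 ![1, 0, 1]
    have fx : f x = 1 := hf 0
    have fw : f w = 0 := hf 1
    have fy : f (n w) = 1 := hf 2
    have hv : f (x - n w) = 0 := by rw [map_sub, fx, fy, sub_self]
    have h1 : tv hv (n w) = x := by rw [LinearEquiv.transvection.apply, fy, one_smul, add_sub_cancel]
    exact hxW (h1 ▸ hconj (tv hv) n hn w (by rw [LinearEquiv.transvection.apply, fw, zero_smul, add_zero]; exact hwW))
  obtain ⟨z, hz⟩ := exists_li hg
  have hz0 : z ≠ 0 := hz.ne_zero 0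
  by_cases hzW : z ∈ W
  · exact hline z hzW hz0 g hgN hz
  · -- move `z` to `w`
    have hli2 : LinearIndependent F ![z, w] := by
      refine linearIndependent_fin2.2 ⟨hw0, fun a ha => hzW ?_⟩
      have e : a • w = z := ha
      exact e ▸ W.smul_mem a hwW
    obtain ⟨f, hf⟩ := exists_dual hli2 ![1, 1]
    have fz : f z = 1 := hf 0
    have fw : f w = 1 := hf 1
    have hv : f (w - z) = 0 := by rw [map_sub, fz, fw, sub_self]
    set h := tv hv
    have hhz : h z = w := by simp [h, LinearMap.transvection.apply, fz]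
    refine hline w hwW hw0 (h * g * h⁻¹) (hN.conj_mem g hgN h) ?_
    have e : (h * g * h⁻¹) w = h (g z) := by
      rw [LinearEquiv.mul_apply, LinearEquiv.mul_apply, ← hhz]
      congr 2
      exact h.symm_apply_apply z
    rw [e, ← hhz]
    have := hz.map' (h : V →ₗ[F] V) h.ker
    have e2 : ((h : V →ₗ[F] V) ∘ ![z, g z]) = ![h z, h (g z)] := by
      ext i; fin_cases i <;> rfl
    rwa [e2] at this

/-- In dimension at least three only scalars commute with a non-scalar normal subgroup. -/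
theorem commutant [FiniteDimensional F V] (hd : 3 ≤ finrank F V) {N : Subgroup GL'} [hN : N.Normal]
    {g : GL'} (hgN : g ∈ N) (hg : ¬ IsScalar g) (φ : V →ₗ[F] V) (hφ : ∀ n ∈ N, ∀ x, φ (n x) = n (φ x)) :
    ∃ a : F, ∀ x, φ x = a • x := by
  refine scalar_of_lines φ (scalar_of_comm_tv φ fun f v hv x => ?_)
  set τ : GL' := tv hv with hτ
  let ψ : V →ₗ[F] V := (τ : V →ₗ[F] V) ∘ₗ φ ∘ₗ ((τ⁻¹ : GL') : V →ₗ[F] V) - φ
  have hψ : ∀ n ∈ N, ∀ y, ψ (n y) = n (ψ y) := by
    intro n hn y
    have h1 : (τ⁻¹ * n * τ⁻¹⁻¹) ∈ N := hN.conj_mem n hn τ⁻¹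
    have h2 := hφ _ h1 ((τ⁻¹ : GL') y)
    simp only [LinearEquiv.mul_apply, inv_inv] at h2
    have e : τ ((τ⁻¹ : GL') y) = y := τ.apply_symm_apply y
    rw [e] at h2
    simp only [ψ, LinearMap.sub_apply, LinearMap.comp_apply, LinearEquiv.coe_coe, hφ n hn, map_sub, h2]
    congr 1
    exact τ.apply_symm_apply _
  have hrange : LinearMap.range ψ ≤ Submodule.span F {v, φ v} := by
    rintro _ ⟨y, rfl⟩
    simp only [ψ, LinearMap.sub_apply, LinearMap.comp_apply, LinearEquiv.coe_coe, hτ, tv_inv_apply,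
      LinearEquiv.transvection.apply, map_sub, map_smul]
    rw [show φ y + f (φ y) • v - f y • (φ v + f (φ v) • v) - φ y
      = (f (φ y) - f y * f (φ v)) • v + (- f y) • φ v by module]
    exact Submodule.mem_span_pair.2 ⟨_, _, rfl⟩
  rcases irreducible hgN hg (LinearMap.range ψ) (fun n hn w hw => by
      obtain ⟨y, rfl⟩ := hw; exact ⟨n y, hψ n hn y⟩) with h | h
  · have h0 : ψ (τ x) = 0 := by rw [LinearMap.range_eq_bot.1 h]; rfl
    simp only [ψ, LinearMap.sub_apply, LinearMap.comp_apply, LinearEquiv.coe_coe, sub_eq_zero] at h0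
    rw [show (τ⁻¹ : GL') (τ x) = x from τ.symm_apply_apply x] at h0
    exact h0.symm
  · exfalso
    have h2 := Submodule.finrank_mono hrange
    rw [h, finrank_top] at h2
    classical
    have h3 := finrank_span_finset_le_card (R := F) ({v, φ v} : Finset V)
    have h4 : ({v, φ v} : Finset V).card ≤ 2 := Finset.card_le_two
    simp only [Finset.coe_insert, Finset.coe_singleton] at h3
    rw [Set.finrank] at h3
    omega

/-- In dimension two the maps commuting with a non-scalar map commute with one another. -/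
theorem comm_of_two [FiniteDimensional F V] (hd : finrank F V = 2) {φ a b : V →ₗ[F] V}
    (hφ : ¬ ∃ c : F, ∀ x, φ x = c • x) (ha : ∀ x, φ (a x) = a (φ x)) (hb : ∀ x, φ (b x) = b (φ x)) (x : V) :
    a (b x) = b (a x) := by
  obtain ⟨z, hz⟩ : ∃ z, LinearIndependent F ![z, φ z] := by
    by_contra h; push Not at h; exact hφ (scalar_of_lines φ h)
  let B := basisOfLinearIndependentOfCardEqFinrank hz (by simp [hd])
  have key : ∀ c : V →ₗ[F] V, (∀ x, φ (c x) = c (φ x)) → ∃ r s : F, ∀ x, c x = r • x + s • φ x := by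
    intro c hc
    refine ⟨B.repr (c z) 0, B.repr (c z) 1, ?_⟩
    have h1 : c z = B.repr (c z) 0 • z + B.repr (c z) 1 • φ z := by
      conv_lhs => rw [← B.sum_repr (c z)]
      simp [B, Fin.sum_univ_two]
    set r := B.repr (c z) 0
    set s := B.repr (c z) 1
    have h2 : c (φ z) = r • φ z + s • φ (φ z) := by rw [← hc, h1, map_add, map_smul, map_smul]
    have e : c = r • LinearMap.id + s • φ := by
      apply B.ext
      intro i
      fin_cases i <;> simp [B, h1, h2]
    intro x
    conv_lhs => rw [e]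
    simp
  obtain ⟨r, s, hr⟩ := key a ha
  obtain ⟨r', s', hr'⟩ := key b hb
  simp only [hr, hr', map_add, map_smul, smul_add, smul_smul]
  module

/-- A normal subgroup whose elements fix pointwise every line they stabilize is trivial. -/
theorem eq_bot_of_lines {N : Subgroup GL'} [hN : N.Normal] (hF : ∃ a : F, a ≠ 0 ∧ a ≠ 1)
    (h : ∀ n ∈ N, ∀ x : V, ∀ a : F, x ≠ 0 → n x = a • x → a = 1) : N = ⊥ := by
  rw [Subgroup.eq_bot_iff_forall]
  intro g hg
  by_cases hs : IsScalar g
  · obtain ⟨a, ha⟩ := hs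
    refine LinearEquiv.ext fun x => ?_
    by_cases hx : x = 0
    · simp [hx]
    · rw [ha, h g hg x a hx (ha x), one_smul]; rfl
  · exfalso
    obtain ⟨x, hx⟩ := exists_li hs
    obtain ⟨a, ha0, ha1⟩ := hF
    obtain ⟨f, hf⟩ := exists_dual hx ![0, 1]
    have hfx : f x = 0 := hf 0
    have hfy : f (g x) = 1 := hf 1
    have hu : IsUnit (1 + f ((a - 1) • g x)) := by
      rw [map_smul, hfy, smul_eq_mul, mul_one, add_sub_cancel]; exact isUnit_iff_ne_zero.2 ha0
    set h' := LinearEquiv.dilatransvection hu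
    have e1 : ∀ y, h' y = y + f y • ((a - 1) • g x) := fun y => LinearEquiv.dilatransvection.apply
    have hhx : h' x = x := by rw [e1, hfx, zero_smul, add_zero]
    have hhy : h' (g x) = a • g x := by rw [e1, hfy, one_smul, sub_smul, one_smul, add_sub_cancel]
    refine ha1 (h (g⁻¹ * (h' * g * h'⁻¹)) (mul_mem (inv_mem hg) (hN.conj_mem g hg h')) x a (hx.ne_zero 0) ?_)
    rw [LinearEquiv.mul_apply, LinearEquiv.mul_apply, LinearEquiv.mul_apply,
      show (h'⁻¹ : GL') x = x by conv_lhs => rw [← hhx]; exact h'.symm_apply_apply x, hhy, map_smul]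
    congr 1
    exact g.symm_apply_apply x

/-- A normal subgroup contains all transvections as soon as it contains one non-trivial one. -/
theorem all_tv [FiniteDimensional F V] {N : Subgroup GL'} [hN : N.Normal] {f : Dual F V} {v : V} (h : f v = 0)
    (hf : f ≠ 0) (hv : v ≠ 0) (hmem : tv h ∈ N) :
    ∀ (f' : Dual F V) (v' : V) (h' : f' v' = 0), tv h' ∈ N := by
  intro f' v' h'
  by_cases hv' : v' = 0
  · subst hv'; rw [LinearEquiv.transvection.of_right_eq_zero]; exact N.one_mem
  by_cases hf' : f' = 0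
  · subst hf'; rw [LinearEquiv.transvection.of_left_eq_zero]; exact N.one_mem
  -- adapted bases
  obtain ⟨x, hx⟩ : ∃ x, f x = 1 := by
    obtain ⟨z, hz⟩ : ∃ z, f z ≠ 0 := by
      by_contra hc; push Not at hc; exact hf (LinearMap.ext hc)
    exact ⟨(f z)⁻¹ • z, by rw [map_smul, smul_eq_mul, inv_mul_cancel₀ hz]⟩
  obtain ⟨x', hx'⟩ : ∃ x, f' x = 1 := by
    obtain ⟨z, hz⟩ : ∃ z, f' z ≠ 0 := by
      by_contra hc; push Not at hc; exact hf' (LinearMap.ext hc)
    exact ⟨(f' z)⁻¹ • z, by rw [map_smul, smul_eq_mul, inv_mul_cancel₀ hz]⟩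
  have hdim : finrank F (LinearMap.ker f) = finrank F (LinearMap.ker f') := by
    have a := f.finrank_range_add_finrank_ker
    have b := f'.finrank_range_add_finrank_ker
    rw [LinearMap.range_eq_top.2 (LinearMap.surjective hf)] at a
    rw [LinearMap.range_eq_top.2 (LinearMap.surjective hf')] at b
    rw [finrank_top] at a b
    omega
  obtain ⟨e, he⟩ : ∃ e : LinearMap.ker f ≃ₗ[F] LinearMap.ker f', e ⟨v, h⟩ = ⟨v', h'⟩ := by
    let e₀ := LinearEquiv.ofFinrankEq _ _ hdim
    have hne : e₀ ⟨v, h⟩ ≠ 0 := fun hc => hv (congrArg Subtype.val (e₀.map_eq_zero_iff.1 hc))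
    have hne' : (⟨v', h'⟩ : LinearMap.ker f') ≠ 0 := fun hc => hv' (congrArg Subtype.val hc)
    let c : Submodule.span F {e₀ ⟨v, h⟩} ≃ₗ[F] Submodule.span F {(⟨v', h'⟩ : LinearMap.ker f')} :=
      (LinearEquiv.toSpanNonzeroSingleton F _ _ hne).symm ≪≫ₗ LinearEquiv.toSpanNonzeroSingleton F _ _ hne'
    obtain ⟨g, hg⟩ := Submodule.exists_linearEquiv_restrict_eq c
    refine ⟨e₀ ≪≫ₗ g, ?_⟩
    have := hg ⟨_, Submodule.mem_span_singleton_self _⟩
    rw [LinearEquiv.trans_apply, ← this]
    have e1 : (⟨e₀ ⟨v, h⟩, Submodule.mem_span_singleton_self _⟩ : Submodule.span F {e₀ ⟨v, h⟩})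
        = LinearEquiv.toSpanNonzeroSingleton F _ _ hne 1 := Subtype.ext (one_smul F (e₀ ⟨v, h⟩)).symm
    simp only [c, LinearEquiv.trans_apply, e1, LinearEquiv.symm_apply_apply]
    exact one_smul F (⟨v', h'⟩ : LinearMap.ker f')
  let π : V →ₗ[F] LinearMap.ker f :=
    LinearMap.codRestrict _ (LinearMap.id - f.smulRight x) fun z => by
      simp [LinearMap.mem_ker, hx]
  have hπ : ∀ z, (π z : V) = z - f z • x := fun z => rfl
  let A : V →ₗ[F] V := (LinearMap.ker f').subtype ∘ₗ (e : _ →ₗ[F] _) ∘ₗ π + f.smulRight x'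
  have hA0 : ∀ z, A z = (e (π z) : V) + f z • x' := fun z => rfl
  have hA1 : ∀ z, f' (A z) = f z := fun z => by
    rw [hA0, map_add, map_smul, hx', smul_eq_mul, mul_one, LinearMap.mem_ker.1 (e _).2, zero_add]
  have hinj : Function.Injective A := by
    refine (injective_iff_map_eq_zero _).2 fun z hz => ?_
    have h0 : f z = 0 := by rw [← hA1, hz, map_zero]
    rw [hA0, h0, zero_smul, add_zero] at hz
    have h2 := congrArg Subtype.val ((e.map_eq_zero_iff).1 (Subtype.ext hz : e (π z) = 0))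
    rw [hπ, h0, zero_smul, sub_zero] at h2
    exact h2
  let Ae : GL' := LinearEquiv.ofInjectiveEndo A hinj
  have hAv : Ae v = v' := by
    show A v = v'
    rw [hA0, show π v = ⟨v, h⟩ from Subtype.ext (by rw [hπ, h, zero_smul, sub_zero]), he, h, zero_smul, add_zero]
  have key : Ae * tv h * Ae⁻¹ = tv h' := by
    rw [conj_tv]
    apply LinearEquiv.ext
    intro z
    rw [LinearEquiv.transvection.apply, LinearEquiv.transvection.apply, LinearMap.comp_apply, hAv, ← hA1]
    congr 2
    exact congrArg f' (Ae.apply_symm_apply z)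
  rw [← key]
  exact hN.conj_mem _ hmem Ae

/-- A non-scalar element fails to commute with some transvection. -/
theorem exists_not_comm {g : GL'} (hg : ¬ IsScalar g) :
    ∃ (f : Dual F V) (v : V) (h : f v = 0), g * tv h ≠ tv h * g := by
  by_contra hc
  push Not at hc
  refine hg (scalar_of_lines (g : V →ₗ[F] V) (scalar_of_comm_tv _ fun f v hv x => ?_))
  simpa [LinearEquiv.mul_apply] using LinearEquiv.congr_fun (hc f v hv) x

theorem tv_ne_zero {f : Dual F V} {v : V} (h : f v = 0) (h1 : tv h ≠ 1) : f ≠ 0 ∧ v ≠ 0 := by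
  constructor <;> intro e <;> subst e <;> refine h1 (LinearEquiv.ext fun x => ?_) <;>
    simp [LinearEquiv.transvection.apply]

/-- In dimension at least three a non-scalar normal subgroup contains a transvection. -/
theorem exists_tv_of_three [FiniteDimensional F V] (hd : 3 ≤ finrank F V) {N : Subgroup GL'} [hN : N.Normal]
    {g : GL'} (hgN : g ∈ N) (hg : ¬ IsScalar g) :
    ∃ (f : Dual F V) (v : V) (h : f v = 0), f ≠ 0 ∧ v ≠ 0 ∧ tv h ∈ N := by
  obtain ⟨f, v, h, hne⟩ := exists_not_comm hg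
  set τ : GL' := tv h with hτ
  set P : GL' := g * τ * g⁻¹ * τ⁻¹ with hP
  have hPN : P ∈ N := by
    rw [hP, show g * τ * g⁻¹ * τ⁻¹ = g * (τ * g⁻¹ * τ⁻¹) by group]
    exact mul_mem hgN (hN.conj_mem _ (inv_mem hgN) τ)
  have hP1 : P ≠ 1 := fun e => hne (by rw [hP, mul_inv_eq_one, mul_inv_eq_iff_eq_mul] at e; exact e)
  set S := Submodule.span F ({g v, v} : Set V) with hS
  have hSdim : finrank F S ≤ 2 := by
    classical
    have h3 := finrank_span_finset_le_card (R := F) ({g v, v} : Finset V)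
    have h4 : ({g v, v} : Finset V).card ≤ 2 := Finset.card_le_two
    simp only [Finset.coe_insert, Finset.coe_singleton] at h3
    rw [Set.finrank] at h3
    exact h3.trans h4
  have hrange : ∀ x, P x - x ∈ S := by
    intro x
    rw [hP, show g * τ * g⁻¹ * τ⁻¹ = (g * τ * g⁻¹) * τ⁻¹ from rfl, hτ, conj_tv, LinearEquiv.mul_apply,
      tv_inv_apply, LinearEquiv.transvection.apply]
    rw [show ∀ a b : F, x - a • v + b • g v - x = b • g v + (-a) • v from fun a b => by module]
    exact Submodule.mem_span_pair.2 ⟨_, _, rfl⟩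
  let D : V →ₗ[F] V := (P : V →ₗ[F] V) - LinearMap.id
  have hD : ∀ x, D x = P x - x := fun x => rfl
  have hR : LinearMap.range D ≤ S := by rintro _ ⟨x, rfl⟩; exact hrange x
  have hDne : ∃ x, P x ≠ x := by
    by_contra hc; push Not at hc; exact hP1 (LinearEquiv.ext hc)
  obtain ⟨w, hw, hwT⟩ : ∃ w, P w ≠ w ∧
      (LinearMap.range D ⊔ Submodule.span F {w}) ≠ ⊤ := by
    by_cases hfix : ∃ w ∈ LinearMap.range D, P w ≠ w
    · obtain ⟨w, hwR, hw⟩ := hfix
      refine ⟨w, hw, fun e => ?_⟩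
      rw [sup_eq_left.2 ((Submodule.span_singleton_le_iff_mem _ _).2 hwR)] at e
      have := Submodule.finrank_mono (e ▸ hR)
      rw [finrank_top] at this
      omega
    · push Not at hfix
      obtain ⟨w, hw⟩ := hDne
      refine ⟨w, hw, fun e => ?_⟩
      have hle : LinearMap.range D ≤ LinearMap.ker D := fun y hy => by
        rw [LinearMap.mem_ker, hD, hfix y hy, sub_self]
      have a := D.finrank_range_add_finrank_ker
      have b := Submodule.finrank_mono hle
      have c := Submodule.finrank_add_le_finrank_add_finrank (LinearMap.range D) (Submodule.span F {w})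
      rw [e, finrank_top] at c
      have d : finrank F (Submodule.span F {w}) = 1 :=
        finrank_span_singleton fun e0 => hw (by rw [e0, map_zero])
      omega
  obtain ⟨φ, hφ0, hφ⟩ := Submodule.exists_dual_map_eq_bot_of_lt_top (lt_top_iff_ne_top.2 hwT) inferInstance
  have hφT : ∀ y ∈ LinearMap.range D ⊔ Submodule.span F {w}, φ y = 0 := fun y hy => by
    have := Submodule.mem_map_of_mem (f := φ) hy
    rwa [hφ, Submodule.mem_bot] at this
  have hφw : φ w = 0 := hφT w (Submodule.mem_sup_right (Submodule.mem_span_singleton_self w))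
  have hφD : ∀ y, φ (P y) = φ y := fun y => by
    have := hφT (D y) (Submodule.mem_sup_left ⟨y, rfl⟩)
    rwa [hD, map_sub, sub_eq_zero] at this
  set σ : GL' := tv hφw with hσ
  have hφ' : φ (P w - w) = 0 := by rw [map_sub, hφD, sub_self]
  refine ⟨φ, P w - w, hφ', hφ0, sub_ne_zero.2 hw, ?_⟩
  have hmem : P * σ * P⁻¹ * σ⁻¹ ∈ N := by
    rw [show P * σ * P⁻¹ * σ⁻¹ = P * (σ * P⁻¹ * σ⁻¹) by group]
    exact mul_mem hPN (hN.conj_mem _ (inv_mem hPN) σ)
  have e : P * σ * P⁻¹ * σ⁻¹ = tv hφ' := by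
    apply LinearEquiv.ext
    intro x
    rw [hσ, conj_tv, LinearEquiv.mul_apply, tv_inv_apply, LinearEquiv.transvection.apply,
      LinearEquiv.transvection.apply, LinearMap.comp_apply]
    have h1 : ∀ y, φ ((P⁻¹ : GL') y) = φ y := fun y => by
      conv_rhs => rw [← P.apply_symm_apply y]
      exact (hφD _).symm
    rw [show ((P⁻¹ : GL') : V →ₗ[F] V) (x - φ x • w) = (P⁻¹ : GL') (x - φ x • w) from rfl, h1, map_sub, map_smul,
      hφw, smul_zero, sub_zero]
    module
  rwa [e] at hmem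

/-- A diagonal automorphism on a basis of two vectors. -/
theorem exists_diag (B : Basis (Fin 2) F V) {a : F} (ha : a ≠ 0) :
    ∃ h : GL', h (B 0) = a • B 0 ∧ h (B 1) = a⁻¹ • B 1 := by
  let w : Fin 2 → Fˣ := ![Units.mk0 a ha, Units.mk0 a⁻¹ (inv_ne_zero ha)]
  refine ⟨B.equiv (B.unitsSMul w) (Equiv.refl _), ?_, ?_⟩ <;>
    simp [Basis.unitsSMul_apply, w, Units.smul_def]

/-- The two-dimensional commutator step. -/
theorem two_step {N : Subgroup GL'} [hN : N.Normal] {g : GL'} (hgN : g ∈ N) {x y : V} {b c a : F}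
    (hli : LinearIndependent F ![x, y]) (hsp : ⊤ ≤ Submodule.span F (Set.range ![x, y])) (hgx : g x = y)
    (hgy : g y = b • x + c • y) (ha : a ≠ 0) (hok : a ^ 4 ≠ 1 ∨ (a ^ 2 = -1 ∧ c ≠ 0 ∧ (2 : F) ≠ 0)) :
    ∃ (f : Dual F V) (v : V) (h : f v = 0), f ≠ 0 ∧ v ≠ 0 ∧ tv h ∈ N := by
  set B := Basis.mk hli hsp with hB
  have B0 : B 0 = x := by simp [hB]
  have B1 : B 1 = y := by simp [hB]
  have hb : b ≠ 0 := by
    intro e
    rw [e, zero_smul, zero_add, ← hgx, ← map_smul, hgx] at hgy
    have := g.injective hgy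
    have h2 := LinearIndependent.eq_zero_of_pair hli (s := -c) (t := 1) (by rw [this]; module)
    exact one_ne_zero h2.2
  obtain ⟨h, hx0, hy0⟩ := exists_diag B ha
  rw [B0] at hx0
  rw [B1] at hy0
  have gi_y : (g⁻¹ : GL') y = x := by rw [← hgx]; exact g.symm_apply_apply x
  have gi_x : (g⁻¹ : GL') x = b⁻¹ • y - (b⁻¹ * c) • x := by
    apply g.injective
    rw [show g ((g⁻¹ : GL') x) = x from g.apply_symm_apply x, map_sub, map_smul, map_smul, hgx, hgy,
      smul_add, smul_smul, smul_smul, inv_mul_cancel₀ hb, one_smul]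
    module
  have hi_y : (h⁻¹ : GL') y = a • y := by
    apply h.injective
    rw [show h ((h⁻¹ : GL') y) = y from h.apply_symm_apply y, map_smul, hy0, smul_smul, mul_inv_cancel₀ ha, one_smul]
  have hi_x : (h⁻¹ : GL') x = a⁻¹ • x := by
    apply h.injective
    rw [show h ((h⁻¹ : GL') x) = x from h.apply_symm_apply x, map_smul, hx0, smul_smul, inv_mul_cancel₀ ha, one_smul]
  set k : GL' := g * h * g⁻¹ * h⁻¹ with hk
  have hkN : k ∈ N := by
    rw [hk, show g * h * g⁻¹ * h⁻¹ = g * (h * g⁻¹ * h⁻¹) by group]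
    exact mul_mem hgN (hN.conj_mem _ (inv_mem hgN) h)
  have ky : k y = a ^ 2 • y := by
    simp only [hk, LinearEquiv.mul_apply, hi_y, map_smul, gi_y, hx0, hgx, smul_smul, sq]
  have kx : k x = (a⁻¹ ^ 2) • x + (b⁻¹ * c * (a⁻¹ ^ 2 - 1)) • y := by
    simp only [hk, LinearEquiv.mul_apply, hi_x, map_smul, gi_x, map_sub, hx0, hy0, hgx, hgy, smul_smul,
      smul_add, smul_sub]
    have e1 : a⁻¹ * b⁻¹ * a⁻¹ * b = a⁻¹ ^ 2 := by field_simp
    have e2 : a⁻¹ * b⁻¹ * a⁻¹ * c - a⁻¹ * (b⁻¹ * c) * a = b⁻¹ * c * (a⁻¹ ^ 2 - 1) := by field_simp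
    rw [← e2, ← e1]
    module
  let φ : Dual F V := B.coord 0
  have φx : φ x = 1 := by rw [← B0]; simp [φ, Basis.coord_apply]
  have φy : φ y = 0 := by rw [← B1]; simp [φ, Basis.coord_apply]
  have hφ : φ ≠ 0 := fun e => one_ne_zero (by rw [← φx, e]; rfl)
  have hy : y ≠ 0 := hli.ne_zero 1
  have ext2 : ∀ {A C : GL'}, A x = C x → A y = C y → A = C := fun {A C} e0 e1 =>
    B.ext' fun i => by fin_cases i <;> simp [B0, B1, e0, e1]
  rcases hok with h4 | ⟨h2, hc, htwo⟩
  · set τ : GL' := tv φy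
    have hτy : τ y = y := by rw [LinearEquiv.transvection.apply, φy, zero_smul, add_zero]
    have hτx : τ x = x + y := by rw [LinearEquiv.transvection.apply, φx, one_smul]
    have hv : φ ((a ^ 4 - 1) • y) = 0 := by rw [map_smul, φy, smul_zero]
    refine ⟨φ, _, hv, hφ, smul_ne_zero (sub_ne_zero.2 h4) hy, ?_⟩
    have hm : k * τ * k⁻¹ * τ⁻¹ ∈ N := by
      rw [show k * τ * k⁻¹ * τ⁻¹ = k * (τ * k⁻¹ * τ⁻¹) by group]
      exact mul_mem hkN (hN.conj_mem _ (inv_mem hkN) τ)
    suffices e : k * τ * k⁻¹ = tv hv * τ by rwa [e, mul_inv_cancel_right] at hm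
    have main : k * τ = tv hv * τ * k := by
      refine ext2 ?_ ?_
      · simp only [LinearEquiv.mul_apply, hτx, map_add, kx, ky, map_smul, hτy, LinearEquiv.transvection.apply,
          φx, φy, smul_eq_mul]
        simp only [inv_pow]
        match_scalars <;> field_simp <;> ring
      · simp only [LinearEquiv.mul_apply, hτy, ky, map_smul, LinearEquiv.transvection.apply, φy]
        module
    rw [main, mul_inv_cancel_right]
  · set d := b⁻¹ * c * (a⁻¹ ^ 2 - 1) with hd
    have hv : φ ((-2 * d) • y) = 0 := by rw [map_smul, φy, smul_zero]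
    have hai : a⁻¹ ^ 2 = -1 := by rw [inv_pow, h2]; norm_num
    have hd0 : d ≠ 0 := by
      rw [hd, hai, show (-1 : F) - 1 = -2 by ring]
      exact mul_ne_zero (mul_ne_zero (inv_ne_zero hb) hc) (neg_ne_zero.2 htwo)
    refine ⟨φ, _, hv, hφ, smul_ne_zero (mul_ne_zero (neg_ne_zero.2 htwo) hd0) hy, ?_⟩
    suffices e : tv hv = k * k by rw [e]; exact mul_mem hkN hkN
    refine ext2 ?_ ?_
    · simp only [LinearEquiv.mul_apply, LinearEquiv.transvection.apply, φx, kx, ky, map_add, map_smul, h2, hai]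
      module
    · simp only [LinearEquiv.mul_apply, LinearEquiv.transvection.apply, φy, ky, map_smul, h2]
      module

/-- In dimension two, away from two and three, a non-scalar normal subgroup contains a transvection. -/
theorem exists_tv_of_two [FiniteDimensional F V] (hd : finrank F V = 2) (h2 : (2 : F) ≠ 0) (h3 : (3 : F) ≠ 0)
    {N : Subgroup GL'} [hN : N.Normal] {g : GL'} (hgN : g ∈ N) (hg : ¬ IsScalar g) :
    ∃ (f : Dual F V) (v : V) (h : f v = 0), f ≠ 0 ∧ v ≠ 0 ∧ tv h ∈ N := by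
  have frame : ∀ (g : GL') (x : V), LinearIndependent F ![x, g x] →
      (⊤ ≤ Submodule.span F (Set.range ![x, g x])) ∧ ∃ b c : F, g (g x) = b • x + c • g x := by
    intro g x hli
    have hsp := (hli.span_eq_top_of_card_eq_finrank (by simp [hd])).ge
    refine ⟨hsp, ?_⟩
    have := hsp (Submodule.mem_top (x := g (g x)))
    rw [Matrix.range_cons, Matrix.range_cons, Matrix.range_empty, Set.union_empty] at this
    obtain ⟨b, c, hbc⟩ := Submodule.mem_span_pair.1 (by simpa [Set.pair_comm] using this)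
    exact ⟨b, c, hbc.symm⟩
  by_cases h16 : (2 : F) ^ 4 = 1
  swap
  · obtain ⟨x, hx⟩ := exists_li hg
    obtain ⟨hsp, b, c, hbc⟩ := frame g x hx
    exact two_step hgN hx hsp rfl hbc h2 (Or.inl h16)
  have h5 : (5 : F) = 0 := by
    have : (5 : F) * 3 = 0 := by linear_combination h16
    exact (mul_eq_zero.1 this).resolve_right h3
  have h4' : (2 : F) ^ 2 = -1 := by linear_combination h5
  obtain ⟨x, hx⟩ := exists_li hg
  obtain ⟨hsp, b, c, hbc⟩ := frame g x hx
  by_cases hc : c = 0
  swap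
  · exact two_step hgN hx hsp rfl hbc h2 (Or.inr ⟨h4', hc, h2⟩)
  subst hc
  rw [zero_smul, add_zero] at hbc
  set y := g x with hy
  obtain ⟨s, hs0, hs⟩ : ∃ s : F, s ≠ 0 ∧ 2 * b - s ^ 2 ≠ 0 := by
    by_cases h1 : 2 * b - (1 : F) ^ 2 = 0
    · exact ⟨2, h2, fun e => h3 (by linear_combination h1 - e)⟩
    · exact ⟨1, one_ne_zero, h1⟩
  set B := Basis.mk hx hsp with hB
  have B0 : B 0 = x := by simp [hB]
  have B1 : B 1 = y := by simp [hB, hy]
  let φ : Dual F V := B.coord 1
  have φx : φ x = 0 := by rw [← B0]; simp [φ, Basis.coord_apply]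
  have φy : φ y = 1 := by rw [← B1]; simp [φ, Basis.coord_apply]
  have hv : φ (s • x) = 0 := by rw [map_smul, φx, smul_zero]
  set τ : GL' := tv hv with hτ
  set G := g * (τ * g * τ⁻¹) with hG
  have Gx : G x = b • x + s • y := by
    simp only [hG, hτ, LinearEquiv.mul_apply, tv_inv_apply, LinearEquiv.transvection.apply, φx, φy, zero_smul,
      sub_zero, one_smul, ← hy, map_add, map_smul, hbc]
  have Gy : G y = (-(s * b)) • x + (b - s ^ 2) • y := by
    simp only [hG, hτ, LinearEquiv.mul_apply, tv_inv_apply, LinearEquiv.transvection.apply, φx, φy, one_smul,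
      map_sub, map_smul, hbc, ← hy, map_add, smul_eq_mul, mul_zero, sub_zero, zero_sub]
    module
  have hli : LinearIndependent F ![x, G x] := by
    rw [Gx]
    refine LinearIndependent.pair_iff.2 fun u w e => ?_
    have := LinearIndependent.eq_zero_of_pair hx (s := u + w * b) (t := w * s) (by rw [← e]; module)
    have hw : w = 0 := (mul_eq_zero.1 this.2).resolve_right hs0
    exact ⟨by simpa [hw] using this.1, hw⟩
  obtain ⟨hsp', -⟩ := frame G x hli
  refine two_step (a := (2 : F)) (b := -b ^ 2) (c := 2 * b - s ^ 2) (g := G)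
    (mul_mem hgN (hN.conj_mem g hgN τ)) hli hsp' rfl ?_ h2 (Or.inr ⟨h4', hs, h2⟩)
  rw [Gx, map_add, map_smul, map_smul, Gx, Gy]
  module

/-- If all transvections lie in a subgroup, so do the two-entry diagonal maps of determinant one. -/
theorem diag_mem {N : Subgroup GL'} (hall : ∀ (f : Dual F V) (v : V) (h : f v = 0), tv h ∈ N) {x y : V}
    {fx fy : Dual F V} (hxx : fx x = 1) (hxy : fx y = 0) (hyx : fy x = 0) (hyy : fy y = 1) {a : F} (ha : a ≠ 0) :
    ∃ D ∈ N, ∀ z, D z = z + ((a - 1) * fx z) • x + ((a⁻¹ - 1) * fy z) • y := by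
  have hX : ∀ t : F, (t • fy) x = 0 := fun t => by simp [hyx]
  have hY : ∀ t : F, (t • fx) y = 0 := fun t => by simp [hxy]
  let w : F → GL' := fun t => tv (hX t) * tv (hY (-t⁻¹)) * tv (hX t)
  have hw : ∀ t, w t ∈ N := fun t => mul_mem (mul_mem (hall _ _ _) (hall _ _ _)) (hall _ _ _)
  refine ⟨w a * w (-1), mul_mem (hw _) (hw _), fun z => ?_⟩
  simp only [w, LinearEquiv.mul_apply, LinearEquiv.transvection.apply, LinearMap.smul_apply, smul_eq_mul,
    map_add, map_smul, hxx, hxy, hyx, hyy, smul_smul, inv_neg, inv_one, neg_neg]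
  match_scalars <;> field_simp <;> ring

end CfsgLib.Homogeneous.Lin
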