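import Cfsg.Agent.Lib.Homogeneous.Basic
import Cfsg.Agent.Lib.Homogeneous.Linear

/-!
Elementary abelian subgroups as vector spaces, and their automizers as linear groups.
-/

set_option autoImplicit false

namespace CfsgLib.Homogeneous

open Subgroup Module
open scoped IsMulCommutative

universe u

variable {G : Type u} [Group G] {p : ℕ}

/-- The vector space structure on an elementary abelian subgroup. -/
@[reducible] def elemModule {E : Subgroup G} [IsMulCommutative ↥E] (hexp : ∀ a ∈ E, a ^ p = 1) :
    Module (ZMod p) (Additive ↥E) :=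
  AddCommGroup.zmodModule fun x => congrArg Additive.ofMul
    (Subtype.ext (hexp _ (Additive.toMul x).2) : (Additive.toMul x) ^ p = 1)

variable (p) (E : Subgroup G) [IsMulCommutative ↥E] [Module (ZMod p) (Additive ↥E)]

/-- Automorphisms are the linear automorphisms. -/
def toLin : (↥E ≃* ↥E) ≃* (Additive ↥E ≃ₗ[ZMod p] Additive ↥E) where
  toFun α := LinearEquiv.ofLinear ((MonoidHom.toAdditive α.toMonoidHom).toZModLinearMap p)
    ((MonoidHom.toAdditive α.symm.toMonoidHom).toZModLinearMap p)
    (LinearMap.ext fun x => congrArg Additive.ofMul (α.apply_symm_apply (Additive.toMul x)))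
    (LinearMap.ext fun x => congrArg Additive.ofMul (α.symm_apply_apply (Additive.toMul x)))
  invFun f := MulEquiv.toAdditive.symm f.toAddEquiv
  left_inv α := MulEquiv.ext fun a => rfl
  right_inv f := LinearEquiv.ext fun x => rfl
  map_mul' α β := LinearEquiv.ext fun x => rfl

theorem toLin_apply (α : ↥E ≃* ↥E) (a : ↥E) : toLin p E α (Additive.ofMul a) = Additive.ofMul (α a) := rfl

theorem toLin_symm_apply (f : Additive ↥E ≃ₗ[ZMod p] Additive ↥E) (a : ↥E) :
    (toLin p E).symm f a = Additive.toMul (f (Additive.ofMul a)) := rfl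

/-- The automizer as a linear group. -/
def autzLin : Subgroup (Additive ↥E ≃ₗ[ZMod p] Additive ↥E) :=
  (autz E).map (toLin p E).toMonoidHom

theorem Hom.autzLin_normal (h : Hom G) : (autzLin p E).Normal :=
  (h.autz_normal E).map _ (toLin p E).surjective

variable {p} {E}

/-- A linear map is in the automizer iff some element induces it. -/
theorem mem_autzLin {f : Additive ↥E ≃ₗ[ZMod p] Additive ↥E} :
    f ∈ autzLin p E ↔ ∃ g : G, ∀ a : ↥E, g * a * g⁻¹ = (Additive.toMul (f (Additive.ofMul a)) : ↥E) := by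
  constructor
  · rintro ⟨α, ⟨g, hg⟩, rfl⟩
    exact ⟨g, hg⟩
  · rintro ⟨g, hg⟩
    exact ⟨(toLin p E).symm f, ⟨g, hg⟩, (toLin p E).apply_symm_apply f⟩

/-- The linear map induced by an element of the normalizer. -/
def linOf (g : normalizer (E : Set G)) : Additive ↥E ≃ₗ[ZMod p] Additive ↥E :=
  toLin p E (E.normalizerMonoidHom g)

theorem linOf_apply (g : normalizer (E : Set G)) (a : ↥E) :
    ((Additive.toMul (linOf (p := p) g (Additive.ofMul a)) : ↥E) : G) = (g : G) * a * (g : G)⁻¹ := rfl

theorem linOf_mem (g : normalizer (E : Set G)) : linOf (p := p) g ∈ autzLin p E :=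
  mem_autzLin.2 ⟨g, fun _ => rfl⟩

theorem linOf_eq_one_iff (g : normalizer (E : Set G)) :
    linOf (p := p) g = 1 ↔ (g : G) ∈ centralizer (E : Set G) := by
  constructor
  · intro h a ha
    have := congrArg (fun x => ((Additive.toMul x : ↥E) : G)) (LinearEquiv.congr_fun h (Additive.ofMul ⟨a, ha⟩))
    simp only [linOf_apply] at this
    exact (mul_inv_eq_iff_eq_mul.1 this).symm
  · intro h
    refine LinearEquiv.ext fun x => congrArg Additive.ofMul (Subtype.ext ?_)
    show (g : G) * (Additive.toMul x : ↥E) * (g : G)⁻¹ = (Additive.toMul x : ↥E)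
    rw [← h _ (Additive.toMul x).2, mul_inv_cancel_right]

theorem smul_toMul (k : ℕ) (x : Additive ↥E) :
    Additive.toMul ((k : ZMod p) • x) = Additive.toMul x ^ k := by
  rw [Nat.cast_smul_eq_nsmul]; rfl

theorem card_eq [Finite G] [Fact p.Prime] : Nat.card ↥E = p ^ finrank (ZMod p) (Additive ↥E) := by
  haveI : Finite (Additive ↥E) := inferInstanceAs (Finite ↥E)
  rw [Nat.card_congr (Additive.ofMul (α := ↥E)), Module.natCard_eq_pow_finrank (K := ZMod p), Nat.card_zmod]

/-- A scalar automizer element acts by a power map. -/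
theorem scalar_pow [Fact p.Prime] {f : Additive ↥E ≃ₗ[ZMod p] Additive ↥E} (hf : Lin.IsScalar f) :
    ∃ k : ℕ, ∀ a : ↥E, Additive.toMul (f (Additive.ofMul a)) = a ^ k := by
  obtain ⟨c, hc⟩ := hf
  exact ⟨c.val, fun a => by rw [hc, ← ZMod.natCast_rightInverse c, smul_toMul, ZMod.natCast_rightInverse c]; rfl⟩

end CfsgLib.Homogeneous
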