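import Cfsg.Agent.Lib.Homogeneous.SD.Three
import Cfsg.Agent.Lib.Homogeneous.SD.Total

/-!
No simple homogeneous group has semidihedral Sylow 2-subgroups.
-/

set_option autoImplicit false

namespace CfsgLib.Homogeneous

open Cfsg

universe u

theorem semidihedral_false {G : Type u} [Group G] [Finite G] [IsSimpleGroup G] (h : Hom G) (S : Sylow 2 G)
    (hS : Cfsg.IsQuasiDihedral (S : Subgroup G)) : False := by
  obtain ⟨-, -, -, d, -⟩ := CfsgLib.QD.exists_data hS
  let c : SD.Ctx G := ⟨h, S, hS, d⟩
  obtain ⟨F, _, _, hF, ⟨e⟩⟩ := c.exists_model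
  rcases c.card_three_or_five e hF with h3 | h5
  · exact c.three_false e h3
  · obtain ⟨D⟩ := c.exists_five e h5
    exact D.five_false

end CfsgLib.Homogeneous
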