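import Cfsg.Agent.Lib.Homogeneous.Cases

/-!
A homogeneous finite group is the product of a soluble group and a quasisimple one.
-/

set_option autoImplicit false
set_option linter.unusedSectionVars false
set_option maxHeartbeats 1000000

namespace CfsgLib.Homogeneous

open Subgroup Matrix CfsgLib.PSL2
open scoped MatrixGroups commutatorElement

universe u

local instance : Fact (Nat.Prime 2) := ⟨Nat.prime_two⟩

/-! ### Automorphisms of the models -/

section Models

variable {p : ℕ} [Fact p.Prime]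

local notation "S₂" => SpecialLinearGroup (Fin 2) (ZMod p)
local notation "P₂" => ProjectiveSpecialLinearGroup (Fin 2) (ZMod p)

/-- A matrix of given determinant whose square is scalar. -/
noncomputable def flip (δ : (ZMod p)ˣ) : GL (Fin 2) (ZMod p) :=
  GeneralLinearGroup.mkOfDetNeZero !![0, -(δ : ZMod p); 1, 0] (by
    rw [Matrix.det_fin_two_of, zero_mul, zero_sub, mul_one, neg_neg]
    exact δ.ne_zero)

theorem conjSL_flip_sq (δ : (ZMod p)ˣ) : conjSL (flip δ) * conjSL (flip δ) = 1 := by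
  rw [← map_mul]
  refine MulEquiv.ext fun A => Subtype.ext ?_
  rw [coe_conjSL]
  have hs : (flip δ * flip δ).1 = Matrix.scalar (Fin 2) (-(δ : ZMod p)) := by
    show !![0, -(δ : ZMod p); 1, 0] * !![0, -(δ : ZMod p); 1, 0] = _
    ext i j
    fin_cases i <;> fin_cases j <;> simp [Matrix.mul_apply, Fin.sum_univ_two]
  rw [hs, (Matrix.scalar_commute (-(δ : ZMod p)) (fun r => Commute.all _ r) A.1).eq, Matrix.mul_assoc, ← hs,
    ← Units.val_mul, mul_inv_cancel, Units.val_one, Matrix.mul_one]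
  rfl

theorem exists_sl_mul (g : GL (Fin 2) (ZMod p)) :
    ∃ A : S₂, g * SpecialLinearGroup.toGL A = flip (GeneralLinearGroup.det g) := by
  set h := flip (GeneralLinearGroup.det g) with hh
  have hd : ((g⁻¹ * h).1 : Matrix (Fin 2) (Fin 2) (ZMod p)).det = 1 := by
    rw [Units.val_mul, Matrix.det_mul, show (h.1 : Matrix (Fin 2) (Fin 2) (ZMod p)).det = g.1.det by
      show Matrix.det !![0, -((GeneralLinearGroup.det g : (ZMod p)ˣ) : ZMod p); 1, 0] = _
      rw [Matrix.det_fin_two_of, zero_mul, zero_sub, mul_one, neg_neg]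
      rfl, ← Matrix.det_mul, ← Units.val_mul, inv_mul_cancel, Units.val_one, Matrix.det_one]
  refine ⟨⟨_, hd⟩, Units.ext ?_⟩
  show g.1 * (g⁻¹ * h).1 = h.1
  rw [← Units.val_mul, mul_inv_cancel_left]

theorem conjSL_toGL (A : S₂) : conjSL (SpecialLinearGroup.toGL A) = MulAut.conj A := by
  refine MulEquiv.ext fun B => Subtype.ext ?_
  rw [coe_conjSL, ← map_inv]
  rfl

theorem psl_aut_commutator (a b : MulAut P₂) : ∃ x : P₂, ⁅a, b⁆ = MulAut.conj x := by
  obtain ⟨g, e, rfl⟩ := exists_diag_field p a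
  obtain ⟨h, e', rfl⟩ := exists_diag_field p b
  rw [field_refl e, field_refl e']
  erw [fieldAut_refl]
  rw [mul_one, mul_one, ← map_commutatorElement]
  have hd : (⁅g, h⁆.1 : Matrix (Fin 2) (Fin 2) (ZMod p)).det = 1 := by
    rw [show (⁅g, h⁆.1 : Matrix (Fin 2) (Fin 2) (ZMod p)).det = ((GeneralLinearGroup.det ⁅g, h⁆ : (ZMod p)ˣ) : ZMod p)
      from rfl, map_commutatorElement, commutatorElement_eq_one_iff_mul_comm.2 (mul_comm _ _), Units.val_one]
  obtain ⟨A, hA⟩ : ∃ A : S₂, A.1 = (⁅g, h⁆.1 : Matrix (Fin 2) (Fin 2) (ZMod p)) := ⟨⟨_, hd⟩, rfl⟩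
  refine ⟨PSL2.mk A, ?_⟩
  rw [← diagAut_toGL]
  exact congrArg diagAut (Units.ext hA.symm)

theorem psl_aut_involution (β : MulAut P₂) : ∃ x : P₂, (β * MulAut.conj x) * (β * MulAut.conj x) = 1 := by
  obtain ⟨g, e, rfl⟩ := exists_diag_field p β
  rw [field_refl e]
  erw [fieldAut_refl]
  obtain ⟨A, hA⟩ := exists_sl_mul g
  refine ⟨PSL2.mk A, ?_⟩
  rw [mul_one, ← diagAut_toGL, ← map_mul, hA]
  show centreQuotAut _ (conjSL _) * centreQuotAut _ (conjSL _) = 1
  rw [← map_mul, conjSL_flip_sq, map_one]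

theorem sl_aut_involution (hperf : commutator S₂ = ⊤) (β : MulAut S₂) :
    ∃ x : S₂, (β * MulAut.conj x) * (β * MulAut.conj x) = 1 := by
  obtain ⟨g, e, he⟩ := exists_diag_field p (centreQuotAut S₂ β)
  rw [field_refl e] at he
  erw [fieldAut_refl, mul_one] at he
  have hz : ∀ A, ((conjSL g)⁻¹ * β) A * A⁻¹ ∈ center S₂ := by
    intro A
    have h1 : centreQuotAut _ ((conjSL g)⁻¹ * β) = 1 := by
      rw [map_mul, map_inv, he]
      exact inv_mul_cancel _
    have h2 : (QuotientGroup.mk (((conjSL g)⁻¹ * β) A) : _ ⧸ center S₂) = QuotientGroup.mk A :=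
      congrArg (fun f : MulAut (_ ⧸ center S₂) => f (QuotientGroup.mk A)) h1
    exact (inferInstance : (center S₂).Normal).mem_comm (QuotientGroup.eq.1 h2.symm)
  let χ : S₂ →* ↥(center S₂) :=
    MonoidHom.mk' (fun A => ⟨_, hz A⟩) fun A B => Subtype.ext (by
      show ((conjSL g)⁻¹ * β) (A * B) * (A * B)⁻¹ = _
      have hc := mem_center_iff.1 (hz B) A⁻¹
      rw [map_mul, _root_.mul_inv_rev, Subgroup.coe_mul]
      calc ((conjSL g)⁻¹ * β) A * ((conjSL g)⁻¹ * β) B * (B⁻¹ * A⁻¹) =
          ((conjSL g)⁻¹ * β) A * (((conjSL g)⁻¹ * β) B * B⁻¹ * A⁻¹) := by group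
        _ = _ := by rw [← hc]; simp [mul_assoc])
  have hβ : β = conjSL g := by
    refine MulEquiv.ext fun A => ?_
    have h3 : ((conjSL g)⁻¹ * β) A = A :=
      mul_inv_eq_one.1 (congrArg Subtype.val (perfect_comm hperf χ (fun a b => Subtype.ext (mem_center_iff.1 (χ b).2 (χ a).1)) A))
    rw [MulAut.mul_apply, show ((conjSL g)⁻¹ : MulAut _) (β A) = (conjSL g).symm (β A) from rfl,
      MulEquiv.symm_apply_eq] at h3
    exact h3
  obtain ⟨A, hA⟩ := exists_sl_mul g
  exact ⟨A, by rw [hβ, ← conjSL_toGL, ← map_mul, hA, conjSL_flip_sq]⟩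

end Models

theorem aut_congr_involution {K : Type*} [Group K] {M : Type*} [Group M] (e : K ≃* M)
    (h : ∀ β : MulAut M, ∃ x : M, (β * MulAut.conj x) * (β * MulAut.conj x) = 1) (β : MulAut K) :
    ∃ x : K, (β * MulAut.conj x) * (β * MulAut.conj x) = 1 := by
  obtain ⟨x, hx⟩ := h ((e.symm.trans β).trans e)
  refine ⟨e.symm x, MulEquiv.ext fun a => e.injective ?_⟩
  have h1 := DFunLike.congr_fun hx (e a)
  simp only [MulAut.mul_apply, MulAut.conj_apply, MulAut.one_apply, MulEquiv.trans_apply, map_mul, map_inv,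
    MulEquiv.symm_apply_apply] at h1 ⊢
  simpa [MulEquiv.apply_symm_apply] using h1

theorem aut_congr_commutator {K : Type*} [Group K] {M : Type*} [Group M] (e : K ≃* M)
    (h : ∀ a b : MulAut M, ∃ x : M, ⁅a, b⁆ = MulAut.conj x) (a b : MulAut K) :
    ∃ x : K, ⁅a, b⁆ = MulAut.conj x := by
  let E : MulAut K →* MulAut M := MonoidHom.mk' (fun c => (e.symm.trans c).trans e) fun c d =>
    MulEquiv.ext fun m => by simp [MulAut.mul_apply]
  obtain ⟨x, hx⟩ := h (E a) (E b)
  refine ⟨e.symm x, MulEquiv.ext fun k => e.injective ?_⟩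
  rw [← map_commutatorElement] at hx
  have h1 := DFunLike.congr_fun hx (e k)
  simp only [E, MonoidHom.mk'_apply, MulEquiv.trans_apply, MulEquiv.symm_apply_apply] at h1
  rw [h1]
  simp [MulAut.conj_apply]

/-! ### Perfect homogeneous groups -/

variable {K : Type u} [Group K] [Finite K]

/-- The hypothesis on semidihedral groups. -/
def NoSemidihedral : Prop :=
  ∀ (N : Type u) [Group N] [Finite N] [IsSimpleGroup N], Hom N → ∀ S : Sylow 2 N,
    Cfsg.IsQuasiDihedral (S : Subgroup N) → False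

/-- A group without `q`-cores has no nontrivial soluble normal subgroup. -/
theorem solvable_normal_eq_bot {N : Type*} [Group N] [Finite N]
    (h : ∀ q : ℕ, q.Prime → Cfsg.pCore q N = ⊥) (M : Subgroup N) [M.Normal] [Group.IsSolvable ↥M] : M = ⊥ := by
  classical
  by_contra hne
  haveI : Nontrivial ↥M := (nontrivial_iff_ne_bot _).2 hne
  obtain ⟨n, hn⟩ := Group.IsSolvable.solvable (G := ↥M)
  have hex : ∃ m, derivedSeries ↥M m = ⊥ := ⟨n, hn⟩
  have h0 : Nat.find hex ≠ 0 := fun h0 => by
    have h1 := Nat.find_spec hex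
    rw [h0, derivedSeries_zero] at h1
    exact top_ne_bot h1
  set A := derivedSeries ↥M (Nat.find hex - 1) with hA
  have hk : A ≠ ⊥ := fun h => by have := Nat.find_min' hex h; omega
  have hk1 : ⁅A, A⁆ = ⊥ := by
    have := Nat.find_spec hex
    rwa [show Nat.find hex = Nat.find hex - 1 + 1 by omega, derivedSeries_succ] at this
  haveI hAc : A.Characteristic := derivedSeries_characteristic ↥M _
  haveI : Nontrivial ↥A := (nontrivial_iff_ne_bot _).2 hk
  obtain ⟨q, hq, hqd⟩ := Nat.exists_prime_and_dvd (Finite.one_lt_card (α := ↥A)).ne'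
  haveI := Fact.mk hq
  obtain ⟨a, ha⟩ := exists_prime_orderOf_dvd_card' (G := ↥A) q hqd
  set A' := A.map M.subtype with hA'
  haveI : A'.Normal := inferInstance
  have hcomm : ∀ a ∈ A', ∀ b ∈ A', a * b = b * a := by
    rintro _ ⟨a, ha, rfl⟩ _ ⟨b, hb, rfl⟩
    have h := commutator_mem_commutator ha hb
    rw [hk1, mem_bot, commutatorElement_eq_one_iff_mul_comm] at h
    rw [← map_mul, h, map_mul]
  let B : Subgroup N :=
    { carrier := {x | x ∈ A' ∧ x ^ q = 1}
      one_mem' := ⟨one_mem _, one_pow q⟩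
      mul_mem' := fun {x y} ⟨hx, hx'⟩ ⟨hy, hy'⟩ => ⟨mul_mem hx hy, by
        rw [(show Commute x y from hcomm x hx y hy).mul_pow, hx', hy', one_mul]⟩
      inv_mem' := fun {x} ⟨hx, hx'⟩ => ⟨inv_mem hx, by rw [inv_pow, hx', inv_one]⟩ }
  haveI : B.Normal := ⟨fun x ⟨hx, hx'⟩ g => ⟨(inferInstance : A'.Normal).conj_mem x hx g, by
    rw [conj_pow, hx', mul_one, mul_inv_cancel]⟩⟩
  have hBp : IsPGroup q B := fun x => ⟨1, Subtype.ext (by rw [pow_one, SubgroupClass.coe_pow]; exact x.2.2)⟩
  have hB := CfsgLib.le_pCore hBp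
  rw [h q hq] at hB
  have hmem : ((a : ↥M) : N) ∈ B := ⟨⟨(a : ↥M), a.2, rfl⟩, by
    have h := congrArg (fun z : ↥A => ((z : ↥M) : N)) (ha ▸ pow_orderOf_eq_one a : a ^ q = 1)
    simpa using h⟩
  have h1 := mem_bot.1 (hB hmem)
  rw [← Subgroup.orderOf_coe, ← Subgroup.orderOf_coe, h1, orderOf_one] at ha
  exact hq.ne_one ha.symm

/-- A four-group and a further involution centralising it give rank three. -/
theorem rank_three_false (h2 : Cfsg.PRankLE 2 2 K) {T : Subgroup K} {A : Subgroup K} (hAT : A ≤ T)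
    (hA : IsElem A) (hA4 : 4 ≤ Nat.card A) {b : K} (hb : b ^ 2 = 1) (hbT : b ∉ T)
    (hc : b ∈ centralizer (T : Set K)) : False := by
  set F := closure (insert b (A : Set K)) with hF
  haveI hcomm : IsMulCommutative ↥F := Subgroup.isMulCommutative_closure (by
    rintro x (rfl | hx) y (rfl | hy)
    · rfl
    · exact (hc y (hAT hy)).symm
    · exact hc x (hAT hx)
    · exact hA.2 x hx y hy)
  have hFe : ∀ x ∈ F, x ^ 2 = 1 := fun x hx => by
    induction hx using closure_induction with
    | mem x hx => rcases hx with rfl | hx; exacts [hb, hA.1 x hx]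
    | one => exact one_pow _
    | mul x y hx hy ihx ihy =>
      rw [(show Commute x y from congrArg Subtype.val (mul_comm' (⟨x, hx⟩ : ↥F) ⟨y, hy⟩)).mul_pow, ihx, ihy, one_mul]
    | inv x _ ihx => rw [inv_pow, ihx, inv_one]
  have h4 := h2 F hcomm hFe
  have hle : A ≤ F := fun x hx => subset_closure (Set.mem_insert_of_mem _ hx)
  have hne : A ≠ F := fun e => hbT (hAT (e ▸ subset_closure (Set.mem_insert _ _)))
  have h5 := card_le_of_le hle
  have h6 : Nat.card A ≠ Nat.card F := fun e => hne (eq_of_le_of_card_ge hle e.ge)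
  omega

theorem exists_order_four : ∃ w : SpecialLinearGroup (Fin 2) (ZMod 5), orderOf w = 4 :=
  ⟨⟨!![0, -1; 1, 0], by decide +kernel⟩,
    orderOf_eq_prime_pow (p := 2) (n := 1) (by decide +kernel) (by decide +kernel)⟩

/-- The case of a central involution. -/
theorem Hom.perfect_central (hK : Hom K) (hperf : commutator K = ⊤) {z : K} (hz : orderOf z = 2) (hzc : z ∈ center K) :
    Cfsg.IsQuasisimple K ∧ (∀ a : K, a ∈ center K → a ^ 2 = 1) ∧
      (center K ≠ ⊥ → ∃ k : K, orderOf k = 4) ∧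
      ∀ β : MulAut K, ∃ x : K, (β * MulAut.conj x) * (β * MulAut.conj x) = 1 := by
  classical
  haveI hP : Group.IsPerfect K := ⟨hperf⟩
  obtain ⟨F, hF, hFt, hcard, ⟨e⟩⟩ := hK.of_central_involution hperf hz hzc
  haveI : Fact (Nat.Prime 5) := ⟨by norm_num⟩
  let e5 : K ≃* SpecialLinearGroup (Fin 2) (ZMod 5) :=
    e.trans (slCongr (ZMod.ringEquivOfPrime F (by norm_num : (5 : ℕ).Prime) hcard).symm)
  have hperf5 : commutator (SpecialLinearGroup (Fin 2) (ZMod 5)) = ⊤ := by
    rw [_root_.commutator_def, ← Subgroup.map_top_of_surjective e5.toMonoidHom e5.surjective,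
      ← Subgroup.map_commutator, ← _root_.commutator_def, hperf]
  have hcK : (center K).map e5.toMonoidHom = center (SpecialLinearGroup (Fin 2) (ZMod 5)) := by
    ext x
    constructor
    · rintro ⟨a, ha, rfl⟩
      exact mem_center_iff.2 fun b => by
        rw [← e5.apply_symm_apply b]
        show e5 _ * e5 a = e5 a * e5 _
        rw [← map_mul, ← map_mul, mem_center_iff.1 ha]
    · exact fun hx => ⟨e5.symm x, mem_center_iff.2 fun b => e5.injective (by
        rw [map_mul, map_mul, e5.apply_symm_apply, mem_center_iff.1 hx]), e5.apply_symm_apply x⟩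
  refine ⟨⟨hP, ?_⟩, fun a ha => ?_, fun _ => ?_, aut_congr_involution e5 (sl_aut_involution hperf5)⟩
  · haveI : IsSimpleGroup (ProjectiveSpecialLinearGroup (Fin 2) (ZMod 5)) :=
      Matrix.ProjectiveSpecialLinearGroup.rank_two_simple (by rw [Nat.card_zmod]; norm_num)
    exact (QuotientGroup.congr _ _ e5 hcK).isSimpleGroup
  · refine e5.injective ?_
    rw [map_pow, map_one]
    have h1 : e5 a ∈ center (SpecialLinearGroup (Fin 2) (ZMod 5)) := hcK.le ⟨a, ha, rfl⟩
    obtain ⟨r, hr, hA⟩ := Matrix.SpecialLinearGroup.mem_center_iff.1 h1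
    have h2 : (e5 a).1 * (e5 a).1 = 1 := by
      rw [← hA, ← map_mul, ← pow_two, show r ^ 2 = 1 by simpa using hr, map_one]
    rw [pow_two]
    exact Subtype.ext h2
  · obtain ⟨w, hw⟩ := exists_order_four
    exact ⟨e5.symm w, by rw [MulEquiv.orderOf_eq, hw]⟩

/-- Without central involutions there is no normal two-subgroup. -/
theorem Hom.pCore_two_eq_bot (hK : Hom K) (hperf : commutator K = ⊤) (hcen : ∀ x : K, orderOf x = 2 → x ∉ center K)
    (h2 : Cfsg.PRankLE 2 2 K) (hinv : ∃ x : K, orderOf x = 2) : Cfsg.pCore 2 K = ⊥ := by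
  classical
  by_contra hne
  have hWp := CfsgLib.isPGroup_pCore (G := K) 2
  set W := Cfsg.pCore 2 K with hW
  haveI : Nontrivial ↥W := W.nontrivial_iff_ne_bot.2 hne
  haveI := hWp.center_nontrivial
  obtain ⟨n, hn, hcard⟩ := (hWp.to_subgroup (center ↥W)).nontrivial_iff_card.1 inferInstance
  obtain ⟨z, hz⟩ := exists_prime_orderOf_dvd_card' (G := ↥(center ↥W)) 2 (hcard ▸ dvd_pow_self 2 hn.ne')
  rw [← Subgroup.orderOf_coe, ← Subgroup.orderOf_coe] at hz
  have hxW : ∀ x : K, x ^ 2 = 1 → x ∈ W ∧ ∀ w ∈ W, w * x = x * w := by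
    intro x hx
    rcases eq_or_ne x 1 with rfl | hx1
    · exact ⟨one_mem _, by simp⟩
    obtain ⟨φ, hφ⟩ := hK.exists_map (x := (((z : ↥W)) : K)) (y := x) (hz.trans (orderOf_eq_prime hx hx1).symm)
    have hchar : W.map φ.toMonoidHom = W := characteristic_iff_map_eq.1 inferInstance φ
    refine ⟨hchar.le ⟨_, (z : ↥W).2, hφ⟩, fun w hw => ?_⟩
    obtain ⟨w', hw', rfl⟩ := hchar.ge hw
    rw [← hφ]
    show φ w' * φ _ = φ _ * φ w'
    rw [← map_mul, ← map_mul]
    exact congrArg φ (congrArg Subtype.val (mem_center_iff.1 z.2 ⟨w', hw'⟩))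
  let V : Subgroup K :=
    { carrier := {x | x ^ 2 = 1}
      one_mem' := one_pow 2
      mul_mem' := fun {a b} ha hb => by
        show (a * b) ^ 2 = 1
        rw [(show Commute a b from (hxW b hb).2 a (hxW a ha).1).mul_pow, ha, hb, one_mul]
      inv_mem' := fun {a} ha => by show a⁻¹ ^ 2 = 1; rw [inv_pow, ha, inv_one] }
  haveI : V.Normal := ⟨fun x hx g => by
    show (g * x * g⁻¹) ^ 2 = 1
    rw [conj_pow, show x ^ 2 = 1 from hx, mul_one, mul_inv_cancel]⟩
  have hV4 : Nat.card ↥V ≤ 2 ^ 2 :=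
    h2 V ⟨⟨fun a b => Subtype.ext ((hxW b b.2).2 a (hxW a a.2).1)⟩⟩ fun a ha => ha
  let X := {v : ↥V // v ≠ 1}
  haveI : Fintype X := Fintype.ofFinite X
  have hX : Fintype.card X ≤ 3 := by
    haveI : Fintype ↥V := Fintype.ofFinite _
    have h1 : Fintype.card X < Fintype.card ↥V := Fintype.card_subtype_lt (x := 1) (fun h => h rfl)
    rw [Nat.card_eq_fintype_card] at hV4
    omega
  haveI : Group.IsSolvable (Equiv.Perm X) := by
    haveI : Finite (Equiv.Perm X) := inferInstance
    have hc : Nat.card (Equiv.Perm X) = (Fintype.card X).factorial := by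
      rw [Nat.card_eq_fintype_card, Fintype.card_perm]
    have hcases : Fintype.card X = 0 ∨ Fintype.card X = 1 ∨ Fintype.card X = 2 ∨ Fintype.card X = 3 := by omega
    rcases hcases with h | h | h | h <;> rw [h] at hc
    · exact CfsgLib.CharTheory.isSolvable_of_card_two_primes (p := 2) (q := 3) (a := 0) (b := 0) Nat.prime_two Nat.prime_three hc
    · exact CfsgLib.CharTheory.isSolvable_of_card_two_primes (p := 2) (q := 3) (a := 0) (b := 0) Nat.prime_two Nat.prime_three hc
    · exact CfsgLib.CharTheory.isSolvable_of_card_two_primes (p := 2) (q := 3) (a := 1) (b := 0) Nat.prime_two Nat.prime_three hc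
    · exact CfsgLib.CharTheory.isSolvable_of_card_two_primes (p := 2) (q := 3) (a := 1) (b := 1) Nat.prime_two Nat.prime_three hc
  let ρ : K →* Equiv.Perm X := MonoidHom.mk'
    (fun g => Equiv.subtypeEquiv (MulAut.conjNormal g : ↥V ≃* ↥V).toEquiv fun v => by
      show v ≠ 1 ↔ MulAut.conjNormal g v ≠ 1
      rw [Ne, Ne, map_eq_one_iff _ (MulAut.conjNormal g : ↥V ≃* ↥V).injective])
    fun g h => Equiv.ext fun v => Subtype.ext (by
      show MulAut.conjNormal (g * h) v.1 = MulAut.conjNormal g (MulAut.conjNormal h v.1)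
      rw [map_mul, MulAut.mul_apply])
  obtain ⟨x, hx⟩ := hinv
  have hxV : x ∈ V := show x ^ 2 = 1 from hx ▸ pow_orderOf_eq_one x
  refine hcen x hx (mem_center_iff.2 fun g => ?_)
  have h1 := congrArg (fun f : Equiv.Perm X => (((f ⟨⟨x, hxV⟩, fun e => by
    have : x = 1 := congrArg Subtype.val e
    rw [this, orderOf_one] at hx
    omega⟩ : X) : ↥V) : K)) (perfect_solvable hperf ρ g)
  exact (mul_inv_eq_iff_eq_mul.1 (h1 : g * x * g⁻¹ = x))


/-- `PSL(2,5)` and `PSL(2,7)` over prime fields. -/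
theorem exists_prime_psl {M : Type*} [Group M] {F : Type} [Field F] [Fintype F]
    (hcard : Fintype.card F = 5 ∨ Fintype.card F = 7) (e : M ≃* ProjectiveSpecialLinearGroup (Fin 2) F) :
    ∃ p : ℕ, ∃ _ : Fact p.Prime, Nonempty (M ≃* ProjectiveSpecialLinearGroup (Fin 2) (ZMod p)) := by
  rcases hcard with h | h
  · haveI : Fact (Nat.Prime 5) := ⟨by norm_num⟩
    exact ⟨5, inferInstance, ⟨e.trans (pslCongr (ZMod.ringEquivOfPrime F (Fact.out : (5 : ℕ).Prime) h).symm)⟩⟩
  · haveI : Fact (Nat.Prime 7) := ⟨by norm_num⟩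
    exact ⟨7, inferInstance, ⟨e.trans (pslCongr (ZMod.ringEquivOfPrime F (Fact.out : (7 : ℕ).Prime) h).symm)⟩⟩

/-- A perfect homogeneous group with a simple characteristic subgroup of trivial centraliser. -/
theorem Hom.perfect_simple (hK : Hom K) (hSD : NoSemidihedral.{u}) (hperf : commutator K = ⊤) (T : Subgroup K)
    [T.Characteristic] [IsSimpleGroup ↥T] (hperfT : commutator ↥T = ⊤) (hcen0 : centralizer (T : Set K) = ⊥)
    (hcen : ∀ x : K, orderOf x = 2 → x ∉ center K) (hinv : ∃ x : K, orderOf x = 2) :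
    Cfsg.IsQuasisimple K ∧ (∀ a : K, a ∈ center K → a ^ 2 = 1) ∧
      (center K ≠ ⊥ → ∃ k : K, orderOf k = 4) ∧
      ∀ β : MulAut K, ∃ x : K, (β * MulAut.conj x) * (β * MulAut.conj x) = 1 := by
  haveI hP : Group.IsPerfect K := ⟨hperf⟩
  obtain ⟨F, hF, hFt, hcard, ⟨e⟩⟩ := (hK.of_char T).simple_cases hperfT (hSD ↥T (hK.of_char T))
  obtain ⟨p, hp, ⟨ep⟩⟩ := exists_prime_psl hcard e
  -- outer automorphisms commute, so the group is simple
  have htop : T = ⊤ := by
    refine eq_top_iff.2 fun k _ => ?_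
    let φ : K →* MulAut ↥T := MulAut.conjNormal
    set I := (MulAut.conj : ↥T →* MulAut ↥T).range with hI
    haveI : I.Normal := ⟨fun γ ⟨t, ht⟩ α => ⟨α t, by
      rw [← ht]
      ext x
      simp [MulAut.conj_apply, MulAut.mul_apply]⟩⟩
    have h := perfect_comm hperf ((QuotientGroup.mk' I).comp φ) (fun a b => by
      rw [← commutatorElement_eq_one_iff_mul_comm, ← map_commutatorElement, MonoidHom.comp_apply,
        map_commutatorElement φ, QuotientGroup.mk'_apply, QuotientGroup.eq_one_iff]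
      obtain ⟨x, hx⟩ := aut_congr_commutator ep psl_aut_commutator (φ a) (φ b)
      exact ⟨x, hx.symm⟩) k
    obtain ⟨t, ht⟩ := (QuotientGroup.eq_one_iff _).1 h
    have hc : (t : K)⁻¹ * k ∈ centralizer (T : Set K) := fun x hx => by
      have h1 := congrArg (fun f : MulAut ↥T => ((f ⟨x, hx⟩ : ↥T) : K)) ht
      simp only [φ, MulAut.conjNormal_apply, MulAut.conj_apply, Subgroup.coe_mul, Subgroup.coe_inv] at h1
      calc x * ((t : K)⁻¹ * k) = (t : K)⁻¹ * (t * x * (t : K)⁻¹) * k := by group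
        _ = (t : K)⁻¹ * (k * x * k⁻¹) * k := by rw [h1]
        _ = _ := by group
    rw [hcen0, mem_bot, inv_mul_eq_one] at hc
    exact hc ▸ t.2
  subst htop
  let eK : K ≃* ProjectiveSpecialLinearGroup (Fin 2) (ZMod p) := Subgroup.topEquiv.symm.trans ep
  haveI : IsSimpleGroup K := (Subgroup.topEquiv (G := K)).symm.isSimpleGroup
  have hZ : center K = ⊥ := (inferInstance : (center K).Normal).eq_bot_or_eq_top.resolve_right fun h => by
    obtain ⟨z, hz⟩ := hinv
    exact hcen z hz (h ▸ mem_top z)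
  refine ⟨⟨hP, ((QuotientGroup.quotientMulEquivOfEq hZ).trans QuotientGroup.quotientBot).isSimpleGroup⟩,
    fun a ha => ?_, fun h => absurd hZ h, aut_congr_involution eK psl_aut_involution⟩
  rw [hZ, mem_bot] at ha
  rw [ha, one_pow]

/-- A perfect homogeneous group is quasisimple, of one of three types. -/
theorem Hom.perfect_cases (hK : Hom K) (hSD : NoSemidihedral.{u}) (hperf : commutator K = ⊤) [Nontrivial K] :
    Cfsg.IsQuasisimple K ∧ (∀ a : K, a ∈ center K → a ^ 2 = 1) ∧
      (center K ≠ ⊥ → ∃ k : K, orderOf k = 4) ∧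
      ∀ β : MulAut K, ∃ x : K, (β * MulAut.conj x) * (β * MulAut.conj x) = 1 := by
  classical
  haveI hP : Group.IsPerfect K := ⟨hperf⟩
  by_cases hcen : ∃ z : K, orderOf z = 2 ∧ z ∈ center K
  · obtain ⟨z, hz, hzc⟩ := hcen
    exact hK.perfect_central hperf hz hzc
  · push Not at hcen
    have hO := hK.oddCore_eq_bot hperf
    have h2 := hK.pRankLE_two hO hcen
    have hinv : ∃ x : K, orderOf x = 2 := exists_prime_orderOf_dvd_card' 2 (two_dvd_card hperf)
    -- no normal 2-subgroup
    have hO2 : Cfsg.pCore 2 K = ⊥ := hK.pCore_two_eq_bot hperf hcen h2 hinv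
    have hcores : ∀ q : ℕ, q.Prime → Cfsg.pCore q K = ⊥ := fun q hq => by
      haveI := Fact.mk hq
      rcases eq_or_ne q 2 with rfl | hq2
      · exact hO2
      · exact hK.pCore_eq_bot hperf hq2
    have hsolv : ∀ (M : Subgroup K) [M.Normal] [Group.IsSolvable ↥M], M = ⊥ := fun M _ _ =>
      solvable_normal_eq_bot hcores M
    -- a minimal normal subgroup and one inside it
    obtain ⟨N, ⟨hNn, hNne⟩, hNmin⟩ := Set.Finite.exists_minimal
      (Set.toFinite {N : Subgroup K | N.Normal ∧ N ≠ ⊥}) ⟨⊤, inferInstance, top_ne_bot⟩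
    haveI := hNn
    obtain ⟨T, ⟨hTN, hTn, hTne⟩, hTmin⟩ := Set.Finite.exists_minimal
      (Set.toFinite {T : Subgroup K | T ≤ N ∧ (T.subgroupOf N).Normal ∧ T ≠ ⊥})
      ⟨N, le_rfl, by rw [subgroupOf_self]; infer_instance, hNne⟩
    haveI := hTn
    -- normal subgroups of `N` with soluble structure are trivial
    have hnsol : ∀ (M : Subgroup ↥N) [M.Normal] [Group.IsSolvable ↥M], M = ⊥ := fun M _ _ =>
      solvable_normal_eq_bot (fun q hq => by
        have hle := CfsgLib.le_pCore (G := K) (N := (Cfsg.pCore q ↥N).map N.subtype)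
          ((CfsgLib.isPGroup_pCore q).map _)
        rwa [hcores q hq, le_bot_iff, map_eq_bot_iff_of_injective _ N.subtype_injective] at hle) M
    -- `T` is perfect with trivial core and centre
    set T₁ := T.subgroupOf N with hT₁
    have hT₁ne : T₁ ≠ ⊥ := fun e => hTne (by
      rw [← subgroupOf_map_subtype T N |>.trans (inf_of_le_left hTN), ← hT₁, e, Subgroup.map_bot])
    haveI : Nontrivial ↥T₁ := (nontrivial_iff_ne_bot _).2 hT₁ne
    have hTmin' : ∀ M : Subgroup ↥T₁, M.Characteristic → M = ⊥ ∨ M = ⊤ := by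
      intro M hM
      haveI : (M.map T₁.subtype).Normal := inferInstance
      refine or_iff_not_imp_left.2 fun hne => ?_
      have hmap : (M.map T₁.subtype).map N.subtype ≤ T := by
        rintro _ ⟨_, ⟨x, -, rfl⟩, rfl⟩
        exact mem_subgroupOf.1 x.2
      have := hTmin (y := (M.map T₁.subtype).map N.subtype)
        ⟨hmap.trans hTN, by rw [show ((M.map T₁.subtype).map N.subtype).subgroupOf N = M.map T₁.subtype from
          comap_map_eq_self_of_injective N.subtype_injective _]; infer_instance, fun e => hne (by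
          rwa [map_eq_bot_iff_of_injective _ N.subtype_injective,
            map_eq_bot_iff_of_injective _ T₁.subtype_injective] at e)⟩ hmap
      refine eq_top_iff.2 fun x _ => ?_
      obtain ⟨_, ⟨y, hy, rfl⟩, hyx⟩ := this (mem_subgroupOf.1 x.2)
      obtain rfl : y = x := T₁.subtype_injective (N.subtype_injective hyx)
      exact hy
    have hTperf : commutator ↥T₁ = ⊤ := by
      refine (hTmin' _ inferInstance).resolve_left fun h => hT₁ne ?_
      haveI : Group.IsSolvable ↥T₁ := ⟨1, by rw [derivedSeries_one, h]⟩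
      exact hnsol T₁
    have hTcen : center ↥T₁ = ⊥ := (hTmin' _ inferInstance).resolve_right fun h => hT₁ne (by
      haveI : Group.IsSolvable ↥T₁ := Group.isSolvable_of_comm fun a b => mem_center_iff.1 (h ▸ mem_top b) a
      exact hnsol T₁)
    have hTO : Cfsg.oddCore ↥T₁ = ⊥ := by
      refine (hTmin' _ inferInstance).resolve_right fun h => hT₁ne ?_
      haveI : Group.IsSolvable ↥T₁ := by
        refine Cfsg.Agent.S0205.result ?_
        have := CfsgLib.odd_card_oddCore (G := ↥T₁)
        rwa [h, Nat.card_congr Subgroup.topEquiv.toEquiv] at this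
      exact hnsol T₁
    have h4 : ∃ A : Subgroup K, A ≤ T ∧ IsElem A ∧ 4 ≤ Nat.card A := by
      by_contra hno
      push Not at hno
      have h1 : Cfsg.PRankLE 2 1 ↥T₁ := fun A hA hA2 => by
        have hle : (A.map T₁.subtype).map N.subtype ≤ T := by
          rintro _ ⟨_, ⟨x, -, rfl⟩, rfl⟩
          exact mem_subgroupOf.1 x.2
        have hel : IsElem ((A.map T₁.subtype).map N.subtype) := by
          constructor
          · rintro _ ⟨_, ⟨x, hx, rfl⟩, rfl⟩
            rw [← map_pow, ← map_pow, hA2 x hx, map_one, map_one]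
          · rintro _ ⟨_, ⟨x, hx, rfl⟩, rfl⟩ _ ⟨_, ⟨y, hy, rfl⟩, rfl⟩
            rw [← map_mul, ← map_mul, ← map_mul, ← map_mul,
              show x * y = y * x from congrArg Subtype.val (mul_comm' (⟨x, hx⟩ : ↥A) ⟨y, hy⟩)]
        have h := hno _ hle hel
        rw [card_map_of_injective N.subtype_injective, card_map_of_injective T₁.subtype_injective] at h
        obtain ⟨k, hk⟩ := IsPGroup.iff_card.1 (fun a => ⟨1, Subtype.ext (hA2 a a.2)⟩ : IsPGroup 2 A)
        rw [hk] at h ⊢
        exact Nat.pow_le_pow_right two_pos (by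
          by_contra hlt
          push Not at hlt
          have : (2 : ℕ) ^ 2 ≤ 2 ^ k := Nat.pow_le_pow_right two_pos hlt
          omega)
      let e₀ : ↥T₁ ⧸ Cfsg.oddCore ↥T₁ ≃* ↥T₁ :=
        (QuotientGroup.quotientMulEquivOfEq hTO).trans QuotientGroup.quotientBot
      haveI hTP : Group.IsPerfect ↥T₁ := ⟨hTperf⟩
      rcases Cfsg.Agent.S3099.result hTP h1 (even_iff_two_dvd.2 (two_dvd_card hTperf)) with
        ⟨F, hF, hFt, hodd, h3, ⟨e⟩⟩ | ⟨hc, -, -⟩
      · have hz : (-1 : SpecialLinearGroup (Fin 2) F) ∈ center (SpecialLinearGroup (Fin 2) F) :=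
          mem_center_iff.2 fun A => by simp
        have h2 : (e₀.symm.trans e).symm (-1) ∈ center ↥T₁ := mem_center_iff.2 fun a => by
          apply (e₀.symm.trans e).injective
          rw [map_mul, map_mul, MulEquiv.apply_symm_apply, mem_center_iff.1 hz]
        rw [hTcen, mem_bot, MulEquiv.symm_apply_eq, map_one] at h2
        have h3' := congrFun (congrFun (congrArg Subtype.val h2) 0) 0
        simp at h3'
        obtain ⟨q, hchar⟩ := CharP.exists F
        obtain ⟨f, hq, hFc⟩ := FiniteField.card F q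
        have h22 : (2 : F) = 0 := by linear_combination -h3'
        have hq2 : q = 2 := (Nat.prime_dvd_prime_iff_eq hq Nat.prime_two).1
          ((CharP.cast_eq_zero_iff F q 2).1 (by exact_mod_cast h22))
        rw [hFc, hq2] at hodd
        exact Nat.not_even_iff_odd.2 hodd (Nat.even_pow.2 ⟨even_two, f.pos.ne'⟩)
      · have hc' : Nat.card (center ↥T₁) = 2 := by
          rw [← hc]
          refine Nat.card_congr ((Subgroup.equivMapOfInjective (center ↥T₁) e₀.symm.toMonoidHom
            e₀.symm.injective).trans (MulEquiv.subgroupCongr ?_)).toEquiv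
          ext x
          constructor
          · rintro ⟨a, ha, rfl⟩
            exact mem_center_iff.2 fun b => by
              rw [← e₀.symm.apply_symm_apply b]
              show e₀.symm _ * e₀.symm a = e₀.symm a * e₀.symm _
              rw [← map_mul, ← map_mul, mem_center_iff.1 ha]
          · exact fun hx => ⟨e₀ x, mem_center_iff.2 fun b => e₀.symm.injective (by
              rw [map_mul, map_mul, e₀.symm_apply_apply, mem_center_iff.1 hx]), e₀.symm_apply_apply x⟩
        rw [hTcen, card_bot] at hc'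
        omega
    obtain ⟨A, hAT, hA, hA4⟩ := h4
    -- centralisers of `T` are trivial
    have hC0 : ∀ M : Subgroup K, M.Normal → M ≤ centralizer (T : Set K) → M = ⊥ := by
      intro M hM hMC
      by_contra hne
      haveI := hM
      have hodd : ¬ 2 ∣ Nat.card M := fun hd => by
        obtain ⟨b, hb⟩ := exists_prime_orderOf_dvd_card' (G := ↥M) 2 hd
        rw [← Subgroup.orderOf_coe] at hb
        refine rank_three_false h2 hAT hA hA4 (hb ▸ pow_orderOf_eq_one (b : K)) (fun hbT => ?_) (hMC b.2)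
        have : (⟨⟨(b : K), hTN hbT⟩, mem_subgroupOf.2 hbT⟩ : ↥T₁) ∈ center ↥T₁ := mem_center_iff.2 fun x =>
          Subtype.ext (Subtype.ext (hMC b.2 _ (mem_subgroupOf.1 x.2)))
        rw [hTcen, mem_bot] at this
        have h1 : (b : K) = 1 := congrArg (fun z : ↥T₁ => (((z : ↥N)) : K)) this
        rw [h1, orderOf_one] at hb
        omega
      haveI : Group.IsSolvable ↥M := Cfsg.Agent.S0205.result (Nat.odd_iff.2 (by omega))
      exact hne (hsolv M)
    have hC1 : ∀ M : Subgroup ↥N, M.Normal → M.map N.subtype ≤ centralizer (T : Set K) → M = ⊥ := by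
      intro M hM hMC
      by_contra hne
      haveI := hM
      have hodd : ¬ 2 ∣ Nat.card M := fun hd => by
        obtain ⟨b, hb⟩ := exists_prime_orderOf_dvd_card' (G := ↥M) 2 hd
        rw [← Subgroup.orderOf_coe, ← Subgroup.orderOf_coe] at hb
        have hbC := hMC (mem_map_of_mem N.subtype b.2)
        refine rank_three_false h2 hAT hA hA4 (hb ▸ pow_orderOf_eq_one ((b : ↥N) : K)) (fun hbT => ?_) hbC
        have : (⟨(b : ↥N), mem_subgroupOf.2 hbT⟩ : ↥T₁) ∈ center ↥T₁ := mem_center_iff.2 fun x =>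
          Subtype.ext (Subtype.ext (hbC _ (mem_subgroupOf.1 x.2)))
        rw [hTcen, mem_bot] at this
        have h1 : ((b : ↥N) : K) = 1 := congrArg (fun z : ↥T₁ => (((z : ↥N)) : K)) this
        rw [h1, orderOf_one] at hb
        omega
      haveI : Group.IsSolvable ↥M := Cfsg.Agent.S0205.result (Nat.odd_iff.2 (by omega))
      exact hne (hnsol M)
    -- `T` is normal, so `N` is simple
    have hTN' : T = N := by
      refine le_antisymm hTN (hNmin ⟨⟨fun t ht g => ?_⟩, hTne⟩ hTN)
      set ψ : MulAut ↥N := MulAut.conjNormal g with hψ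
      set T₂ := T₁.map ψ.toMonoidHom with hT₂
      haveI : T₂.Normal := Subgroup.Normal.map hTn _ ψ.surjective
      suffices T₂ ≤ T₁ by
        exact mem_subgroupOf.1 (this ⟨⟨t, hTN ht⟩, mem_subgroupOf.2 ht, rfl⟩)
      by_contra hnle
      have hI : T₂ ⊓ T₁ = ⊥ := by
        by_contra hI
        refine hnle (inf_eq_left.1 (le_antisymm inf_le_left fun x hx => ⟨hx, ?_⟩))
        have hmap : (T₂ ⊓ T₁).map N.subtype ≤ T := by
          rintro _ ⟨y, hy, rfl⟩
          exact mem_subgroupOf.1 hy.2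
        have h := hTmin (y := (T₂ ⊓ T₁).map N.subtype) ⟨hmap.trans hTN, by
          rw [show ((T₂ ⊓ T₁).map N.subtype).subgroupOf N = T₂ ⊓ T₁ from
            comap_map_eq_self_of_injective N.subtype_injective _]
          infer_instance, fun e => hI (by rwa [map_eq_bot_iff_of_injective _ N.subtype_injective] at e)⟩ hmap
        have hle : T₁ ≤ T₂ := fun y hy => by
          obtain ⟨z, hz, hzy⟩ := h (mem_subgroupOf.1 hy)
          exact (N.subtype_injective hzy) ▸ hz.1
        have := eq_of_le_of_card_ge hle (card_map_of_injective ψ.injective).le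
        rwa [this]
      have h0 : T₂ = ⊥ := by
        refine hC1 T₂ inferInstance ?_
        rintro _ ⟨x, hx, rfl⟩ y hy
        have hdis : Disjoint T₁ T₂ := disjoint_iff.2 (by rw [inf_comm]; exact hI)
        have hyT : (⟨y, hTN hy⟩ : ↥N) ∈ T₁ := mem_subgroupOf.2 hy
        have hcm : (⟨y, hTN hy⟩ : ↥N) * x = x * ⟨y, hTN hy⟩ :=
          (Subgroup.commute_of_normal_of_disjoint T₁ T₂ hTn inferInstance hdis _ x hyT hx).eq
        exact congrArg (fun z : ↥N => (z : K)) hcm
      exact hT₁ne ((map_eq_bot_iff_of_injective _ ψ.injective).1 h0)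
    subst hTN'
    haveI hsimple : IsSimpleGroup ↥T := by
      haveI : Nontrivial ↥T := (nontrivial_iff_ne_bot _).2 hTne
      refine ⟨fun M hM => or_iff_not_imp_left.2 fun hne => ?_⟩
      have := hTmin (y := M.map T.subtype) ⟨map_subtype_le M, by
        rw [show (M.map T.subtype).subgroupOf T = M from comap_map_eq_self_of_injective T.subtype_injective _]
        exact hM, fun e => hne (by rwa [map_eq_bot_iff_of_injective _ T.subtype_injective] at e)⟩ (map_subtype_le M)
      refine eq_top_iff.2 fun x _ => ?_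
      obtain ⟨y, hy, hyx⟩ := this x.2
      exact (T.subtype_injective hyx) ▸ hy
    have hcen0 : centralizer (T : Set K) = ⊥ := hC0 _ inferInstance le_rfl
    haveI hchar : T.Characteristic := characteristic_iff_map_le.2 fun φ => by
      haveI : (T.map φ.toMonoidHom).Normal := Subgroup.Normal.map hNn _ φ.surjective
      by_contra hnle
      have hI : T.map φ.toMonoidHom ⊓ T = ⊥ := by
        by_contra hI
        have h := hNmin (y := T.map φ.toMonoidHom ⊓ T) ⟨inferInstance, hI⟩ inf_le_right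
        have hle : T ≤ T.map φ.toMonoidHom := fun x hx => (h hx).1
        exact hnle (eq_of_le_of_card_ge hle (card_map_of_injective φ.injective).le).ge
      have h1 : T.map φ.toMonoidHom ≤ centralizer (T : Set K) := fun x hx y hy =>
        (Subgroup.commute_of_normal_of_disjoint T (T.map φ.toMonoidHom) hNn inferInstance
          (disjoint_iff.2 (by rw [inf_comm]; exact hI)) y x hy hx).eq
      rw [hcen0, le_bot_iff, map_eq_bot_iff_of_injective _ φ.injective] at h1
      exact hTne h1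
    have hperfT : commutator ↥T = ⊤ := by
      refine ((inferInstance : (commutator ↥T).Normal).eq_bot_or_eq_top).resolve_left fun h => ?_
      haveI : Group.IsSolvable ↥T := ⟨1, by rw [derivedSeries_one, h]⟩
      exact hTne (hsolv T)
    exact hK.perfect_simple hSD hperf T hperfT hcen0 hcen hinv

/-! ### The decomposition -/

variable {G : Type u} [Group G] [Finite G]

theorem Hom.split (hG : Hom G) (hSD : NoSemidihedral.{u}) :
    ∃ H K : Subgroup G, H.Normal ∧ K.Normal ∧ H ⊓ K = ⊥ ∧ H ⊔ K = ⊤ ∧ (Nat.card ↥H).Coprime (Nat.card ↥K) ∧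
      Group.IsSolvable ↥H ∧ (K = ⊥ ∨ Cfsg.IsQuasisimple ↥K) ∧ Hom ↥H ∧ Hom ↥K := by
  classical
  -- the last derived subgroup
  obtain ⟨n, hn⟩ : ∃ n, derivedSeries G (n + 1) = derivedSeries G n := by
    by_contra hno
    push Not at hno
    have hlt : ∀ n, Nat.card (derivedSeries G n) + n ≤ Nat.card G := by
      intro n
      induction n with
      | zero => rw [derivedSeries_zero, Nat.card_congr Subgroup.topEquiv.toEquiv]; omega
      | succ n ih =>
        have hle : derivedSeries G (n + 1) ≤ derivedSeries G n := derivedSeries_antitone G (Nat.le_succ n)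
        have h1 := card_le_of_le hle
        have h2 : Nat.card (derivedSeries G (n + 1)) ≠ Nat.card (derivedSeries G n) := fun e =>
          hno n (eq_of_le_of_card_ge hle e.ge)
        omega
    have := hlt (Nat.card G)
    have := Nat.card_pos (α := derivedSeries G (Nat.card G))
    omega
  set K := derivedSeries G n with hKdef
  haveI : K.Characteristic := derivedSeries_characteristic G n
  have hKh : Hom ↥K := hG.of_char K
  have hperf : commutator ↥K = ⊤ := by
    refine map_injective K.subtype_injective ?_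
    rw [map_subtype_commutator, ← MonoidHom.range_eq_map, Subgroup.range_subtype]
    rw [derivedSeries_succ] at hn
    exact hn
  by_cases hK1 : K = ⊥
  · haveI : Group.IsSolvable G := ⟨n, hK1⟩
    refine ⟨⊤, ⊥, inferInstance, inferInstance, inf_bot_eq ⊤, sup_bot_eq ⊤, ?_, inferInstance, Or.inl rfl,
      hG.of_equiv Subgroup.topEquiv.symm, hG.of_char ⊥⟩
    rw [card_bot]
    exact Nat.coprime_one_right _
  haveI : Nontrivial ↥K := (nontrivial_iff_ne_bot _).2 hK1
  obtain ⟨hqs, hsq, hfour, hinvol⟩ := hKh.perfect_cases hSD hperf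
  set C := centralizer (K : Set G) with hC
  haveI : C.Normal := inferInstance
  -- elements of prime order dividing the order of `K`
  have hprime : ∀ (p : ℕ) (g : G), p.Prime → p ∣ Nat.card K → orderOf g = p → g ∈ K := by
    intro p g hp hd hg
    haveI := Fact.mk hp
    obtain ⟨k, hk⟩ := exists_prime_orderOf_dvd_card' (G := ↥K) p hd
    obtain ⟨φ, rfl⟩ := hG.exists_map ((Subgroup.orderOf_coe k).trans (hk.trans hg.symm))
    exact (characteristic_iff_map_eq.1 inferInstance φ : K.map φ.toMonoidHom = K).le ⟨k, k.2, rfl⟩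
  have h2K : 2 ∣ Nat.card K := two_dvd_card hperf
  have hZC : ∀ g ∈ C, g ∈ K → g ^ 2 = 1 := fun g hgC hgK => by
    have h := hsq ⟨g, hgK⟩ (mem_center_iff.2 fun x => Subtype.ext (hgC x x.2))
    exact congrArg Subtype.val h
  -- two-elements with square in the centraliser
  have hsmall : ∀ g : G, g ^ 2 ∈ C → g ^ 2 ∈ K → g ∈ K := by
    intro g hgC hgK
    have h4 := hZC _ hgC hgK
    rcases eq_or_ne (g ^ 2) 1 with h | h
    · rcases eq_or_ne g 1 with rfl | hg1
      · exact one_mem _
      · exact hprime 2 g Nat.prime_two h2K (orderOf_eq_prime h hg1)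
    · have hZ : center ↥K ≠ ⊥ := fun hb => by
        have : (⟨g ^ 2, hgK⟩ : ↥K) ∈ center ↥K := mem_center_iff.2 fun x => Subtype.ext (hgC x x.2)
        rw [hb, mem_bot] at this
        exact h (congrArg Subtype.val this)
      obtain ⟨k, hk⟩ := hfour hZ
      have hg4 : orderOf g = 4 := orderOf_eq_prime_pow (p := 2) (n := 1) (by simpa using h)
        (by rw [show 2 ^ (1 + 1) = 2 * 2 by norm_num, pow_mul]; exact h4)
      obtain ⟨φ, rfl⟩ := hG.exists_map ((Subgroup.orderOf_coe k).trans (hk.trans hg4.symm))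
      exact (characteristic_iff_map_eq.1 inferInstance φ : K.map φ.toMonoidHom = K).le ⟨k, k.2, rfl⟩
  have htwo : ∀ (k : ℕ) (g : G), g ∈ C → g ^ 2 ^ k = 1 → g ∈ K := by
    intro k
    induction k with
    | zero => intro g _ hg; rw [pow_zero, pow_one] at hg; rw [hg]; exact one_mem _
    | succ k ih =>
      intro g hgC hg
      exact hsmall g (pow_mem hgC 2) (ih _ (pow_mem hgC 2) (by rw [← pow_mul, ← pow_succ']; exact hg))
  -- no outer part
  have hKC : K ⊔ C = ⊤ := by
    refine eq_top_iff.2 fun g _ => ?_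
    let φ : G →* MulAut ↥K := MulAut.conjNormal
    obtain ⟨x, hx⟩ := hinvol (φ g)
    have hφx : φ (g * x) = φ g * MulAut.conj x := by
      rw [map_mul]
      refine congrArg (φ g * ·) (MulEquiv.ext fun a => Subtype.ext ?_)
      rw [MulAut.conj_apply]
      rfl
    rw [← hφx] at hx
    obtain ⟨w, hw, k, hk⟩ := exists_coprime_pow (p := 2) (g * x)
    obtain ⟨j, hj⟩ := Nat.coprime_two_right.1 hw
    have hsame : φ ((g * x) ^ w) = φ (g * x) := by
      rw [map_pow, hj, pow_succ, pow_mul, pow_two, hx, one_pow, one_mul]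
    have hyC : ∀ y : G, φ y = 1 → y ∈ C := fun y hy a ha => by
      have h1 := congrArg (fun f : MulAut ↥K => ((f ⟨a, ha⟩ : ↥K) : G)) hy
      exact (mul_inv_eq_iff_eq_mul.1 (h1 : y * a * y⁻¹ = a)).symm
    set y := (g * x) ^ w with hy
    have hy2 : y ^ 2 ∈ C := hyC _ (by rw [map_pow, hsame, pow_two, hx])
    have hyK : y ∈ K := hsmall y hy2 (htwo k (y ^ 2) hy2 (by rw [← pow_mul, mul_comm, pow_mul, hk, one_pow]))
    have hc : y⁻¹ * (g * x) ∈ C := hyC _ (by rw [map_mul, map_inv, hsame, inv_mul_cancel])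
    rw [show g = y * (y⁻¹ * (g * x)) * (x : G)⁻¹ by group]
    exact mul_mem (mul_mem (mem_sup_left hyK) (mem_sup_right hc)) (mem_sup_left (inv_mem x.2))
  -- the centre of `K` inside the centraliser
  set Z := K ⊓ C with hZdef
  have hm : (Z.relIndex C).Coprime 2 := by
    rw [Nat.coprime_two_right, ← Nat.not_even_iff_odd, even_iff_two_dvd]
    intro hd
    haveI : (Z.subgroupOf C).Normal := inferInstance
    rw [relIndex, index_eq_card] at hd
    obtain ⟨q, hq⟩ := exists_prime_orderOf_dvd_card' (G := ↥C ⧸ Z.subgroupOf C) 2 hd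
    obtain ⟨c, rfl⟩ := QuotientGroup.mk_surjective q
    obtain ⟨w, hw, k, hk⟩ := exists_coprime_pow (p := 2) c
    have h1 : c ^ w ∈ Z.subgroupOf C :=
      mem_subgroupOf.2 ⟨htwo k _ (c ^ w).2 (by simpa using congrArg Subtype.val hk), (c ^ w).2⟩
    rw [← QuotientGroup.eq_one_iff, QuotientGroup.mk_pow] at h1
    have h3 := Nat.eq_one_of_dvd_coprimes hw.symm (hq ▸ dvd_rfl : orderOf (c : ↥C ⧸ Z.subgroupOf C) ∣ 2)
      (orderOf_dvd_of_pow_eq_one h1)
    omega
  obtain ⟨hpow, hmul⟩ := pow_mul_of_central_coprime (p := 2) (V := Z) (C := C) inf_le_right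
    (fun c hc z hz => hc z hz.1) hm
  set m := Z.relIndex C
  let H : Subgroup G :=
    { carrier := {c | c ∈ C ∧ c ^ m = 1}
      one_mem' := ⟨one_mem _, one_pow m⟩
      mul_mem' := fun {a b} ⟨ha, ha'⟩ ⟨hb, hb'⟩ => ⟨mul_mem ha hb, by rw [hmul a ha b hb, ha', hb', one_mul]⟩
      inv_mem' := fun {a} ⟨ha, ha'⟩ => ⟨inv_mem ha, by rw [inv_pow, ha', inv_one]⟩ }
  haveI hHc : H.Characteristic := characteristic_iff_map_le.2 fun φ => by
    rintro _ ⟨c, ⟨hcC, hcm⟩, rfl⟩
    refine ⟨fun a ha => ?_, by rw [MulEquiv.coe_toMonoidHom, ← map_pow, hcm, map_one]⟩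
    obtain ⟨b, hb, rfl⟩ := (characteristic_iff_map_eq.1 inferInstance φ : K.map φ.toMonoidHom = K).ge ha
    show φ b * φ c = φ c * φ b
    rw [← map_mul, ← map_mul, hcC b hb]
  obtain ⟨j, hj⟩ := Nat.coprime_two_right.1 hm
  have hZm : ∀ z ∈ Z, z ^ m = z := fun z hz => by
    rw [hj, pow_succ, pow_mul, hZC z hz.2 hz.1, one_pow, one_mul]
  have hHK : H ⊓ K = ⊥ := eq_bot_iff.2 fun c ⟨⟨hcC, hcm⟩, hcK⟩ => by
    rw [mem_bot, ← hZm c ⟨hcK, hcC⟩, hcm]
  have hcop : (Nat.card ↥H).Coprime (Nat.card ↥K) := by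
    refine Nat.coprime_of_dvd fun p hp hpH hpK => ?_
    haveI := Fact.mk hp
    obtain ⟨c, hc⟩ := exists_prime_orderOf_dvd_card' (G := ↥H) p hpH
    rw [← Subgroup.orderOf_coe] at hc
    have h1 : (c : G) ∈ H ⊓ K := ⟨c.2, hprime p c hp hpK hc⟩
    rw [hHK, mem_bot] at h1
    rw [h1, orderOf_one] at hc
    exact hp.ne_one hc.symm
  have hodd : Odd (Nat.card ↥H) := by
    rw [← Nat.not_even_iff_odd, even_iff_two_dvd]
    intro h
    have := Nat.eq_one_of_dvd_coprimes hcop h h2K
    omega
  refine ⟨H, K, inferInstance, inferInstance, hHK, ?_, hcop, Cfsg.Agent.S0205.result hodd, Or.inr hqs,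
    hG.of_char H, hKh⟩
  refine eq_top_iff.2 fun g _ => ?_
  obtain ⟨k, hk, c, hc, rfl⟩ := mem_sup_of_normal_right.1 (hKC.symm ▸ mem_top g)
  refine mul_mem (mem_sup_right hk) ?_
  have hz := hpow c hc
  rw [show c = (c * c ^ m) * (c ^ m)⁻¹ from (mul_inv_cancel_right _ _).symm]
  refine mul_mem (mem_sup_left ⟨mul_mem hc hz.2, ?_⟩) (mem_sup_right (inv_mem hz.1))
  rw [hmul c hc _ hz.2, hZm _ hz, ← pow_two, hZC _ hz.2 hz.1]

end CfsgLib.Homogeneous
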